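import Mathlib
import Cfsg.Prelude.Def_LocalStructure
import Cfsg.Agent.H23.MinPBase

/-!
# S3875-FIX (helper70, piece for helper23): in a minimal non-`p`-closed group `H = Q P` with `Q` a
normal Sylow `q`-subgroup and `|P| = p`, the centre of `Q` has order a prime power `≡ 1 mod p`.
-/

set_option autoImplicit false
set_option linter.unusedVariables false

namespace Cfsg.Agent.H70.P3Fix

open MulAction

/-- an invariant subset without fixed points under a `p`-group has cardinality divisible by `p` -/
theorem dvd_ncard_of_invariant {P X : Type*} [Group P] [MulAction P X] [Finite X] {p : ℕ}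
    [Fact p.Prime] (hP : IsPGroup p P) (Y : Set X) (hY : ∀ g : P, ∀ y ∈ Y, g • y ∈ Y)
    (hfix : ∀ y ∈ Y, ¬ ∀ g : P, g • y = y) : p ∣ Y.ncard := by
  let S : SubMulAction P X := ⟨Y, fun g y hy => hY g y hy⟩
  have hfin : Finite ↥S := Finite.of_injective (fun x : ↥S => (x : X)) Subtype.val_injective
  have h := hP.card_modEq_card_fixedPoints ↥S
  have hemp : IsEmpty ↥(fixedPoints P ↥S) :=
    ⟨fun a => hfix a.1.1 a.1.2 (fun g => congrArg Subtype.val (a.2 g))⟩
  have h0 : Nat.card ↥(fixedPoints P ↥S) = 0 := Nat.card_of_isEmpty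
  rw [h0] at h
  have h2 : p ∣ Nat.card ↥S := (Nat.modEq_zero_iff_dvd).1 h
  have h3 : Nat.card ↥S = Y.ncard := Nat.card_coe_set_eq Y
  rwa [h3] at h2

theorem exists_primePow_le {H : Type} [Group H] [Finite H] (p : ℕ) [Fact p.Prime]
    (hmin : ∀ (K : Type) [Group K] [Finite K], Nat.card K < Nat.card H → Cfsg.IsPClosed p K)
    (P : Sylow p H) (hP : Nat.card (P : Subgroup H) = p) (hPn : ¬ (P : Subgroup H).Normal)
    (q : ℕ) [Fact q.Prime] (hq : q ≠ p) (Q : Sylow q H) (hQ : (Q : Subgroup H).Normal)
    (hQP : (Q : Subgroup H) ⊔ (P : Subgroup H) = ⊤) :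
    ∃ k : ℕ, IsPrimePow k ∧ k % p = 1 ∧ k ≤ Nat.card (Q : Subgroup H) := by
  have hp : p.Prime := Fact.out
  have hqp : q.Prime := Fact.out
  have hQne : (Q : Subgroup H) ≠ ⊥ := by
    intro h
    rw [h, bot_sup_eq] at hQP
    apply hPn
    rw [hQP]
    infer_instance
  have hQnt : Nontrivial ↥(Q : Subgroup H) := (Subgroup.nontrivial_iff_ne_bot _).2 hQne
  have hQpg : IsPGroup q ↥(Q : Subgroup H) := Q.isPGroup'
  have hcnt : Nontrivial (Subgroup.center ↥(Q : Subgroup H)) := hQpg.center_nontrivial
  have hcpg : IsPGroup q (Subgroup.center ↥(Q : Subgroup H)) := hQpg.to_subgroup _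
  obtain ⟨j, hj, hcard⟩ := hcpg.nontrivial_iff_card.1 hcnt
  -- the centre of `H` is trivial
  have hcentral : ∀ c : H, c ∈ Subgroup.center H → c = 1 := by
    intro c hc
    by_contra hc1
    have hZne : Subgroup.center H ≠ ⊥ := by
      intro h
      rw [h] at hc
      exact hc1 (Subgroup.mem_bot.1 hc)
    have hlt : Nat.card (H ⧸ Subgroup.center H) < Nat.card H := by
      have h1 : (Subgroup.center H).index * Nat.card (Subgroup.center H) = Nat.card H :=
        Subgroup.index_mul_card _
      have h2 : 1 < Nat.card (Subgroup.center H) := (Subgroup.one_lt_card_iff_ne_bot _).2 hZne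
      have h3 : 0 < (Subgroup.center H).index :=
        Nat.pos_of_ne_zero Subgroup.index_ne_zero_of_finite
      have h4 : Nat.card (H ⧸ Subgroup.center H) = (Subgroup.center H).index := rfl
      rw [h4]
      nlinarith
    have hq' : Cfsg.IsPClosed p (H ⧸ Subgroup.center H) := hmin _ hlt
    apply hPn
    by_cases htop : (P : Subgroup H) ⊔ Subgroup.center H = ⊤
    · rw [← Subgroup.normalizer_eq_top_iff, eq_top_iff, ← htop]
      apply sup_le
      · exact Subgroup.le_normalizer
      · exact Subgroup.center_le_normalizer _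
    · have hlt2 : Nat.card ↥((P : Subgroup H) ⊔ Subgroup.center H) < Nat.card H := by
        apply lt_of_le_of_ne (Subgroup.card_le_card_group _)
        intro h
        exact htop (Subgroup.eq_top_of_card_eq _ h)
      exact Cfsg.Agent.H23.MinP.normal_of_quot p (Subgroup.center H) hq' P (hmin _ hlt2)
  -- `P` acts on `Q` by conjugation
  let ψ : ↥(P : Subgroup H) →* MulAut ↥(Q : Subgroup H) :=
    (MulAut.conjNormal (H := (Q : Subgroup H))).comp (P : Subgroup H).subtype
  let _ : MulDistribMulAction ↥(P : Subgroup H) ↥(Q : Subgroup H) :=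
    MulDistribMulAction.compHom ↥(Q : Subgroup H) ψ
  have hsm : ∀ (g : ↥(P : Subgroup H)) (x : ↥(Q : Subgroup H)),
      ((g • x : ↥(Q : Subgroup H)) : H) = (g : H) * x * (g : H)⁻¹ := fun g x => rfl
  have hPpg : IsPGroup p ↥(P : Subgroup H) := P.isPGroup'
  obtain ⟨Y, hYdef⟩ : ∃ Y : Set ↥(Q : Subgroup H),
      Y = ((Subgroup.center ↥(Q : Subgroup H) : Set ↥(Q : Subgroup H)) \ {1}) := ⟨_, rfl⟩
  have hYmem : ∀ z, z ∈ Y ↔ z ∈ Subgroup.center ↥(Q : Subgroup H) ∧ z ≠ 1 := by
    intro z
    rw [hYdef]
    rfl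
  have hdvd : p ∣ Y.ncard := by
    apply dvd_ncard_of_invariant hPpg Y
    · intro g z hz
      rw [hYmem] at hz ⊢
      constructor
      · have hchar : (Subgroup.center ↥(Q : Subgroup H)).Characteristic := inferInstance
        have h1 := Subgroup.characteristic_iff_map_le.1 hchar (ψ g)
        exact h1 (Subgroup.mem_map_of_mem _ hz.1)
      · intro h
        apply hz.2
        have h' : g • z = g • (1 : ↥(Q : Subgroup H)) := by rw [h, smul_one]
        exact MulAction.injective g h'
    · intro z hz hfix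
      rw [hYmem] at hz
      apply hz.2
      apply Subtype.ext
      apply hcentral
      have hle : (⊤ : Subgroup H) ≤ Subgroup.centralizer ({(z : H)} : Set H) := by
        rw [← hQP]
        apply sup_le
        · intro x hx
          rw [Subgroup.mem_centralizer_iff]
          intro h hh
          rw [Set.mem_singleton_iff.1 hh]
          have h1 := Subgroup.mem_center_iff.1 hz.1 ⟨x, hx⟩
          exact (congrArg Subtype.val h1).symm
        · intro g hg
          rw [Subgroup.mem_centralizer_iff]
          intro h hh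
          rw [Set.mem_singleton_iff.1 hh]
          have h1 := congrArg Subtype.val (hfix ⟨g, hg⟩)
          rw [hsm] at h1
          calc (z : H) * g = g * z * g⁻¹ * g := by rw [h1]
            _ = g * z := by rw [inv_mul_cancel_right]
      rw [Subgroup.mem_center_iff]
      intro g
      have h1 := Subgroup.mem_centralizer_iff.1 (hle (Subgroup.mem_top g)) (z : H) rfl
      exact h1.symm
  have hYcard : Y.ncard = q ^ j - 1 := by
    rw [hYdef, Set.ncard_sdiff_singleton_of_mem (Subgroup.one_mem _), ← hcard,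
      ← Nat.card_coe_set_eq]
    rfl
  refine ⟨q ^ j, ⟨q, j, hqp.prime, hj, rfl⟩, ?_, ?_⟩
  · rw [hYcard] at hdvd
    obtain ⟨m, hm⟩ := hdvd
    have hpos : 0 < q ^ j := pos_of_ne_zero (pow_ne_zero _ hqp.ne_zero)
    have e : q ^ j = p * m + 1 := by omega
    rw [e, Nat.mul_add_mod, Nat.mod_eq_of_lt hp.one_lt]
  · rw [← hcard]
    exact Subgroup.card_le_card_group _

end Cfsg.Agent.H70.P3Fix
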