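import Mathlib
import Cfsg.Agent.H38.BG161Defs

/-!
# S1421-INVCOMPL (B&G Lemma 16.1, Case A): a Maschke-type invariant complement of a subgroup of
order `p` in an abelian group
-/

set_option autoImplicit false

namespace Cfsg.Agent.H70.BG161

open Cfsg Subgroup Cfsg.Agent.H38.BG161

universe u

/-- Abstract form: a finite family of automorphisms of a commutative group `A`, closed under
composition (`φ (τ j i) = φ i ∘ φ j`, `τ j` a bijection) and of size prime to `p`; an invariant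
subgroup `A₀` of order `p` containing no non-identity `p`-th power has an invariant complement. -/
theorem invcompl_abs {A : Type*} [CommGroup A] [Finite A] {ι : Type*} [Fintype ι] (p : ℕ)
    [Fact p.Prime] (φ : ι → A ≃* A) (τ : ι → ι → ι)
    (hτ : ∀ j, Function.Bijective (τ j))
    (hφτ : ∀ i j a, φ (τ j i) a = φ i (φ j a))
    (hcard : ¬ p ∣ Fintype.card ι)
    (A₀ : Subgroup A) (hA₀ : Nat.card A₀ = p) (hinv : ∀ i, ∀ a ∈ A₀, φ i a ∈ A₀)
    (hpow : ∀ y : A, y ^ p ∈ A₀ → y ^ p = 1) :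
    ∃ D : Subgroup A, (∀ i, ∀ d ∈ D, φ i d ∈ D) ∧ D ⊓ A₀ = ⊥ ∧ D ⊔ A₀ = ⊤ := by
  classical
  have hp : p.Prime := Fact.out
  have hA₀p : ∀ a ∈ A₀, a ^ p = 1 := by
    intro a ha
    have h1 : (⟨a, ha⟩ : A₀) ^ Nat.card A₀ = 1 := pow_card_eq_one'
    rw [hA₀] at h1
    exact congrArg Subtype.val h1
  -- step 1: a complement `H` containing the `p`-th powers
  obtain ⟨H, hH1, hH2, hH3⟩ :
      ∃ H : Subgroup A, (∀ y : A, y ^ p ∈ H) ∧ H ⊓ A₀ = ⊥ ∧ H ⊔ A₀ = ⊤ := by
    have hΦ : (powMonoidHom p : A →* A).range ⊓ A₀ = ⊥ := by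
      rw [eq_bot_iff]
      intro x hx
      obtain ⟨⟨y, rfl⟩, hx2⟩ := Subgroup.mem_inf.1 hx
      exact hpow y hx2
    obtain ⟨H, -, hHmax⟩ := Finite.exists_le_maximal
      (p := fun H : Subgroup A => (powMonoidHom p : A →* A).range ≤ H ∧ H ⊓ A₀ = ⊥)
      ⟨le_refl _, hΦ⟩
    have hpH : ∀ y : A, y ^ p ∈ H := fun y => hHmax.prop.1 ⟨y, rfl⟩
    refine ⟨H, hpH, hHmax.prop.2, ?_⟩
    rw [eq_top_iff]
    intro y _
    by_contra hy
    have hH' : (powMonoidHom p : A →* A).range ≤ H ⊔ Subgroup.zpowers y ∧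
        (H ⊔ Subgroup.zpowers y) ⊓ A₀ = ⊥ := by
      refine ⟨le_trans hHmax.prop.1 le_sup_left, ?_⟩
      rw [eq_bot_iff]
      intro g hg
      obtain ⟨hg1, hg2⟩ := Subgroup.mem_inf.1 hg
      obtain ⟨h, hh, z, hz, rfl⟩ := Subgroup.mem_sup.1 hg1
      obtain ⟨k, rfl⟩ := Subgroup.mem_zpowers_iff.1 hz
      by_cases hpk : (p : ℤ) ∣ k
      · obtain ⟨c, rfl⟩ := hpk
        have h1 : y ^ ((p : ℤ) * c) ∈ H := by
          rw [zpow_mul, zpow_natCast]; exact zpow_mem (hpH y) c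
        have h2 : h * y ^ ((p : ℤ) * c) ∈ H ⊓ A₀ := Subgroup.mem_inf.2 ⟨mul_mem hh h1, hg2⟩
        rw [hHmax.prop.2] at h2
        exact h2
      · exfalso
        apply hy
        have hcop : IsCoprime (p : ℤ) k :=
          (Nat.prime_iff_prime_int.1 hp).irreducible.coprime_iff_not_dvd.2 hpk
        obtain ⟨a, b, hab⟩ := hcop
        have h1 : y ^ k ∈ H ⊔ A₀ := by
          have h0 : y ^ k = h⁻¹ * (h * y ^ k) := by rw [inv_mul_cancel_left]
          rw [h0]
          exact mul_mem ((le_sup_left : H ≤ H ⊔ A₀) (inv_mem hh))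
            ((le_sup_right : A₀ ≤ H ⊔ A₀) hg2)
        have h2 : y ^ (p : ℤ) ∈ H ⊔ A₀ := by
          rw [zpow_natCast]; exact (le_sup_left : H ≤ H ⊔ A₀) (hpH y)
        have h3 : y = (y ^ (p : ℤ)) ^ a * (y ^ k) ^ b := by
          rw [← zpow_mul, ← zpow_mul, ← zpow_add, mul_comm (p : ℤ) a, mul_comm k b, hab,
            zpow_one]
        rw [h3]
        exact mul_mem (zpow_mem h2 a) (zpow_mem h1 b)
    have hle : H ⊔ Subgroup.zpowers y ≤ H := hHmax.le_of_ge hH' le_sup_left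
    exact hy ((le_sup_left : H ≤ H ⊔ A₀)
      (hle ((le_sup_right : Subgroup.zpowers y ≤ _) (Subgroup.mem_zpowers y))))
  -- step 2: a retraction `π` of `A` onto `A₀`
  obtain ⟨π, hπ1, hπ2⟩ : ∃ π : A →* A, (∀ s, π s ∈ A₀) ∧ ∀ a ∈ A₀, π a = a := by
    let f : A₀ →* A ⧸ H := (QuotientGroup.mk' H).comp A₀.subtype
    have hf : Function.Bijective f := by
      constructor
      · intro a b hab
        have h1 : ((a : A) : A ⧸ H) = ((b : A) : A ⧸ H) := hab
        rw [QuotientGroup.eq] at h1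
        have h2 : (a : A)⁻¹ * (b : A) ∈ H ⊓ A₀ :=
          Subgroup.mem_inf.2 ⟨h1, A₀.mul_mem (A₀.inv_mem a.2) b.2⟩
        rw [hH2, Subgroup.mem_bot] at h2
        exact Subtype.ext (inv_mul_eq_one.1 h2)
      · intro x
        obtain ⟨s, rfl⟩ := QuotientGroup.mk_surjective x
        have hs : s ∈ H ⊔ A₀ := by rw [hH3]; trivial
        obtain ⟨h, hh, a, ha, rfl⟩ := Subgroup.mem_sup.1 hs
        refine ⟨⟨a, ha⟩, ?_⟩
        show ((a : A) : A ⧸ H) = ((h * a : A) : A ⧸ H)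
        rw [QuotientGroup.eq]
        have h0 : a⁻¹ * (h * a) = h := by rw [mul_comm h a, inv_mul_cancel_left]
        rw [h0]; exact hh
    let e : A₀ ≃* A ⧸ H := MulEquiv.ofBijective f hf
    refine ⟨A₀.subtype.comp (e.symm.toMonoidHom.comp (QuotientGroup.mk' H)),
      fun s => (e.symm _).2, ?_⟩
    intro a ha
    have h1 : e ⟨a, ha⟩ = QuotientGroup.mk' H a := rfl
    show ((e.symm (QuotientGroup.mk' H a) : A₀) : A) = a
    rw [← h1, e.symm_apply_apply]
  -- the inverses of the automorphisms preserve `A₀`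
  have hinv' : ∀ i, ∀ a ∈ A₀, (φ i).symm a ∈ A₀ := by
    intro i a ha
    have hinj : Function.Injective (fun x : A₀ => (⟨φ i x, hinv i x x.2⟩ : A₀)) := by
      intro x y hxy
      exact Subtype.ext ((φ i).injective (congrArg Subtype.val hxy))
    obtain ⟨x, hx⟩ := Finite.surjective_of_injective hinj ⟨a, ha⟩
    have h1 : φ i x = a := congrArg Subtype.val hx
    rw [← h1, (φ i).symm_apply_apply]
    exact x.2
  -- step 3: the averaged retraction
  let θ : A →* A := ∏ i, ((φ i).symm.toMonoidHom.comp (π.comp (φ i).toMonoidHom))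
  have hθ : ∀ s, θ s = ∏ i, (φ i).symm (π (φ i s)) := by
    intro s
    show (∏ i, ((φ i).symm.toMonoidHom.comp (π.comp (φ i).toMonoidHom))) s = _
    rw [MonoidHom.finsetProd_apply]
    rfl
  have hθ1 : ∀ s, θ s ∈ A₀ := by
    intro s
    rw [hθ]
    exact Subgroup.prod_mem _ (fun i _ => hinv' i _ (hπ1 _))
  have hθ2 : ∀ a ∈ A₀, θ a = a ^ Fintype.card ι := by
    intro a ha
    rw [hθ, Finset.prod_congr rfl (fun i _ => by
      rw [hπ2 _ (hinv i a ha), (φ i).symm_apply_apply]), Finset.prod_const, Finset.card_univ]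
  have hθ3 : ∀ j s, θ (φ j s) = φ j (θ s) := by
    intro j s
    rw [hθ, hθ, map_prod]
    rw [← (Equiv.ofBijective (τ j) (hτ j)).prod_comp
      (fun i => φ j ((φ i).symm (π (φ i s))))]
    apply Finset.prod_congr rfl
    intro i _
    show _ = φ j ((φ (τ j i)).symm (π (φ (τ j i) s)))
    rw [hφτ i j s]
    generalize π (φ i (φ j s)) = X
    apply (φ i).injective
    rw [(φ i).apply_symm_apply, ← hφτ i j, (φ (τ j i)).apply_symm_apply]
  have hcop : Nat.Coprime p (Fintype.card ι) := (Nat.Prime.coprime_iff_not_dvd hp).2 hcard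
  refine ⟨θ.ker, ?_, ?_, ?_⟩
  · intro j d hd
    rw [MonoidHom.mem_ker] at hd ⊢
    rw [hθ3, hd, map_one]
  · rw [eq_bot_iff]
    intro a ha
    obtain ⟨ha1, ha2⟩ := Subgroup.mem_inf.1 ha
    rw [MonoidHom.mem_ker, hθ2 a ha2] at ha1
    have h1 : orderOf a ∣ Nat.gcd p (Fintype.card ι) :=
      Nat.dvd_gcd (orderOf_dvd_of_pow_eq_one (hA₀p a ha2)) (orderOf_dvd_of_pow_eq_one ha1)
    rw [hcop.gcd_eq_one, Nat.dvd_one, orderOf_eq_one_iff] at h1
    exact h1
  · rw [eq_top_iff]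
    intro s _
    obtain ⟨m, -, hm⟩ := Nat.exists_mul_mod_eq_one_of_coprime hcop.symm hp.one_lt
    have hx : ∀ x ∈ A₀, x ^ (Fintype.card ι * m) = x := by
      intro x hx
      have h1 := Nat.div_add_mod (Fintype.card ι * m) p
      rw [hm] at h1
      rw [← h1, pow_add, pow_mul, hA₀p x hx, one_pow, one_mul, pow_one]
    have ha : (θ s) ^ m ∈ A₀ := pow_mem (hθ1 s) m
    have h2 : θ (s * ((θ s) ^ m)⁻¹) = 1 := by
      rw [map_mul, map_inv, hθ2 _ ha, ← pow_mul, mul_comm m, hx _ (hθ1 s), mul_inv_cancel]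
    refine Subgroup.mem_sup.2 ⟨s * ((θ s) ^ m)⁻¹, h2, (θ s) ^ m, ha, ?_⟩
    rw [inv_mul_cancel_right]

/-- in a finite group, an element conjugating a subgroup into itself normalizes it -/
theorem mem_normalizer_of_conj_mem' {G : Type*} [Group G] [Finite G] (X : Subgroup G) (g : G)
    (h : ∀ x ∈ X, g * x * g⁻¹ ∈ X) : g ∈ normalizer (X : Set G) := by
  rw [mem_normalizer_iff]
  have hinj : Function.Injective (fun x : X => (⟨g * x * g⁻¹, h x x.2⟩ : X)) := by
    intro a b hab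
    have h1 : g * (a : G) * g⁻¹ = g * (b : G) * g⁻¹ := congrArg Subtype.val hab
    exact Subtype.ext (mul_left_cancel (mul_right_cancel h1))
  have hsurj := Finite.surjective_of_injective hinj
  intro y
  constructor
  · exact h y
  · intro hy
    obtain ⟨x, hx⟩ := hsurj ⟨g * y * g⁻¹, hy⟩
    have h1 : g * (x : G) * g⁻¹ = g * y * g⁻¹ := congrArg Subtype.val hx
    have hxy : (x : G) = y := mul_left_cancel (mul_right_cancel h1)
    rw [← hxy]
    exact x.2

variable {G : Type u} [Group G]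

/-- INVCOMPL -/
theorem invCompl [Finite G] : StInvCompl G := by
  intro p _ P V A₀ _ hcomm hVP hpV hA₀P hA₀card hVA₀ hpow
  classical
  let cg : CommGroup P := { (inferInstance : Group P) with
    mul_comm := fun a b => Subtype.ext (hcomm a.1 a.2 b.1 b.2) }
  have : Fintype V := Fintype.ofFinite _
  have hconj : ∀ v ∈ V, ∀ x ∈ P, v * x * v⁻¹ ∈ P :=
    fun v hv x hx => (Subgroup.mem_normalizer_iff.mp (hVP hv) x).mp hx
  have hconj' : ∀ v ∈ V, ∀ x ∈ P, v⁻¹ * x * v ∈ P := by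
    intro v hv x hx
    have h1 := hconj v⁻¹ (inv_mem hv) x hx
    rwa [inv_inv] at h1
  let φ : V → (P ≃* P) := fun v =>
    { toFun := fun x => ⟨v.1 * x.1 * v.1⁻¹, hconj v.1 v.2 x.1 x.2⟩
      invFun := fun x => ⟨v.1⁻¹ * x.1 * v.1, hconj' v.1 v.2 x.1 x.2⟩
      left_inv := fun x => Subtype.ext (by
        show v.1⁻¹ * (v.1 * x.1 * v.1⁻¹) * v.1 = x.1
        group)
      right_inv := fun x => Subtype.ext (by
        show v.1 * (v.1⁻¹ * x.1 * v.1) * v.1⁻¹ = x.1
        group)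
      map_mul' := fun a b => Subtype.ext (by
        show v.1 * (a.1 * b.1) * v.1⁻¹ = (v.1 * a.1 * v.1⁻¹) * (v.1 * b.1 * v.1⁻¹)
        group) }
  have hφval : ∀ (v : V) (x : P), (φ v x).1 = v.1 * x.1 * v.1⁻¹ := fun v x => rfl
  have hcardV : ¬ p ∣ Fintype.card V := by
    rw [← Nat.card_eq_fintype_card]; exact hpV
  have hA₀' : Nat.card (A₀.subgroupOf P) = p := by
    rw [← hA₀card]
    exact Nat.card_congr (Subgroup.subgroupOfEquivOfLe hA₀P).toEquiv
  obtain ⟨D', hD1, hD2, hD3⟩ := invcompl_abs p φ (fun u v => v * u)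
    (fun u => Group.mulRight_bijective u)
    (fun i j a => Subtype.ext (by
      rw [hφval, hφval, hφval]
      show (i.1 * j.1) * a.1 * (i.1 * j.1)⁻¹ = i.1 * (j.1 * a.1 * j.1⁻¹) * i.1⁻¹
      group))
    hcardV (A₀.subgroupOf P) hA₀'
    (fun v a ha => by
      rw [Subgroup.mem_subgroupOf] at ha ⊢
      rw [hφval]
      exact (Subgroup.mem_normalizer_iff.mp (hVA₀ v.2) a.1).mp ha)
    (fun y hy => by
      rw [Subgroup.mem_subgroupOf] at hy
      apply Subtype.ext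
      have h1 : ((y ^ p : P) : G) = (y : G) ^ p := rfl
      rw [h1] at hy ⊢
      exact hpow y.1 y.2 hy)
  refine ⟨D'.map P.subtype, ?_, ?_, ?_, ?_⟩
  · rintro _ ⟨d, -, rfl⟩
    exact d.2
  · intro v hv
    apply Cfsg.Agent.H70.BG161.mem_normalizer_of_conj_mem'
    rintro _ ⟨d, hd, rfl⟩
    exact ⟨φ ⟨v, hv⟩ d, hD1 ⟨v, hv⟩ d hd, rfl⟩
  · rw [eq_bot_iff]
    intro g hg
    obtain ⟨⟨d, hd, rfl⟩, hg2⟩ := Subgroup.mem_inf.1 hg
    have h1 : d ∈ D' ⊓ A₀.subgroupOf P := Subgroup.mem_inf.2 ⟨hd, hg2⟩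
    rw [hD2, Subgroup.mem_bot] at h1
    rw [h1]
    exact one_mem _
  · apply le_antisymm
    · rw [sup_le_iff]
      refine ⟨?_, hA₀P⟩
      rintro _ ⟨d, -, rfl⟩
      exact d.2
    · intro g hg
      have h1 : (⟨g, hg⟩ : P) ∈ D' ⊔ A₀.subgroupOf P := by rw [hD3]; trivial
      obtain ⟨d, hd, a, ha, hda⟩ := Subgroup.mem_sup.1 h1
      have h2 : g = d.1 * a.1 := (congrArg Subtype.val hda).symm
      rw [h2]
      exact mul_mem ((le_sup_left : D'.map P.subtype ≤ _) ⟨d, hd, rfl⟩)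
        ((le_sup_right : A₀ ≤ D'.map P.subtype ⊔ A₀) ha)

example [Finite G] : Cfsg.Agent.H38.BG161.StInvCompl G := invCompl

end Cfsg.Agent.H70.BG161
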