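import Mathlib

set_option autoImplicit false

/-!
Frobenius' theorem: if `n ∣ |G|` then `n ∣ #{g : g ^ n = 1}` (`frobenius_dvd`), the gcd version
(`frobenius_gcd_dvd`), and the tools used in its proof (class sums, decomposition of an element
into commuting parts of coprime orders, central quotients).
-/

namespace Cfsg.Agent.H70

universe u

section general

variable {G : Type u} [Group G]

theorem frob_class_card (g : G) :
    (Subgroup.centralizer ({g} : Set G)).index = (conjugatesOf g).ncard := by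
  have h1 := Subgroup.index_comap_of_surjective (MulAction.stabilizer (ConjAct G) g)
    (f := (ConjAct.toConjAct (G := G)).toMonoidHom) (ConjAct.toConjAct (G := G)).surjective
  have h2 : (Subgroup.centralizer ({g} : Set G)).index = (MulAction.stabilizer (ConjAct G) g).index :=
    (congrArg Subgroup.index (Subgroup.centralizer_eq_comap_stabilizer g)).trans h1
  rw [h2, MulAction.index_stabilizer]
  congr 1
  ext h
  rw [ConjAct.mem_orbit_conjAct]
  exact ⟨fun h' => h'.symm, fun h' => h'.symm⟩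

/-- Class sums: a conjugation invariant weight `g` with `d ∣ |class z| * g z` for all `z` has
total weight divisible by `d`. -/
theorem frob_class_sum [Fintype G] (g : G → ℕ) (hg : ∀ t z, g (t * z * t⁻¹) = g z) (d : ℕ)
    (h : ∀ z, d ∣ (Subgroup.centralizer ({z} : Set G)).index * g z) : d ∣ ∑ z, g z := by
  classical
  rw [Finset.sum_partition (IsConj.setoid G)]
  refine Finset.dvd_sum fun c hc => ?_
  obtain ⟨z0, -, rfl⟩ := Finset.mem_image.1 hc
  have hconst : ∀ y ∈ Finset.univ.filter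
      (fun y : G => (Quotient.mk (IsConj.setoid G) y) = Quotient.mk (IsConj.setoid G) z0),
      g y = g z0 := by
    intro y hy
    have : IsConj y z0 := Quotient.exact (Finset.mem_filter.1 hy).2
    obtain ⟨t, ht⟩ := isConj_iff.1 this
    rw [← ht, hg]
  rw [Finset.sum_congr rfl hconst, Finset.sum_const, smul_eq_mul]
  have hcard : (Finset.univ.filter
      (fun y : G => (Quotient.mk (IsConj.setoid G) y) = Quotient.mk (IsConj.setoid G) z0)).card
      = (Subgroup.centralizer ({z0} : Set G)).index := by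
    rw [frob_class_card, Set.ncard_eq_toFinset_card']
    congr 1
    ext y
    simp only [Finset.mem_filter, Finset.mem_univ, true_and, Set.mem_toFinset]
    constructor
    · intro hy
      exact (Quotient.exact hy).symm
    · intro hy
      exact Quotient.sound (show IsConj y z0 from IsConj.symm hy)
  rw [hcard]; exact h z0

theorem frob_card_pairs {α β : Type*} [Fintype α] [Fintype β] (C1 : α → Prop)
    (C2 : α → β → Prop) :
    Nat.card {q : α × β // C1 q.1 ∧ C2 q.1 q.2} =
      ∑ z : α, (open Classical in if C1 z then Nat.card {y : β // C2 z y} else 0) := by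
  classical
  rw [Nat.card_eq_fintype_card, Fintype.card_subtype, Finset.card_filter, Fintype.sum_prod_type]
  refine Finset.sum_congr rfl fun z _ => ?_
  by_cases hz : C1 z
  · simp only [hz, true_and, if_true]
    rw [Nat.card_eq_fintype_card, Fintype.card_subtype, Finset.card_filter]
  · simp [hz]

theorem frob_card_split {α : Type*} [Finite α] (P Q : α → Prop) (h : ∀ x, Q x → P x) :
    Nat.card {x // P x} = Nat.card {x // Q x} + Nat.card {x // P x ∧ ¬ Q x} := by
  classical
  have := Fintype.ofFinite α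
  simp only [Nat.card_eq_fintype_card, Fintype.card_subtype]
  rw [← Finset.card_filter_add_card_filter_not (s := Finset.univ.filter P) (fun x => Q x)]
  have e1 : (Finset.univ.filter P).filter (fun x => Q x) = Finset.univ.filter Q := by
    ext x; simp only [Finset.mem_filter, Finset.mem_univ, true_and]
    exact ⟨fun hq => hq.2, fun hq => ⟨h x hq, hq⟩⟩
  have e2 : (Finset.univ.filter P).filter (fun x => ¬ Q x) =
      Finset.univ.filter (fun x => P x ∧ ¬ Q x) := by
    ext x; simp only [Finset.mem_filter, Finset.mem_univ, true_and]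
  rw [e1, e2]

/-- Decomposition of the elements with `x ^ (A * B) = 1` (`A`, `B` coprime) into commuting
pairs `(z, y)` with `z ^ A = 1`, `y ^ B = 1`. -/
theorem frob_card_decomp (A B : ℕ) (hAB : A.Coprime B) (P Pz : G → Prop)
    (hP : ∀ z y : G, z ^ A = 1 → y ^ B = 1 → Commute z y → (P (z * y) ↔ Pz z)) :
    Nat.card {x : G // x ^ (A * B) = 1 ∧ P x} =
      Nat.card {q : G × G // (q.1 ^ A = 1 ∧ Pz q.1) ∧ (Commute q.1 q.2 ∧ q.2 ^ B = 1)} := by
  obtain ⟨u, hu1, hu0⟩ := Nat.chineseRemainder hAB 1 0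
  obtain ⟨u', hu'0, hu'1⟩ := Nat.chineseRemainder hAB 0 1
  -- basic facts
  have hzu : ∀ z : G, z ^ A = 1 → z ^ u = z := by
    intro z hz
    have := (pow_eq_pow_iff_modEq (x := z) (n := u) (m := 1)).2
      (hu1.of_dvd (orderOf_dvd_of_pow_eq_one hz))
    rwa [pow_one] at this
  have hzu' : ∀ z : G, z ^ A = 1 → z ^ u' = 1 := by
    intro z hz
    have := (pow_eq_pow_iff_modEq (x := z) (n := u') (m := 0)).2
      (hu'0.of_dvd (orderOf_dvd_of_pow_eq_one hz))
    rwa [pow_zero] at this
  have hyu : ∀ y : G, y ^ B = 1 → y ^ u = 1 := by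
    intro y hy
    have := (pow_eq_pow_iff_modEq (x := y) (n := u) (m := 0)).2
      (hu0.of_dvd (orderOf_dvd_of_pow_eq_one hy))
    rwa [pow_zero] at this
  have hyu' : ∀ y : G, y ^ B = 1 → y ^ u' = y := by
    intro y hy
    have := (pow_eq_pow_iff_modEq (x := y) (n := u') (m := 1)).2
      (hu'1.of_dvd (orderOf_dvd_of_pow_eq_one hy))
    rwa [pow_one] at this
  have hxuu' : ∀ x : G, x ^ (A * B) = 1 → x ^ u * x ^ u' = x := by
    intro x hx
    have h1 : u + u' ≡ 1 [MOD A] := by simpa using hu1.add hu'0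
    have h2 : u + u' ≡ 1 [MOD B] := by simpa using hu0.add hu'1
    have h3 : u + u' ≡ 1 [MOD A * B] := (Nat.modEq_and_modEq_iff_modEq_mul hAB).1 ⟨h1, h2⟩
    have := (pow_eq_pow_iff_modEq (x := x) (n := u + u') (m := 1)).2
      (h3.of_dvd (orderOf_dvd_of_pow_eq_one hx))
    rwa [pow_one, pow_add] at this
  have hxuA : ∀ x : G, x ^ (A * B) = 1 → (x ^ u) ^ A = 1 := by
    intro x hx
    obtain ⟨t, ht⟩ := (Nat.modEq_zero_iff_dvd).1 hu0
    rw [← pow_mul, ht, show B * t * A = A * B * t by ring, pow_mul, hx, one_pow]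
  have hxu'B : ∀ x : G, x ^ (A * B) = 1 → (x ^ u') ^ B = 1 := by
    intro x hx
    obtain ⟨t, ht⟩ := (Nat.modEq_zero_iff_dvd).1 hu'0
    rw [← pow_mul, ht, show A * t * B = A * B * t by ring, pow_mul, hx, one_pow]
  apply Nat.card_congr
  refine ⟨fun x => ⟨(x.1 ^ u, x.1 ^ u'), ⟨hxuA x.1 x.2.1, ?_⟩, ⟨?_, hxu'B x.1 x.2.1⟩⟩,
    fun q => ⟨q.1.1 * q.1.2, ?_, ?_⟩, ?_, ?_⟩
  · have hc : Commute (x.1 ^ u) (x.1 ^ u') := (Commute.refl x.1).pow_pow u u'
    have := (hP (x.1 ^ u) (x.1 ^ u') (hxuA x.1 x.2.1) (hxu'B x.1 x.2.1) hc).1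
    rw [hxuu' x.1 x.2.1] at this
    exact this x.2.2
  · exact (Commute.refl x.1).pow_pow u u'
  · obtain ⟨⟨z, y⟩, ⟨hz, -⟩, hc, hy⟩ := q
    show (z * y) ^ (A * B) = 1
    rw [hc.mul_pow, pow_mul, hz, one_pow, mul_comm A B, pow_mul, hy, one_pow, one_mul]
  · obtain ⟨⟨z, y⟩, ⟨hz, hPz⟩, hc, hy⟩ := q
    exact (hP z y hz hy hc).2 hPz
  · intro x
    exact Subtype.ext (hxuu' x.1 x.2.1)
  · rintro ⟨⟨z, y⟩, ⟨hz, hPz⟩, hc, hy⟩
    apply Subtype.ext
    show ((z * y) ^ u, (z * y) ^ u') = (z, y)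
    rw [hc.mul_pow, hc.mul_pow, hzu z hz, hyu y hy, hzu' z hz, hyu' y hy, mul_one, one_mul]

/-- Fibration divisibility. -/
theorem frob_fib_dvd [Finite G] (A B : ℕ) (Pz : G → Prop)
    (hPz : ∀ t z : G, Pz z → Pz (t * z * t⁻¹)) (d : ℕ)
    (h : ∀ z : G, z ^ A = 1 → Pz z → d ∣ (Subgroup.centralizer ({z} : Set G)).index *
      Nat.card {y : G // Commute z y ∧ y ^ B = 1}) :
    d ∣ Nat.card {q : G × G // (q.1 ^ A = 1 ∧ Pz q.1) ∧ (Commute q.1 q.2 ∧ q.2 ^ B = 1)} := by
  classical
  have := Fintype.ofFinite G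
  rw [frob_card_pairs (fun z : G => z ^ A = 1 ∧ Pz z) (fun z y : G => Commute z y ∧ y ^ B = 1)]
  have hPz' : ∀ t z : G, Pz (t * z * t⁻¹) ↔ Pz z := by
    intro t z
    refine ⟨fun hh => ?_, hPz t z⟩
    have := hPz t⁻¹ _ hh
    simpa [mul_assoc] using this
  have hA' : ∀ t z : G, (t * z * t⁻¹) ^ A = 1 ↔ z ^ A = 1 := by
    intro t z
    rw [conj_pow]
    constructor
    · intro hh
      have : z ^ A = t⁻¹ * (t * z ^ A * t⁻¹) * t := by group
      rw [this, hh]; group
    · intro hh; rw [hh]; group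
  apply frob_class_sum
  · intro t z
    have hcard : Nat.card {y : G // Commute (t * z * t⁻¹) y ∧ y ^ B = 1} =
        Nat.card {y : G // Commute z y ∧ y ^ B = 1} := by
      apply Nat.card_congr
      refine ⟨fun y => ⟨t⁻¹ * y.1 * t, ?_, ?_⟩, fun y => ⟨t * y.1 * t⁻¹, ?_, ?_⟩, ?_, ?_⟩
      · have h1 := y.2.1.eq
        show z * (t⁻¹ * y.1 * t) = (t⁻¹ * y.1 * t) * z
        calc z * (t⁻¹ * y.1 * t) = t⁻¹ * ((t * z * t⁻¹) * y.1) * t := by group
          _ = t⁻¹ * (y.1 * (t * z * t⁻¹)) * t := by rw [h1]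
          _ = (t⁻¹ * y.1 * t) * z := by group
      · have : t⁻¹ * y.1 * t = t⁻¹ * y.1 * t⁻¹⁻¹ := by rw [inv_inv]
        rw [this, conj_pow, y.2.2]; group
      · have h1 := y.2.1.eq
        show (t * z * t⁻¹) * (t * y.1 * t⁻¹) = (t * y.1 * t⁻¹) * (t * z * t⁻¹)
        calc (t * z * t⁻¹) * (t * y.1 * t⁻¹) = t * (z * y.1) * t⁻¹ := by group
          _ = t * (y.1 * z) * t⁻¹ := by rw [h1]
          _ = (t * y.1 * t⁻¹) * (t * z * t⁻¹) := by group
      · rw [conj_pow, y.2.2]; group
      · intro y; apply Subtype.ext; show t * (t⁻¹ * y.1 * t) * t⁻¹ = y.1; group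
      · intro y; apply Subtype.ext; show t⁻¹ * (t * y.1 * t⁻¹) * t = y.1; group
    by_cases hz : z ^ A = 1 ∧ Pz z
    · have hz' : (t * z * t⁻¹) ^ A = 1 ∧ Pz (t * z * t⁻¹) :=
        ⟨(hA' t z).2 hz.1, (hPz' t z).2 hz.2⟩
      rw [if_pos hz, if_pos hz', hcard]
    · have hz' : ¬ ((t * z * t⁻¹) ^ A = 1 ∧ Pz (t * z * t⁻¹)) :=
        fun hh => hz ⟨(hA' t z).1 hh.1, (hPz' t z).1 hh.2⟩
      rw [if_neg hz, if_neg hz']
  · intro z
    by_cases hz : z ^ A = 1 ∧ Pz z
    · rw [if_pos hz]; exact h z hz.1 hz.2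
    · rw [if_neg hz]; simp

theorem frob_card_commute_eq (z : G) (B : ℕ) :
    Nat.card {y : G // Commute z y ∧ y ^ B = 1} =
      Nat.card {y : ↥(Subgroup.centralizer ({z} : Set G)) // y ^ B = 1} := by
  apply Nat.card_congr
  refine ⟨fun y => ⟨⟨y.1, ?_⟩, ?_⟩, fun y => ⟨y.1.1, ?_, ?_⟩, fun y => rfl, fun y => rfl⟩
  · rw [Subgroup.mem_centralizer_iff]
    intro h hh
    rw [Set.mem_singleton_iff.1 hh]
    exact y.2.1.eq
  · apply Subtype.ext
    show y.1 ^ B = 1
    exact y.2.2
  · have := y.1.2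
    rw [Subgroup.mem_centralizer_iff] at this
    exact this z rfl
  · have := congrArg Subtype.val y.2
    simpa using this

/-- Central quotients do not change the number of solutions of `y ^ B = 1` when `B` is coprime
to the order of the central subgroup. -/
theorem frob_card_quotient {K : Type u} [Group K] [Finite K] (N : Subgroup K) [N.Normal]
    (hN : N ≤ Subgroup.center K) (B : ℕ) (hB : (Nat.card N).Coprime B) :
    Nat.card {y : K // y ^ B = 1} = Nat.card {y : K ⧸ N // y ^ B = 1} := by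
  apply Nat.card_congr
  refine Equiv.ofBijective
    (fun y => ⟨(QuotientGroup.mk y.1 : K ⧸ N), by rw [← QuotientGroup.mk_pow, y.2]; rfl⟩) ⟨?_, ?_⟩
  · rintro ⟨y1, h1⟩ ⟨y2, h2⟩ h
    have h' : (QuotientGroup.mk y1 : K ⧸ N) = QuotientGroup.mk y2 := congrArg Subtype.val h
    rw [QuotientGroup.eq] at h'
    have hcc : ∀ g, g * (y1⁻¹ * y2) = (y1⁻¹ * y2) * g := Subgroup.mem_center_iff.1 (hN h')
    have hy2 : y2 = y1 * (y1⁻¹ * y2) := by group
    have hpow : (y1⁻¹ * y2) ^ B = 1 := by
      have hcomm : Commute y1 (y1⁻¹ * y2) := hcc y1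
      have : y2 ^ B = y1 ^ B * (y1⁻¹ * y2) ^ B := by
        conv_lhs => rw [hy2]
        exact hcomm.mul_pow B
      rw [h1, h2, one_mul] at this
      exact this.symm
    have hc1 : y1⁻¹ * y2 = 1 := by
      have ho : orderOf (y1⁻¹ * y2) ∣ Nat.card N := by
        have := orderOf_dvd_natCard (⟨y1⁻¹ * y2, h'⟩ : N)
        rwa [Subgroup.orderOf_mk] at this
      have ho2 : orderOf (y1⁻¹ * y2) ∣ B := orderOf_dvd_of_pow_eq_one hpow
      have := Nat.eq_one_of_dvd_coprimes hB ho ho2
      exact orderOf_eq_one_iff.1 this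
    apply Subtype.ext
    show y1 = y2
    rw [hy2, hc1, mul_one]
  · rintro ⟨ybar, hy⟩
    obtain ⟨y, rfl⟩ := QuotientGroup.mk_surjective ybar
    have hyN : y ^ B ∈ N := by
      rw [← QuotientGroup.eq_one_iff, QuotientGroup.mk_pow]; exact hy
    obtain ⟨c', hc'⟩ := (powCoprime hB).surjective ⟨(y ^ B)⁻¹, N.inv_mem hyN⟩
    have hc'' : ((c' : K)) ^ B = (y ^ B)⁻¹ := by
      have := congrArg Subtype.val hc'
      simpa [powCoprime] using this
    have hcomm : Commute y (c' : K) := Subgroup.mem_center_iff.1 (hN c'.2) y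
    refine ⟨⟨y * c', ?_⟩, ?_⟩
    · rw [hcomm.mul_pow, hc'', mul_inv_cancel]
    · apply Subtype.ext
      show (QuotientGroup.mk (y * c') : K ⧸ N) = QuotientGroup.mk y
      rw [QuotientGroup.mk_mul, (QuotientGroup.eq_one_iff _).2 c'.2, mul_one]

end general

section main

theorem frob_card_zpowers_eq {G : Type u} [Group G] [Finite G] (x0 : G) :
    Nat.card {x : G // Subgroup.zpowers x = Subgroup.zpowers x0} = Nat.totient (orderOf x0) := by
  classical
  have := Fintype.ofFinite (Subgroup.zpowers x0)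
  have hcard : Fintype.card (Subgroup.zpowers x0) = orderOf x0 := by
    rw [← Nat.card_eq_fintype_card, Nat.card_zpowers]
  have h := IsCyclic.card_orderOf_eq_totient (α := Subgroup.zpowers x0) (d := orderOf x0)
    (by rw [hcard])
  rw [← h, ← Fintype.card_subtype, ← Nat.card_eq_fintype_card]
  apply Nat.card_congr
  refine ⟨fun x => ⟨⟨x.1, ?_⟩, ?_⟩, fun a => ⟨a.1.1, ?_⟩, fun x => rfl, fun a => rfl⟩
  · have := Subgroup.mem_zpowers x.1
    rw [x.2] at this
    exact this
  · rw [Subgroup.orderOf_mk, ← Nat.card_zpowers, x.2, Nat.card_zpowers]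
  · apply Subgroup.eq_of_le_of_card_ge
    · exact Subgroup.zpowers_le.2 a.1.2
    · rw [Nat.card_zpowers, Nat.card_zpowers, Subgroup.orderOf_coe, a.2]

theorem frob_pow_dvd_card_Y {G : Type u} [Group G] [Finite G] (p a n' : ℕ) (hp : p.Prime) :
    p ^ a ∣ Nat.card {x : G // x ^ (p ^ (a + 1) * n') = 1 ∧ ¬ x ^ (p ^ a * n') = 1} := by
  classical
  have : Fact p.Prime := ⟨hp⟩
  have := Fintype.ofFinite G
  rw [Nat.card_eq_fintype_card, Fintype.card_subtype]
  set Y := Finset.univ.filter
    (fun x : G => x ^ (p ^ (a + 1) * n') = 1 ∧ ¬ x ^ (p ^ a * n') = 1) with hY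
  rw [Finset.card_eq_sum_card_fiberwise (f := fun x : G => Subgroup.zpowers x) (s := Y)
    (t := Y.image (fun x : G => Subgroup.zpowers x)) (fun x hx => Finset.mem_image_of_mem _ hx)]
  refine Finset.dvd_sum fun C hC => ?_
  obtain ⟨x0, hx0, rfl⟩ := Finset.mem_image.1 hC
  have hx0' := (Finset.mem_filter.1 hx0).2
  have hfilter : Y.filter (fun x => Subgroup.zpowers x = Subgroup.zpowers x0) =
      Finset.univ.filter (fun x : G => Subgroup.zpowers x = Subgroup.zpowers x0) := by
    ext x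
    simp only [Finset.mem_filter, Finset.mem_univ, true_and, hY]
    constructor
    · exact fun h => h.2
    · intro h
      have ho : orderOf x = orderOf x0 := by
        rw [← Nat.card_zpowers, h, Nat.card_zpowers]
      refine ⟨⟨?_, ?_⟩, h⟩
      · rw [← orderOf_dvd_iff_pow_eq_one, ho, orderOf_dvd_iff_pow_eq_one]; exact hx0'.1
      · rw [← orderOf_dvd_iff_pow_eq_one, ho, orderOf_dvd_iff_pow_eq_one]; exact hx0'.2
  rw [hfilter, ← Fintype.card_subtype, ← Nat.card_eq_fintype_card, frob_card_zpowers_eq]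
  have h1 : orderOf (x0 ^ n') = p ^ (a + 1) := by
    apply orderOf_eq_prime_pow
    · rw [← pow_mul, mul_comm]; exact hx0'.2
    · rw [← pow_mul, mul_comm]; exact hx0'.1
  have h2 : p ^ (a + 1) ∣ orderOf x0 := h1 ▸ orderOf_pow_dvd n'
  have h3 := Nat.totient_dvd_of_dvd h2
  rw [Nat.totient_prime_pow_succ hp] at h3
  exact (Dvd.intro _ rfl).trans h3

theorem frob_gcd_of_dvd {H : Type u} [Group H] [Finite H]
    (hH : ∀ n, n ∣ Nat.card H → n ∣ Nat.card {g : H // g ^ n = 1}) (m : ℕ) :
    Nat.gcd (Nat.card H) m ∣ Nat.card {g : H // g ^ m = 1} := by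
  have h := hH (Nat.gcd (Nat.card H) m) (Nat.gcd_dvd_left _ _)
  have e : Nat.card {g : H // g ^ m = 1} =
      Nat.card {g : H // g ^ (Nat.gcd (Nat.card H) m) = 1} := by
    apply Nat.card_congr
    apply Equiv.subtypeEquivRight
    intro g
    rw [← orderOf_dvd_iff_pow_eq_one, ← orderOf_dvd_iff_pow_eq_one]
    exact ⟨fun hg => Nat.dvd_gcd (orderOf_dvd_natCard g) hg,
      fun hg => hg.trans (Nat.gcd_dvd_right _ _)⟩
  rw [e]; exact h

theorem frob_dvd_index_mul_gcd {d I c : ℕ} (h : d ∣ I * c) : d ∣ I * Nat.gcd c d := by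
  rw [← Nat.gcd_mul_left]
  exact Nat.dvd_gcd h (Dvd.intro_left _ rfl)

theorem frobenius_aux : ∀ (N : ℕ) (G : Type u) [Group G] [Finite G], Nat.card G = N →
    ∀ n, n ∣ N → n ∣ Nat.card {g : G // g ^ n = 1} := by
  intro N
  induction N using Nat.strong_induction_on with
  | _ N ih =>
  intro G _ _ hG
  have hNpos : 0 < N := hG ▸ Nat.card_pos
  have inner : ∀ k n, n * k = N → n ∣ Nat.card {g : G // g ^ n = 1} := by
    intro k
    induction k using Nat.strong_induction_on with
    | _ k ihk =>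
    intro n hnk
    have hkpos : 0 < k := Nat.pos_of_ne_zero (by rintro rfl; omega)
    have hnpos : 0 < n := Nat.pos_of_ne_zero (by rintro rfl; simp at hnk; omega)
    by_cases hk1 : k = 1
    · subst hk1
      rw [mul_one] at hnk
      have : Nat.card {g : G // g ^ n = 1} = Nat.card G := by
        apply Nat.card_congr
        exact Equiv.subtypeUnivEquiv (fun g => by rw [hnk, ← hG]; exact pow_card_eq_one')
      rw [this, hG, hnk]
    obtain ⟨p, hp, hpk⟩ := Nat.exists_prime_and_dvd hk1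
    obtain ⟨k', rfl⟩ := hpk
    have hk'pos : 0 < k' := Nat.pos_of_ne_zero (by rintro rfl; simp at hkpos)
    have h1 : n * p ∣ Nat.card {g : G // g ^ (n * p) = 1} :=
      ihk k' (by nlinarith [hp.two_le]) (n * p) (by rw [← hnk]; ring)
    obtain ⟨a, n', hpn', rfl⟩ := Nat.exists_eq_pow_mul_and_not_dvd hnpos.ne' p hp.ne_one
    have hE : p ^ a * n' * p = p ^ (a + 1) * n' := by ring
    rw [hE] at h1
    have hcop : (p ^ (a + 1)).Coprime n' :=
      Nat.Coprime.pow_left _ ((Nat.Prime.coprime_iff_not_dvd hp).2 hpn')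
    have hn'N : n' ∣ Nat.card G := by
      rw [hG, ← hnk]; exact Dvd.intro_left (p ^ a) rfl |>.trans (Dvd.intro _ rfl)
    have hY1 := frob_pow_dvd_card_Y (G := G) p a n' hp
    have hY2 : n' ∣ Nat.card {x : G // x ^ (p ^ (a + 1) * n') = 1 ∧ ¬ x ^ (p ^ a * n') = 1} := by
      rw [frob_card_decomp (p ^ (a + 1)) n' hcop (fun x => ¬ x ^ (p ^ a * n') = 1)
        (fun z => ¬ z ^ (p ^ a) = 1) ?_]
      · refine frob_fib_dvd (p ^ (a + 1)) n' (fun z => ¬ z ^ (p ^ a) = 1) ?_ n' ?_
        · intro t z hz hh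
          apply hz
          rw [conj_pow] at hh
          exact conj_eq_one_iff.1 hh
        · intro z hzA hz
          have : Fact p.Prime := ⟨hp⟩
          have hoz : orderOf z = p ^ (a + 1) := orderOf_eq_prime_pow hz hzA
          rw [frob_card_commute_eq]
          set K := Subgroup.centralizer ({z} : Set G) with hK
          have hzK : z ∈ K := by
            rw [hK, Subgroup.mem_centralizer_iff]; intro h hh; rw [Set.mem_singleton_iff.1 hh]
          let zK : K := ⟨z, hzK⟩
          have hcen : Subgroup.zpowers zK ≤ Subgroup.center K := by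
            rw [Subgroup.zpowers_le, Subgroup.mem_center_iff]
            intro k
            apply Subtype.ext
            have hk : (k : G) ∈ Subgroup.centralizer ({z} : Set G) := k.2
            rw [Subgroup.mem_centralizer_iff] at hk
            exact (hk z rfl).symm
          have : (Subgroup.zpowers zK).Normal := ⟨fun c hc g => by
            rw [Subgroup.mem_center_iff.1 (hcen hc) g, mul_inv_cancel_right]; exact hc⟩
          have hcardN : Nat.card (Subgroup.zpowers zK) = p ^ (a + 1) := by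
            rw [Nat.card_zpowers, Subgroup.orderOf_mk, hoz]
          have hcopN : (Nat.card (Subgroup.zpowers zK)).Coprime n' := by rw [hcardN]; exact hcop
          rw [frob_card_quotient (Subgroup.zpowers zK) hcen n' hcopN]
          have hcardK := Subgroup.card_eq_card_quotient_mul_card_subgroup (Subgroup.zpowers zK)
          have hlt : Nat.card (K ⧸ Subgroup.zpowers zK) < N := by
            have h1 : Nat.card K ≤ Nat.card G := Subgroup.card_le_card_group K
            have h2 : 2 ≤ Nat.card (Subgroup.zpowers zK) := by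
              rw [hcardN]; exact Nat.one_lt_pow (by omega) hp.one_lt
            have h3 : 0 < Nat.card (K ⧸ Subgroup.zpowers zK) := Nat.card_pos
            rw [← hG]; nlinarith
          have hq := frob_gcd_of_dvd (H := K ⧸ Subgroup.zpowers zK)
            (ih _ hlt (K ⧸ Subgroup.zpowers zK) rfl) n'
          have hgcd : Nat.gcd (Nat.card K) n' =
              Nat.gcd (Nat.card (K ⧸ Subgroup.zpowers zK)) n' := by
            rw [hcardK]; exact Nat.Coprime.gcd_mul_right_cancel _ hcopN
          have hidx : n' ∣ K.index * Nat.card K := by rw [Subgroup.index_mul_card]; exact hn'N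
          have := frob_dvd_index_mul_gcd hidx
          rw [hgcd] at this
          exact this.trans (Nat.mul_dvd_mul_left _ hq)
      · intro z y hz hy hc
        have hy' : y ^ (p ^ a * n') = 1 := by rw [mul_comm, pow_mul, hy, one_pow]
        rw [hc.mul_pow, hy', mul_one]
        apply not_congr
        constructor
        · intro h
          have ho1 : orderOf z ∣ p ^ a * n' := orderOf_dvd_of_pow_eq_one h
          have ho2 : orderOf z ∣ p ^ (a + 1) := orderOf_dvd_of_pow_eq_one hz
          have hco : (orderOf z).Coprime n' := Nat.Coprime.coprime_dvd_left ho2 hcop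
          exact orderOf_dvd_iff_pow_eq_one.1 (hco.dvd_of_dvd_mul_right ho1)
        · intro h; rw [pow_mul, h, one_pow]
    have hsum := frob_card_split (α := G) (fun x => x ^ (p ^ (a + 1) * n') = 1)
      (fun x => x ^ (p ^ a * n') = 1)
      (fun x hx => by rw [← hE, pow_mul, hx, one_pow])
    have hYn : p ^ a * n' ∣
        Nat.card {x : G // x ^ (p ^ (a + 1) * n') = 1 ∧ ¬ x ^ (p ^ a * n') = 1} :=
      Nat.Coprime.mul_dvd_of_dvd_of_dvd
        (Nat.Coprime.pow_left _ ((Nat.Prime.coprime_iff_not_dvd hp).2 hpn')) hY1 hY2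
    have h1' : p ^ a * n' ∣ Nat.card {x : G // x ^ (p ^ (a + 1) * n') = 1} :=
      (Dvd.intro p hE).trans h1
    rw [hsum] at h1'
    exact (Nat.dvd_add_left hYn).1 h1'
  intro n hn
  obtain ⟨k, hk⟩ := hn
  exact inner k n hk.symm

/-- **Frobenius' theorem.** -/
theorem frobenius_dvd {G : Type u} [Group G] [Finite G] (n : ℕ) (hn : n ∣ Nat.card G) :
    n ∣ Nat.card {g : G // g ^ n = 1} :=
  frobenius_aux (Nat.card G) G rfl n hn

/-- **Frobenius' theorem**, gcd version. -/
theorem frobenius_gcd_dvd {G : Type u} [Group G] [Finite G] (m : ℕ) :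
    Nat.gcd (Nat.card G) m ∣ Nat.card {g : G // g ^ m = 1} :=
  frob_gcd_of_dvd (fun n hn => frobenius_dvd n hn) m

end main

end Cfsg.Agent.H70
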