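import Cfsg.Agent.H83.GagSolvDefs

/-!
# S4840-NOP7 (helper70, piece for helper83): the case `|N| = 49`.

A group `K` of order dividing 48 with at most one involution has no group of automorphisms of
7-power order whose fixed points form a subgroup of index 8.
-/

set_option autoImplicit false

namespace Cfsg.Agent.H70.Gag7

open MulAction
open scoped Pointwise

universe u

/-- an invariant subset without fixed points under a `p`-group has cardinality divisible by `p` -/
theorem dvd_ncard_of_invariant {P X : Type*} [Group P] [MulAction P X] [Finite X] {p : ℕ}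
    [Fact p.Prime] (hP : IsPGroup p P) (Y : Set X) (hY : ∀ g : P, ∀ y ∈ Y, g • y ∈ Y)
    (hfix : ∀ y ∈ Y, ¬ ∀ g : P, g • y = y) : p ∣ Y.ncard := by
  let S : SubMulAction P X := ⟨Y, fun g y hy => hY g y hy⟩
  have hfin : Finite ↥S := Finite.of_injective (fun x : ↥S => (x : X)) Subtype.val_injective
  have h := hP.card_modEq_card_fixedPoints ↥S
  have hemp : IsEmpty ↥(fixedPoints P ↥S) :=
    ⟨fun a => hfix a.1.1 a.1.2 (fun g => congrArg Subtype.val (a.2 g))⟩
  have h0 : Nat.card ↥(fixedPoints P ↥S) = 0 := Nat.card_of_isEmpty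
  rw [h0] at h
  have h2 : p ∣ Nat.card ↥S := (Nat.modEq_zero_iff_dvd).1 h
  have h3 : Nat.card ↥S = Y.ncard := Nat.card_coe_set_eq Y
  rwa [h3] at h2

theorem nop7_abs {K P : Type u} [Group K] [Finite K] [Group P] [MulDistribMulAction P K]
    (hP : IsPGroup 7 P) (hK : Nat.card K ∣ 48)
    (huniq : ∀ a b : K, a ≠ 1 → b ≠ 1 → a ^ 2 = 1 → b ^ 2 = 1 → a = b)
    (C : Subgroup K) (hC : ∀ k : K, k ∈ C ↔ ∀ g : P, g • k = k) (hidx : C.index = 8) : False := by
  classical
  have hp7 : Fact (Nat.Prime 7) := ⟨by norm_num⟩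
  have hp2 : Fact (Nat.Prime 2) := ⟨Nat.prime_two⟩
  have hcard : Nat.card C * 8 = Nat.card K := by
    rw [← hidx]
    exact C.card_mul_index
  -- the involution
  have h2K : 2 ∣ Nat.card K := by
    rw [← hcard]
    exact Dvd.dvd.mul_left (by norm_num) _
  obtain ⟨z, hzo⟩ := exists_prime_orderOf_dvd_card' 2 h2K
  have hz2 : z ^ 2 = 1 := by
    rw [← hzo]
    exact pow_orderOf_eq_one z
  have hz1 : z ≠ 1 := by
    intro h
    rw [h, orderOf_one] at hzo
    norm_num at hzo
  have hinv : ∀ t : K, t ^ 2 = 1 → t = 1 ∨ t = z := by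
    intro t ht
    by_cases h1 : t = 1
    · exact Or.inl h1
    · exact Or.inr (huniq t z h1 hz1 ht hz2)
  have hgz : ∀ g : P, g • z = z := by
    intro g
    rcases hinv (g • z) (by rw [← smul_pow', hz2, smul_one]) with h | h
    · exfalso
      apply hz1
      have h' : g • z = g • (1 : K) := by rw [h, smul_one]
      exact MulAction.injective g h'
    · exact h
  have hzC : z ∈ C := (hC z).2 hgz
  have hzc : ∀ k : K, k * z = z * k := by
    intro k
    rcases hinv (k * z * k⁻¹) (by rw [conj_pow, hz2, mul_one, mul_inv_cancel]) with h | h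
    · exfalso
      apply hz1
      have h' : z = k⁻¹ * (k * z * k⁻¹) * k := by
        simp only [mul_assoc, inv_mul_cancel_left, inv_mul_cancel, mul_one]
      rw [h', h, mul_one, inv_mul_cancel]
    · calc k * z = k * z * k⁻¹ * k := by rw [inv_mul_cancel_right]
        _ = z * k := by rw [h]
  -- `|K|` is 16 or 48
  have h2C : 2 ∣ Nat.card C := by
    have h := Subgroup.orderOf_dvd_natCard C hzC
    rwa [hzo] at h
  have h16 : 16 ∣ Nat.card K := by
    rw [← hcard]
    obtain ⟨m, hm⟩ := h2C
    exact ⟨m, by rw [hm]; ring⟩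
  have hK2 : Nat.card K = 16 ∨ Nat.card K = 48 := by
    obtain ⟨m, hm⟩ := h16
    have hle : Nat.card K ≤ 48 := Nat.le_of_dvd (by norm_num) hK
    have hpos : 0 < Nat.card K := Nat.card_pos
    have hm3 : m ≤ 3 := by omega
    have hm0 : 0 < m := by omega
    interval_cases m
    · left
      omega
    · exfalso
      rw [hm] at hK
      norm_num at hK
    · right
      omega
  have hC2 : Nat.card C ∣ 6 := by
    rcases hK2 with h | h
    · have h' : Nat.card C = 2 := by omega
      rw [h']
      norm_num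
    · have h' : Nat.card C = 6 := by omega
      rw [h']
  -- Sylow 2-subgroups have order 16
  have hT16 : ∀ T : Sylow 2 K, Nat.card (T : Subgroup K) = 16 := by
    intro T
    have h1 : 2 ^ 4 ∣ Nat.card (T : Subgroup K) :=
      T.pow_dvd_card_of_pow_dvd_card (n := 4) (by norm_num; exact h16)
    have h2 : Nat.card (T : Subgroup K) ∣ 48 := (Subgroup.card_subgroup_dvd_card _).trans hK
    obtain ⟨n, hn⟩ := IsPGroup.iff_card.1 T.isPGroup'
    rw [hn] at h1 h2 ⊢
    have hn5 : n < 6 := by
      by_contra hcon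
      push Not at hcon
      have h3 : 2 ^ 6 ≤ 2 ^ n := Nat.pow_le_pow_right (by norm_num) hcon
      have h4 := Nat.le_of_dvd (by norm_num) h2
      omega
    interval_cases n <;> first | rfl | (exfalso; revert h1 h2; decide)
  -- an invariant Sylow 2-subgroup
  have hne : Nonempty ↥(fixedPoints P (Sylow 2 K)) := by
    by_contra hemp
    rw [not_nonempty_iff] at hemp
    have hmod := hP.card_modEq_card_fixedPoints (Sylow 2 K)
    have h0 : Nat.card ↥(fixedPoints P (Sylow 2 K)) = 0 := Nat.card_of_isEmpty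
    rw [h0] at hmod
    have h7 : 7 ∣ Nat.card (Sylow 2 K) := (Nat.modEq_zero_iff_dvd).1 hmod
    obtain ⟨T₁⟩ : Nonempty (Sylow 2 K) := inferInstance
    have hn3 : Nat.card (Sylow 2 K) ∣ T₁.index := T₁.card_dvd_index
    have hidx1 : T₁.index * 16 = Nat.card K := by
      rw [← hT16 T₁]
      exact Subgroup.index_mul_card _
    have hpos : 0 < T₁.index := by
      rcases Nat.eq_zero_or_pos T₁.index with h | h
      · rw [h] at hidx1
        have : 0 < Nat.card K := Nat.card_pos
        omega
      · exact h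
    have hle3 : T₁.index ≤ 3 := by
      rcases hK2 with h | h <;> omega
    have h5 := Nat.le_of_dvd hpos hn3
    have h6 := Nat.le_of_dvd Nat.card_pos h7
    omega
  obtain ⟨⟨T, hT⟩⟩ := hne
  have hTinv : ∀ g : P, ∀ t ∈ (T : Subgroup K), g • t ∈ (T : Subgroup K) := by
    intro g t ht
    have h1 : g • t ∈ g • (T : Subgroup K) := Subgroup.smul_mem_pointwise_smul t g _ ht
    rw [← Sylow.pointwise_smul_def, hT g] at h1
    exact h1
  have hzT : z ∈ (T : Subgroup K) := by
    have h2T : 2 ∣ Nat.card (T : Subgroup K) := by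
      rw [hT16 T]
      norm_num
    obtain ⟨t, ht⟩ := exists_prime_orderOf_dvd_card' 2 h2T
    have ht2 : (t : K) ^ 2 = 1 := by
      have h' : t ^ 2 = 1 := by
        have h'' := pow_orderOf_eq_one t
        rwa [ht] at h''
      exact_mod_cast congrArg Subtype.val h'
    have ht1 : (t : K) ≠ 1 := by
      intro h
      have h' : t = 1 := Subtype.ext h
      rw [h', orderOf_one] at ht
      norm_num at ht
    rcases hinv t ht2 with h | h
    · exact absurd h ht1
    · rw [← h]
      exact t.2
  have hfixT : ∀ t ∈ (T : Subgroup K), (∀ g : P, g • t = t) → t = 1 ∨ t = z := by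
    intro t ht hfix
    apply hinv
    have htC : t ∈ C := (hC t).2 hfix
    have d1 : orderOf t ∣ 16 := by
      rw [← hT16 T]
      exact Subgroup.orderOf_dvd_natCard _ ht
    have d2 : orderOf t ∣ 6 := (Subgroup.orderOf_dvd_natCard C htC).trans hC2
    have d3 : orderOf t ∣ Nat.gcd 16 6 := Nat.dvd_gcd d1 d2
    exact orderOf_dvd_iff_pow_eq_one.1 d3
  have e16 : ((T : Subgroup K) : Set K).ncard = 16 := by
    rw [← Nat.card_coe_set_eq]
    exact hT16 T
  -- the elements of order 4, and those of order 8 or 16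
  obtain ⟨S, hS⟩ : ∃ S : Set K, S = {t | t ∈ (T : Subgroup K) ∧ t ^ 2 = z} := ⟨_, rfl⟩
  obtain ⟨W, hW⟩ : ∃ W : Set K, W = {t | t ∈ (T : Subgroup K) ∧ t ^ 2 ≠ 1 ∧ t ^ 2 ≠ z} :=
    ⟨_, rfl⟩
  have hSmem : ∀ t, t ∈ S ↔ t ∈ (T : Subgroup K) ∧ t ^ 2 = z := by
    intro t
    rw [hS]
    rfl
  have hWmem : ∀ t, t ∈ W ↔ t ∈ (T : Subgroup K) ∧ t ^ 2 ≠ 1 ∧ t ^ 2 ≠ z := by
    intro t
    rw [hW]
    rfl
  have h7S : 7 ∣ S.ncard := by
    apply dvd_ncard_of_invariant hP S
    · intro g t ht
      rw [hSmem] at ht ⊢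
      exact ⟨hTinv g t ht.1, by rw [← smul_pow', ht.2, hgz]⟩
    · intro t ht hfix
      rw [hSmem] at ht
      rcases hfixT t ht.1 hfix with h | h
      · rw [h, one_pow] at ht
        exact hz1 ht.2.symm
      · rw [h, hz2] at ht
        exact hz1 ht.2.symm
  have h7W : 7 ∣ W.ncard := by
    apply dvd_ncard_of_invariant hP W
    · intro g t ht
      rw [hWmem] at ht ⊢
      refine ⟨hTinv g t ht.1, ?_, ?_⟩
      · rw [← smul_pow']
        intro h
        apply ht.2.1
        have h' : g • t ^ 2 = g • (1 : K) := by rw [h, smul_one]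
        exact MulAction.injective g h'
      · rw [← smul_pow']
        intro h
        apply ht.2.2
        have h' : g • t ^ 2 = g • z := by rw [h, hgz]
        exact MulAction.injective g h'
    · intro t ht hfix
      rw [hWmem] at ht
      rcases hfixT t ht.1 hfix with h | h
      · rw [h, one_pow] at ht
        exact ht.2.1 rfl
      · rw [h, hz2] at ht
        exact ht.2.1 rfl
  have h2W : 2 ∣ W.ncard := by
    have hZ : IsPGroup 2 ↥(Subgroup.zpowers z) :=
      IsPGroup.of_card (n := 1) (by rw [Nat.card_zpowers, hzo, pow_one])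
    have hZel : ∀ g : ↥(Subgroup.zpowers z), (g : K) = 1 ∨ (g : K) = z := by
      intro g
      apply hinv
      have h : orderOf (g : K) ∣ 2 := by
        have h' := Subgroup.orderOf_dvd_natCard (Subgroup.zpowers z) g.2
        rwa [Nat.card_zpowers, hzo] at h'
      exact orderOf_dvd_iff_pow_eq_one.1 h
    apply dvd_ncard_of_invariant hZ W
    · intro g t ht
      rw [hWmem] at ht ⊢
      have hsm : g • t = (g : K) * t := rfl
      rw [hsm]
      rcases hZel g with h | h
      · rw [h, one_mul]
        exact ht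
      · rw [h]
        have e : (z * t) ^ 2 = t ^ 2 := by
          rw [pow_two, pow_two]
          calc z * t * (z * t) = z * (t * z) * t := by simp only [mul_assoc]
            _ = z * (z * t) * t := by rw [hzc t]
            _ = z ^ 2 * (t * t) := by rw [pow_two]; simp only [mul_assoc]
            _ = t * t := by rw [hz2, one_mul]
        exact ⟨Subgroup.mul_mem _ hzT ht.1, by rw [e]; exact ht.2.1, by rw [e]; exact ht.2.2⟩
    · intro t _ hfix
      have h' : z * t = t := hfix ⟨z, Subgroup.mem_zpowers z⟩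
      exact hz1 (mul_eq_right.1 h')
  have hdecomp : ((T : Subgroup K) : Set K) = ({1, z} ∪ S) ∪ W := by
    ext t
    simp only [Set.mem_union, Set.mem_insert_iff, Set.mem_singleton_iff, SetLike.mem_coe, hSmem,
      hWmem]
    constructor
    · intro ht
      by_cases h1 : t ^ 2 = 1
      · left
        left
        exact hinv t h1
      · by_cases h2 : t ^ 2 = z
        · left
          right
          exact ⟨ht, h2⟩
        · right
          exact ⟨ht, h1, h2⟩
    · rintro ((h | h) | h)
      · rcases h with rfl | rfl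
        · exact Subgroup.one_mem _
        · exact hzT
      · exact h.1
      · exact h.1
  have hcount : S.ncard + W.ncard = 14 := by
    have hd1 : Disjoint ({1, z} : Set K) S := by
      rw [Set.disjoint_left]
      intro t ht hts
      rw [hSmem] at hts
      rcases ht with rfl | ht
      · rw [one_pow] at hts
        exact hz1 hts.2.symm
      · rw [Set.mem_singleton_iff.1 ht, hz2] at hts
        exact hz1 hts.2.symm
    have hd2 : Disjoint (({1, z} : Set K) ∪ S) W := by
      rw [Set.disjoint_left]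
      intro t ht htw
      rw [hWmem] at htw
      rcases ht with ht | ht
      · rcases ht with rfl | ht
        · exact htw.2.1 (one_pow 2)
        · rw [Set.mem_singleton_iff.1 ht] at htw
          exact htw.2.1 hz2
      · rw [hSmem] at ht
        exact htw.2.2 ht.2
    have e1 := e16
    rw [hdecomp, Set.ncard_union_eq hd2 (Set.toFinite _) (Set.toFinite _),
      Set.ncard_union_eq hd1 (Set.toFinite _) (Set.toFinite _), Set.ncard_pair hz1.symm] at e1
    omega
  have hWempty : W.ncard = 0 := by
    have h14 : 2 * 7 ∣ W.ncard := Nat.Coprime.mul_dvd_of_dvd_of_dvd (by norm_num) h2W h7W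
    rcases Nat.eq_zero_or_pos W.ncard with h | h
    · exact h
    · exfalso
      have hle := Nat.le_of_dvd h h14
      have hS0 : S.ncard = 0 := by omega
      have hSe : S = ∅ := (Set.ncard_eq_zero (Set.toFinite S)).1 hS0
      have hstep : ∀ t ∈ (T : Subgroup K), t ≠ 1 → t ≠ z → t ^ 2 ≠ 1 ∧ t ^ 2 ≠ z := by
        intro t ht h1 h2
        constructor
        · intro h'
          rcases hinv t h' with h'' | h''
          · exact h1 h''
          · exact h2 h''
        · intro h'
          have hts : t ∈ S := (hSmem t).2 ⟨ht, h'⟩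
          rw [hSe] at hts
          exact hts
      have hWne : W.Nonempty := by
        rw [← Set.ncard_pos (Set.toFinite W)]
        exact h
      obtain ⟨t, htW⟩ := hWne
      rw [hWmem] at htW
      obtain ⟨ht, ht1, ht2⟩ := htW
      have m1 : t ^ 2 ∈ (T : Subgroup K) := Subgroup.pow_mem _ ht 2
      have a1 := hstep (t ^ 2) m1 ht1 ht2
      have m2 : (t ^ 2) ^ 2 ∈ (T : Subgroup K) := Subgroup.pow_mem _ m1 2
      have a2 := hstep ((t ^ 2) ^ 2) m2 a1.1 a1.2
      have m3 : ((t ^ 2) ^ 2) ^ 2 ∈ (T : Subgroup K) := Subgroup.pow_mem _ m2 2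
      have a3 := hstep (((t ^ 2) ^ 2) ^ 2) m3 a2.1 a2.2
      apply a3.1
      have h16' : t ^ 16 = 1 := by
        have h' := Subgroup.orderOf_dvd_natCard _ ht
        rw [hT16 T] at h'
        exact orderOf_dvd_iff_pow_eq_one.1 h'
      rw [← pow_mul, ← pow_mul, ← pow_mul]
      exact h16'
  have hsq : ∀ t ∈ (T : Subgroup K), t ≠ 1 → t ≠ z → t ^ 2 = z := by
    intro t ht h1 h2
    by_contra h
    have hW0 : W = ∅ := (Set.ncard_eq_zero (Set.toFinite W)).1 hWempty
    have htw : t ∈ W := (hWmem t).2 ⟨ht, fun h' => (hinv t h').elim h1 h2, h⟩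
    rw [hW0] at htw
    exact htw
  -- the final contradiction
  have e4 : z * z = 1 := by
    rw [← pow_two]
    exact hz2
  have hrule : ∀ x ∈ (T : Subgroup K), ∀ y ∈ (T : Subgroup K), x ≠ 1 → x ≠ z → y ≠ 1 → y ≠ z →
      x * y ≠ 1 → x * y ≠ z → x * y = z * (y * x) := by
    intro x hx y hy hx1 hxz hy1 hyz hxy1 hxyz
    have e1 : x * y * (x * y) = z := by
      rw [← pow_two]
      exact hsq (x * y) (Subgroup.mul_mem _ hx hy) hxy1 hxyz
    have e2 : x * x = z := by
      rw [← pow_two]
      exact hsq x hx hx1 hxz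
    have e3 : y * y = z := by
      rw [← pow_two]
      exact hsq y hy hy1 hyz
    have e5 : y * x = z * (x * y) := by
      have h1 : x * (x * y * (x * y)) * y = x * z * y := by rw [e1]
      have h2 : x * (x * y * (x * y)) * y = (x * x) * (y * x) * (y * y) := by
        simp only [mul_assoc]
      rw [h2, e2, e3, hzc x, mul_assoc z (y * x) z, hzc (y * x), ← mul_assoc, e4, one_mul] at h1
      rw [h1, mul_assoc]
    rw [e5, ← mul_assoc, e4, one_mul]
  have hne1 : ∀ x ∈ (T : Subgroup K), x ≠ 1 → x ≠ z → ∀ y, y ≠ x * z → x * y ≠ 1 := by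
    intro x hx hx1 hxz y hy h
    apply hy
    have ex : x * x = z := by
      rw [← pow_two]
      exact hsq x hx hx1 hxz
    have h' : x * y = x * (x * z) := by rw [h, ← mul_assoc, ex, e4]
    exact mul_left_cancel h'
  have hnez : ∀ x ∈ (T : Subgroup K), x ≠ 1 → x ≠ z → ∀ y, y ≠ x → x * y ≠ z := by
    intro x hx hx1 hxz y hy h
    apply hy
    have ex : x * x = z := by
      rw [← pow_two]
      exact hsq x hx hx1 hxz
    have h' : x * y = x * x := by rw [h, ex]
    exact mul_left_cancel h'
  have hpick : ∀ B : Finset K, B.card < 16 → ∃ c ∈ (T : Subgroup K), c ∉ B := by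
    intro B hB
    by_contra hcon
    push Not at hcon
    have hsub : ((T : Subgroup K) : Set K) ⊆ (B : Set K) := fun c hc => hcon c hc
    have h' := Set.ncard_le_ncard hsub (Finset.finite_toSet B)
    rw [Set.ncard_coe_finset, e16] at h'
    omega
  obtain ⟨a, haT, haB⟩ := hpick ([1, z].toFinset)
    (lt_of_le_of_lt (List.toFinset_card_le _) (by simp))
  simp only [List.mem_toFinset, List.mem_cons, List.not_mem_nil, or_false, not_or] at haB
  obtain ⟨ha1, haz⟩ := haB
  obtain ⟨b, hbT, hbB⟩ := hpick ([1, z, a, a * z].toFinset)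
    (lt_of_le_of_lt (List.toFinset_card_le _) (by simp))
  simp only [List.mem_toFinset, List.mem_cons, List.not_mem_nil, or_false, not_or] at hbB
  obtain ⟨hb1, hbz, hba, hbaz⟩ := hbB
  obtain ⟨c, hcT, hcB⟩ := hpick ([1, z, a, a * z, b, b * z, a * b, a * b * z].toFinset)
    (lt_of_le_of_lt (List.toFinset_card_le _) (by simp))
  simp only [List.mem_toFinset, List.mem_cons, List.not_mem_nil, or_false, not_or] at hcB
  obtain ⟨hc1, hcz, hca, hcaz, hcb, hcbz, hcab, hcabz⟩ := hcB
  have habT : a * b ∈ (T : Subgroup K) := Subgroup.mul_mem _ haT hbT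
  have hab1 : a * b ≠ 1 := hne1 a haT ha1 haz b hbaz
  have habz : a * b ≠ z := hnez a haT ha1 haz b hba
  have r_ac : a * c = z * (c * a) :=
    hrule a haT c hcT ha1 haz hc1 hcz (hne1 a haT ha1 haz c hcaz) (hnez a haT ha1 haz c hca)
  have r_bc : b * c = z * (c * b) :=
    hrule b hbT c hcT hb1 hbz hc1 hcz (hne1 b hbT hb1 hbz c hcbz) (hnez b hbT hb1 hbz c hcb)
  have r_abc : a * b * c = z * (c * (a * b)) :=
    hrule (a * b) habT c hcT hab1 habz hc1 hcz (hne1 (a * b) habT hab1 habz c hcabz)
      (hnez (a * b) habT hab1 habz c hcab)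
  have f1 : a * b * c = c * (a * b) := by
    calc a * b * c = a * (b * c) := mul_assoc _ _ _
      _ = a * (z * (c * b)) := by rw [r_bc]
      _ = z * (a * c) * b := by
        rw [← mul_assoc a z, hzc a]
        simp only [mul_assoc]
      _ = z * (z * (c * a)) * b := by rw [r_ac]
      _ = z * z * (c * (a * b)) := by simp only [mul_assoc]
      _ = c * (a * b) := by rw [e4, one_mul]
  rw [r_abc] at f1
  exact hz1 (mul_eq_right.1 f1)

theorem nop7 : Cfsg.Agent.H83.GagSolv.StmtNop7.{u} := by
  intro A _ _ K P₁ hKn hP hK huniq hidx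
  let ψ : ↥P₁ →* MulAut ↥K := (MulAut.conjNormal (H := K)).comp P₁.subtype
  let _ : MulDistribMulAction ↥P₁ ↥K := MulDistribMulAction.compHom ↥K ψ
  have hsm : ∀ (g : ↥P₁) (k : ↥K), ((g • k : ↥K) : A) = (g : A) * k * (g : A)⁻¹ :=
    fun g k => rfl
  refine nop7_abs (K := ↥K) (P := ↥P₁) hP hK ?_
    ((K ⊓ Subgroup.centralizer (P₁ : Set A)).subgroupOf K) ?_ hidx
  · intro a b ha hb ha2 hb2
    apply Subtype.ext
    apply huniq a a.2 b b.2
    · intro h
      exact ha (Subtype.ext h)
    · intro h
      exact hb (Subtype.ext h)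
    · exact_mod_cast congrArg Subtype.val ha2
    · exact_mod_cast congrArg Subtype.val hb2
  · intro k
    rw [Subgroup.mem_subgroupOf]
    constructor
    · intro hk g
      apply Subtype.ext
      rw [hsm]
      have h := Subgroup.mem_centralizer_iff.1 hk.2 g g.2
      rw [h, mul_inv_cancel_right]
    · intro hk
      refine ⟨k.2, Subgroup.mem_centralizer_iff.2 (fun g hg => ?_)⟩
      have h := congrArg Subtype.val (hk ⟨g, hg⟩)
      rw [hsm] at h
      calc g * (k : A) = g * k * g⁻¹ * g := by rw [inv_mul_cancel_right]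
        _ = k * g := by rw [h]

end Cfsg.Agent.H70.Gag7
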