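import Cfsg.Agent.H10.J2S.OutChk

/-!
# Straight-line programs in the quandle of the reflections of J2 commute with induced maps
(helper70, piece S2066-SLP for helper10)
-/

set_option autoImplicit false

namespace Cfsg.Agent.H70.J2SLP

open Cfsg.Agent.H10.J2S Cfsg.Agent.H9.J2 Cfsg.Spor MulAction

theorem getD_lt {vals : List ℕ} (hv : ∀ v ∈ vals, v < 315) (i : ℕ) : vals.getD i 0 < 315 := by
  rcases lt_or_ge i vals.length with h | h
  · rw [List.getD_eq_getElem _ _ h]
    exact hv _ (List.getElem_mem h)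
  · rw [List.getD_eq_default _ _ h]
    norm_num

theorem getD_map_f {f : ℕ → ℕ} (h0 : f 0 = 0) (vals : List ℕ) (i : ℕ) :
    (vals.map f).getD i 0 = f (vals.getD i 0) := by
  conv_lhs => rw [← h0]
  exact List.getD_map vals 0 f

theorem evalSLP_cons (ab : ℕ × ℕ) (prog : List (ℕ × ℕ)) (vals : List ℕ) :
    evalSLP (ab :: prog) vals =
      evalSLP prog (vals ++ [op (vals.getD ab.1 0) (vals.getD ab.2 0)]) := by
  rw [evalSLP, frcN_eq]

theorem evalSLP_map {α : MulAut J2} {f : ℕ → ℕ} (h : Ind α f) (h0 : f 0 = 0) :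
    ∀ (prog : List (ℕ × ℕ)) (vals : List ℕ), (∀ v ∈ vals, v < 315) →
      evalSLP prog (vals.map f) = (evalSLP prog vals).map f ∧
        ∀ v ∈ evalSLP prog vals, v < 315 := by
  intro prog
  induction prog with
  | nil =>
    intro vals hv
    exact ⟨rfl, hv⟩
  | cons ab prog ih =>
    intro vals hv
    have ha := getD_lt hv ab.1
    have hb := getD_lt hv ab.2
    have hv' : ∀ v ∈ vals ++ [op (vals.getD ab.1 0) (vals.getD ab.2 0)], v < 315 := by
      intro v hvm
      rcases List.mem_append.1 hvm with hvm | hvm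
      · exact hv v hvm
      · rw [List.mem_singleton] at hvm
        rw [hvm]
        exact op_lt ha hb
    obtain ⟨e1, e2⟩ := ih _ hv'
    rw [evalSLP_cons, evalSLP_cons]
    refine ⟨?_, e2⟩
    rw [← e1, List.map_append, List.map_singleton, getD_map_f h0, getD_map_f h0,
      Ind.hom h ha hb]

theorem relChk_map {α : MulAut J2} {f : ℕ → ℕ} (h : Ind α f) (h0 : f 0 = 0)
    (rels : List (ℕ × ℕ × ℕ)) (vals : List ℕ) (hv : ∀ v ∈ vals, v < 315)
    (hr : relChk rels vals = true) : relChk rels (vals.map f) = true := by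
  unfold relChk at hr ⊢
  rw [List.all_eq_true] at hr ⊢
  intro r hrm
  have h1 := Nat.eq_of_beq_eq_true (hr r hrm)
  rw [getD_map_f h0, getD_map_f h0, getD_map_f h0, ← h1,
    ← Ind.hom h (getD_lt hv r.1) (getD_lt hv r.2.1)]
  exact Nat.beq_refl _

theorem lt_base3 : ∀ v ∈ [0, 19, 12], v < 315 := by decide

theorem lt_base4 : ∀ v ∈ [0, 19, 12, 2], v < 315 := by decide

theorem relOK1_of_ind {α : MulAut J2} {f : ℕ → ℕ} (h : Ind α f) (h0 : f 0 = 0)
    (h19 : f 19 = 19) : relOK1 (f 12) = true := by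
  have hb := rel1_base
  unfold relOK1 at hb ⊢
  rw [frcList_eq] at hb ⊢
  obtain ⟨e1, e2⟩ := evalSLP_map h h0 prog1 [0, 19, 12] lt_base3
  have e3 : [0, 19, f 12] = [0, 19, 12].map f := by
    simp only [List.map_cons, List.map_nil, h0, h19]
  rw [e3, e1]
  exact relChk_map h h0 rels1 _ e2 hb

theorem relOK2_of_ind {α : MulAut J2} {f : ℕ → ℕ} (h : Ind α f) (h0 : f 0 = 0)
    (h19 : f 19 = 19) (h12 : f 12 = 12) : relOK2 (f 2) = true := by
  have hb := rel2_base
  unfold relOK2 at hb ⊢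
  rw [frcList_eq] at hb ⊢
  obtain ⟨e1, e2⟩ := evalSLP_map h h0 prog2 [0, 19, 12, 2] lt_base4
  have e3 : [0, 19, 12, f 2] = [0, 19, 12, 2].map f := by
    simp only [List.map_cons, List.map_nil, h0, h19, h12]
  rw [e3, e1]
  exact relChk_map h h0 rels2 _ e2 hb

theorem map_eq_self_imp {f : ℕ → ℕ} : ∀ (l : List ℕ), l.map f = l → ∀ v ∈ l, f v = v
  | [], _, v, hv => by simp at hv
  | a :: l, h, v, hv => by
    rw [List.map_cons, List.cons.injEq] at h
    rcases List.mem_cons.1 hv with rfl | hv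
    · exact h.1
    · exact map_eq_self_imp l h.2 v hv

theorem fix_all_of_ind {α : MulAut J2} {f : ℕ → ℕ} (h : Ind α f) (h0 : f 0 = 0)
    (h19 : f 19 = 19) (h12 : f 12 = 12) (h2 : f 2 = 2) : ∀ p, p < 315 → f p = p := by
  intro p hp
  obtain ⟨e1, -⟩ := evalSLP_map h h0 prog3 [0, 19, 12, 2] lt_base4
  have e3 : [0, 19, 12, 2].map f = [0, 19, 12, 2] := by
    simp only [List.map_cons, List.map_nil, h0, h19, h12, h2]
  rw [e3] at e1
  have hok := prog3_ok
  rw [frcList_eq, List.all_eq_true] at hok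
  have hmem := (memN_iff p _).1 (hok p (List.mem_range.2 hp))
  exact map_eq_self_imp _ e1.symm p hmem

end Cfsg.Agent.H70.J2SLP
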