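import Mathlib

/-!
# Abstract core for the `(K2)` step of the JZ kill (S2951): conjugating an element of
`V = ⨆ W i` into `⨆ Y i` by an element of `⨆ Kc i`.
-/

set_option autoImplicit false

namespace Cfsg.Agent.H70.Kh

open Subgroup

/-- Elements of the join of two elementwise commuting subgroups are products. -/
theorem mem_sup_comm {G : Type*} [Group G] (A B : Subgroup G)
    (hc : ∀ a ∈ A, ∀ b ∈ B, a * b = b * a) {u : G} (hu : u ∈ A ⊔ B) :
    ∃ a ∈ A, ∃ b ∈ B, u = a * b := by
  rw [sup_eq_closure] at hu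
  induction hu using Subgroup.closure_induction with
  | mem x hx =>
    rcases hx with hx | hx
    · exact ⟨x, hx, 1, B.one_mem, by simp⟩
    · exact ⟨1, A.one_mem, x, hx, by simp⟩
  | one => exact ⟨1, A.one_mem, 1, B.one_mem, by simp⟩
  | mul x y _ _ hx hy =>
    obtain ⟨a, ha, b, hb, rfl⟩ := hx
    obtain ⟨a', ha', b', hb', rfl⟩ := hy
    refine ⟨a * a', A.mul_mem ha ha', b * b', B.mul_mem hb hb', ?_⟩
    have h := hc a' ha' b hb
    calc a * b * (a' * b') = a * (b * a') * b' := by group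
      _ = a * (a' * b) * b' := by rw [h]
      _ = a * a' * (b * b') := by group
  | inv x _ hx =>
    obtain ⟨a, ha, b, hb, rfl⟩ := hx
    refine ⟨a⁻¹, A.inv_mem ha, b⁻¹, B.inv_mem hb, ?_⟩
    have h := hc a ha b hb
    rw [h]; group

/-- Conjugating an element of `⨆ i ∈ s, W i` into `⨆ i ∈ s, Y i` by an element of
`⨆ i ∈ s, Kc i`, when `Kc i` moves every element of `W i` into `Y i` and centralizes the other
`W j`. -/
theorem conj_into_finset {G : Type*} [Group G] {ι : Type*} [DecidableEq ι]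
    (W Kc Y : ι → Subgroup G)
    (hWK : ∀ i j, i ≠ j → W i ≤ centralizer (Kc j : Set G))
    (hYW : ∀ i, Y i ≤ W i)
    (hcomm : ∀ i j, i ≠ j → ∀ a ∈ W i, ∀ b ∈ W j, a * b = b * a)
    (htr : ∀ i, ∀ x ∈ W i, ∃ k ∈ Kc i, k * x * k⁻¹ ∈ Y i)
    (s : Finset ι) :
    ∀ u ∈ ⨆ i ∈ s, W i, ∃ k ∈ ⨆ i ∈ s, Kc i, k * u * k⁻¹ ∈ ⨆ i ∈ s, Y i := by
  induction s using Finset.induction_on with
  | empty =>
    intro u hu
    simp only [Finset.notMem_empty, iSup_false, iSup_bot, mem_bot] at hu
    subst hu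
    exact ⟨1, one_mem _, by simp⟩
  | insert a s ha ih =>
    intro u hu
    rw [Finset.iSup_insert] at hu ⊢
    rw [Finset.iSup_insert]
    have hc : ∀ x ∈ W a, ∀ y ∈ ⨆ i ∈ s, W i, x * y = y * x := by
      intro x hx y hy
      have hle : (⨆ i ∈ s, W i) ≤ centralizer ({x} : Set G) := by
        refine iSup₂_le fun i hi => ?_
        intro b hb
        rw [mem_centralizer_iff]
        intro c hc
        rw [Set.mem_singleton_iff] at hc
        subst hc
        have hia : a ≠ i := fun h => ha (h ▸ hi)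
        exact hcomm a i hia c hx b hb
      have h := hle hy
      rw [mem_centralizer_iff] at h
      exact h x rfl
    obtain ⟨x, hx, y, hy, rfl⟩ := mem_sup_comm _ _ hc hu
    obtain ⟨k', hk', hky⟩ := ih y hy
    obtain ⟨ka, hka, hkx⟩ := htr a x hx
    refine ⟨ka * k', mul_mem (mem_sup_left hka) (mem_sup_right hk'), ?_⟩
    have h1 : x * k' = k' * x := by
      have hle : (⨆ i ∈ s, Kc i) ≤ centralizer (W a : Set G) := by
        refine iSup₂_le fun i hi => ?_
        have hia : a ≠ i := fun h => ha (h ▸ hi)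
        exact le_centralizer_iff.mp (hWK a i hia)
      have h := hle hk'
      rw [mem_centralizer_iff] at h
      exact h x hx
    have h2 : ka * (k' * y * k'⁻¹) = (k' * y * k'⁻¹) * ka := by
      have hle : (⨆ i ∈ s, Y i) ≤ centralizer (Kc a : Set G) := by
        refine iSup₂_le fun i hi => ?_
        have hia : i ≠ a := fun h => ha (h ▸ hi)
        exact (hYW i).trans (hWK i a hia)
      have h := hle hky
      rw [mem_centralizer_iff] at h
      exact h ka hka
    have h3 : ka * k' * (x * y) * (ka * k')⁻¹ = (ka * x * ka⁻¹) * (k' * y * k'⁻¹) := by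
      have e1 : ka * k' * (x * y) * (ka * k')⁻¹ = ka * (k' * x) * (y * k'⁻¹) * ka⁻¹ := by group
      have e2 : (k' * y * k'⁻¹) * ka⁻¹ = ka⁻¹ * (k' * y * k'⁻¹) := by
        calc (k' * y * k'⁻¹) * ka⁻¹ = ka⁻¹ * (ka * (k' * y * k'⁻¹)) * ka⁻¹ := by group
          _ = ka⁻¹ * ((k' * y * k'⁻¹) * ka) * ka⁻¹ := by rw [h2]
          _ = ka⁻¹ * (k' * y * k'⁻¹) := by group
      rw [e1, ← h1]
      calc ka * (x * k') * (y * k'⁻¹) * ka⁻¹ = ka * x * ((k' * y * k'⁻¹) * ka⁻¹) := by group
        _ = ka * x * (ka⁻¹ * (k' * y * k'⁻¹)) := by rw [e2]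
        _ = ka * x * ka⁻¹ * (k' * y * k'⁻¹) := by group
    rw [h3]
    exact mul_mem (mem_sup_left hkx) (mem_sup_right hky)

/-- The version over a finite index type. -/
theorem conj_into {G : Type*} [Group G] {ι : Type*} [Finite ι]
    (W Kc Y : ι → Subgroup G)
    (hWK : ∀ i j, i ≠ j → W i ≤ centralizer (Kc j : Set G))
    (hYW : ∀ i, Y i ≤ W i)
    (hcomm : ∀ i j, i ≠ j → ∀ a ∈ W i, ∀ b ∈ W j, a * b = b * a)
    (htr : ∀ i, ∀ x ∈ W i, ∃ k ∈ Kc i, k * x * k⁻¹ ∈ Y i)
    (u : G) (hu : u ∈ ⨆ i, W i) :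
    ∃ k ∈ ⨆ i, Kc i, k * u * k⁻¹ ∈ ⨆ i, Y i := by
  classical
  let _ := Fintype.ofFinite ι
  have h := conj_into_finset W Kc Y hWK hYW hcomm htr Finset.univ u (by simpa using hu)
  simpa using h

/-- A subgroup `K` generated by odd-order elements, normalizing a four-group `W` of exponent 2
with `C_W(K) = 1`, is transitive on `W ∖ 1`. -/
theorem trans_four {G : Type*} [Group G] (W K : Subgroup G)
    (hW4 : Nat.card W = 4) (hexp : ∀ w ∈ W, w * w = 1)
    (hKW : K ≤ normalizer (W : Set G))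
    (hgen : closure {g : G | g ∈ K ∧ Odd (orderOf g)} = K)
    (hfix : W ⊓ centralizer (K : Set G) = ⊥)
    (x w : G) (hx : x ∈ W) (hx1 : x ≠ 1) (hw : w ∈ W) (hw1 : w ≠ 1) :
    ∃ k ∈ K, k * x * k⁻¹ = w := by
  classical
  -- an odd-order element of `K` moving some element of `W`
  have hex : ∃ y ∈ K, Odd (orderOf y) ∧ ∃ v ∈ W, y * v * y⁻¹ ≠ v := by
    by_contra hcon
    push Not at hcon
    have hKc : K ≤ centralizer (W : Set G) := by
      rw [← hgen, closure_le]
      rintro y ⟨hyK, hyo⟩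
      rw [SetLike.mem_coe, mem_centralizer_iff]
      intro v hv
      have h := hcon y hyK hyo v hv
      calc v * y = (y * v * y⁻¹) * y := by rw [h]
        _ = y * v := by group
    have hWc : W ≤ W ⊓ centralizer (K : Set G) := le_inf le_rfl (le_centralizer_iff.mp hKc)
    rw [hfix, le_bot_iff] at hWc
    rw [hWc] at hW4
    simp at hW4
  obtain ⟨y, hyK, hyo, v, hv, hyv⟩ := hex
  have hcj : ∀ t ∈ W, y * t * y⁻¹ ∈ W := fun t ht => ((mem_normalizer_iff.mp (hKW hyK)) t).mp ht
  obtain ⟨v', hv'def⟩ : ∃ v', v' = y * v * y⁻¹ := ⟨_, rfl⟩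
  have hyv' : v' ≠ v := by rw [hv'def]; exact hyv
  have hv' : v' ∈ W := by rw [hv'def]; exact hcj v hv
  have hv1 : v ≠ 1 := by
    intro h
    apply hyv
    rw [h]; group
  have hv'1 : v' ≠ 1 := by
    intro h
    apply hv1
    have : v = y⁻¹ * v' * y := by rw [hv'def]; group
    rw [this, h]; group
  have hinvv : v⁻¹ = v := inv_eq_of_mul_eq_one_left (hexp v hv)
  have hinvv' : v'⁻¹ = v' := inv_eq_of_mul_eq_one_left (hexp v' hv')
  have hcomm : v * v' = v' * v := by
    have h := hexp (v * v') (W.mul_mem hv hv')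
    calc v * v' = (v' * v)⁻¹ := by rw [mul_inv_rev, hinvv, hinvv']
      _ = v' * v := by
        rw [inv_eq_iff_mul_eq_one]
        calc v' * v * (v' * v) = v⁻¹ * (v * v' * (v * v')) * v := by group
          _ = 1 := by rw [h]; group
  -- the four elements of `W`
  have hall : ∀ t ∈ W, t = 1 ∨ t = v ∨ t = v' ∨ t = v * v' := by
    have : Finite W := Nat.finite_of_card_ne_zero (by rw [hW4]; norm_num)
    let f : Fin 4 → W := ![⟨1, W.one_mem⟩, ⟨v, hv⟩, ⟨v', hv'⟩, ⟨v * v', W.mul_mem hv hv'⟩]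
    have hvv'1 : v * v' ≠ 1 := by
      intro h
      apply hyv
      have : v' = v⁻¹ := (inv_eq_of_mul_eq_one_right h).symm
      rw [← hv'def, this, hinvv]
    have hvv'v : v * v' ≠ v := by
      intro h
      exact hv'1 (by simpa using h)
    have hvv'v' : v * v' ≠ v' := by
      intro h
      exact hv1 (by simpa using h)
    have hinj : Function.Injective f := by
      intro i j hij
      fin_cases i <;> fin_cases j <;>
        simp [f, Subtype.ext_iff] at hij <;> first | rfl | (exfalso; first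
          | exact hv1 hij | exact hv1 hij.symm | exact hv'1 hij | exact hv'1 hij.symm
          | exact hvv'1 hij | exact hvv'1 hij.symm | exact hyv' hij | exact hyv' hij.symm
          | exact hvv'v hij | exact hvv'v hij.symm | exact hvv'v' hij | exact hvv'v' hij.symm)
    have hbij : Function.Bijective f :=
      hinj.bijective_of_nat_card_le (by rw [hW4]; simp)
    intro t ht
    obtain ⟨i, hi⟩ := hbij.2 ⟨t, ht⟩
    have hi' : (f i : G) = t := by rw [hi]
    fin_cases i <;> simp [f] at hi'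
    · exact Or.inl hi'.symm
    · exact Or.inr (Or.inl hi'.symm)
    · exact Or.inr (Or.inr (Or.inl hi'.symm))
    · exact Or.inr (Or.inr (Or.inr hi'.symm))
  -- `y` cycles `v → v' → v v' → v`
  have hc2 : y * v' * y⁻¹ = v * v' := by
    have h2 : y * v' * y⁻¹ ∈ W := hcj v' hv'
    rcases hall _ h2 with h | h | h | h
    · exfalso; apply hv'1
      have : v' = y⁻¹ * (y * v' * y⁻¹) * y := by group
      rw [this, h]; group
    · -- `y` would act as a transposition
      exfalso
      have hpow : ∀ m : ℕ, y ^ (2 * m) * v * (y ^ (2 * m))⁻¹ = v := by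
        intro m
        induction m with
        | zero => simp
        | succ m ih =>
          have e : y ^ (2 * (m + 1)) = y * y * y ^ (2 * m) := by
            rw [show 2 * (m + 1) = 2 + 2 * m by ring, pow_add, pow_two]
          rw [e]
          calc y * y * y ^ (2 * m) * v * (y * y * y ^ (2 * m))⁻¹
              = y * (y * (y ^ (2 * m) * v * (y ^ (2 * m))⁻¹) * y⁻¹) * y⁻¹ := by group
            _ = y * (y * v * y⁻¹) * y⁻¹ := by rw [ih]
            _ = y * v' * y⁻¹ := by rw [← hv'def]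
            _ = v := h
      obtain ⟨m, hm⟩ := hyo
      have h1 : y ^ (2 * m + 1) = 1 := by rw [← hm]; exact pow_orderOf_eq_one y
      have h3 : y ^ (2 * m + 1) * v * (y ^ (2 * m + 1))⁻¹ = v' := by
        rw [pow_succ']
        calc y * y ^ (2 * m) * v * (y * y ^ (2 * m))⁻¹
            = y * (y ^ (2 * m) * v * (y ^ (2 * m))⁻¹) * y⁻¹ := by group
          _ = v' := by rw [hpow m]; exact hv'def.symm
      rw [h1] at h3
      apply hyv
      rw [← hv'def, ← h3]; group
    · exfalso; apply hyv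
      have : v = y⁻¹ * v' * y := by rw [hv'def]; group
      have h4 : v' = y⁻¹ * (y * v' * y⁻¹) * y := by group
      rw [h] at h4
      rw [← hv'def, h4, ← this]
    · exact h
  have hc3 : y * (v * v') * y⁻¹ = v := by
    calc y * (v * v') * y⁻¹ = (y * v * y⁻¹) * (y * v' * y⁻¹) := by group
      _ = v' * (v * v') := by rw [← hv'def, hc2]
      _ = v' * (v' * v) := by rw [hcomm]
      _ = (v' * v') * v := by group
      _ = v := by rw [hexp v' hv']; group
  have hyy : y * y ∈ K := K.mul_mem hyK hyK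
  have e1 : ∀ t : G, y * y * t * (y * y)⁻¹ = y * (y * t * y⁻¹) * y⁻¹ := fun t => by group
  rcases hall x hx with h | h | h | h
  · exact absurd h hx1
  · rcases hall w hw with h' | h' | h' | h'
    · exact absurd h' hw1
    · exact ⟨1, K.one_mem, by rw [h, h']; group⟩
    · exact ⟨y, hyK, by rw [h, h', ← hv'def]⟩
    · exact ⟨y * y, hyy, by rw [h, h', e1, ← hv'def, hc2]⟩
  · rcases hall w hw with h' | h' | h' | h'
    · exact absurd h' hw1
    · exact ⟨y * y, hyy, by rw [h, h', e1, hc2, hc3]⟩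
    · exact ⟨1, K.one_mem, by rw [h, h']; group⟩
    · exact ⟨y, hyK, by rw [h, h', hc2]⟩
  · rcases hall w hw with h' | h' | h' | h'
    · exact absurd h' hw1
    · exact ⟨y, hyK, by rw [h, h', hc3]⟩
    · exact ⟨y * y, hyy, by rw [h, h', e1, hc3, ← hv'def]⟩
    · exact ⟨1, K.one_mem, by rw [h, h']; group⟩

end Cfsg.Agent.H70.Kh
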