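import Mathlib

/-!
# S2953 (team project JY, the kill, case `V ⊄ Q₁`): abstract glue

`kb_abs`: from the interface facts (a four-group `V ⊴ S` with `z ∈ V ∩ Z(S)`, `C_G(z) ≤ L`,
`K ∩ L ≤ O`, `|K : O| = 3`, `D ≤ T` of index 2 normalized by `K` and `T`, `T ∖ D` inverting
`K / O`, `V ≤ T`, `V ⊄ D`) and the abstract core (helper1's `r1_out`, passed as `hcore`), every
`s ∈ N_S(T)` normalizes `D`.  Mathlib only.
-/

set_option autoImplicit false

namespace Cfsg.Agent.H70.Jx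

universe u

variable {G : Type u} [Group G]

/-- The elements of a four-group containing `z ≠ 1` and `v ∉ {1, z}`. -/
theorem four_elts [Finite G] (V : Subgroup G) (hV4 : Nat.card ↥V = 4) (z v : G) (hzV : z ∈ V)
    (hvV : v ∈ V) (hz1 : z ≠ 1) (hv1 : v ≠ 1) (hvz : v ≠ z) (hz2 : z * z = 1) :
    ∀ x ∈ V, x = 1 ∨ x = z ∨ x = v ∨ x = z * v := by
  intro x hx
  by_contra hcon
  simp only [not_or] at hcon
  obtain ⟨h1, h2, h3, h4⟩ := hcon
  have hzv1 : z * v ≠ 1 := by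
    intro h
    apply hvz
    have e1 : v = z⁻¹ := eq_inv_of_mul_eq_one_right h
    have e2 : z = z⁻¹ := eq_inv_of_mul_eq_one_left hz2
    rw [e1, ← e2]
  have hzvz : z * v ≠ z := by
    intro h
    apply hv1
    exact mul_left_cancel (a := z) (by rw [mul_one]; exact h)
  have hzvv : z * v ≠ v := by
    intro h
    apply hz1
    exact mul_right_cancel (b := v) (by rw [one_mul]; exact h)
  have hsub : ({1, z, v, z * v, x} : Set G) ⊆ (V : Set G) := by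
    intro y hy
    simp only [Set.mem_insert_iff, Set.mem_singleton_iff] at hy
    rcases hy with rfl | rfl | rfl | rfl | rfl
    · exact V.one_mem
    · exact hzV
    · exact hvV
    · exact V.mul_mem hzV hvV
    · exact hx
  have hfin : (V : Set G).Finite := Set.toFinite _
  have hle := Set.ncard_le_ncard hsub hfin
  have hVn : (V : Set G).ncard = 4 := (Nat.card_coe_set_eq (V : Set G)).symm.trans hV4
  have e1 : ({z * v, x} : Set G).ncard = 2 := Set.ncard_pair (Ne.symm h4)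
  have e2 : ({v, z * v, x} : Set G).ncard = 3 := by
    rw [Set.ncard_insert_of_notMem, e1]
    simp only [Set.mem_insert_iff, Set.mem_singleton_iff, not_or]
    exact ⟨fun h => hzvv h.symm, fun h => h3 h.symm⟩
  have e3 : ({z, v, z * v, x} : Set G).ncard = 4 := by
    rw [Set.ncard_insert_of_notMem, e2]
    simp only [Set.mem_insert_iff, Set.mem_singleton_iff, not_or]
    exact ⟨fun h => hvz h.symm, fun h => hzvz h.symm, fun h => h2 h.symm⟩
  have e4 : ({1, z, v, z * v, x} : Set G).ncard = 5 := by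
    rw [Set.ncard_insert_of_notMem, e3]
    simp only [Set.mem_insert_iff, Set.mem_singleton_iff, not_or]
    exact ⟨fun h => hz1 h.symm, fun h => hv1 h.symm, fun h => hzv1 h.symm, fun h => h1 h.symm⟩
  omega

/-- A normal 2-subgroup `O` of index 3 in `K`: an element `k` of order 3 with `K = ⋃ O k^i`. -/
theorem idx3 [Finite G] (K O : Subgroup G) (hO2 : IsPGroup 2 ↥O)
    (hidx : O.relIndex K = 3) (hOn : ∀ g ∈ K, ∀ o ∈ O, g * o * g⁻¹ ∈ O) :
    ∃ k ∈ K, k ^ 3 = 1 ∧ k ∉ O ∧ ∀ g ∈ K, ∃ o ∈ O, ∃ i : ℕ, g = o * k ^ i := by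
  have hp3 : Fact (Nat.Prime 3) := ⟨by norm_num⟩
  have hcardQ : Nat.card (↥K ⧸ O.subgroupOf K) = 3 := hidx
  have h3 : 3 ∣ Nat.card ↥K := by
    have h := Subgroup.card_mul_index (O.subgroupOf K)
    have e : (O.subgroupOf K).index = 3 := hidx
    rw [e] at h
    exact Dvd.intro_left _ h
  obtain ⟨x, hx⟩ := exists_prime_orderOf_dvd_card' 3 h3
  have hx3 : x ^ 3 = 1 := by rw [← hx]; exact pow_orderOf_eq_one x
  have hk3 : (x : G) ^ 3 = 1 := by
    have h := congrArg Subtype.val hx3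
    simpa using h
  have hkO : (x : G) ∉ O := by
    intro hmem
    obtain ⟨n, hn⟩ := hO2 ⟨(x : G), hmem⟩
    have hn' : (x : G) ^ 2 ^ n = 1 := by simpa using congrArg Subtype.val hn
    have hxn : x ^ 2 ^ n = 1 := Subtype.ext (by simpa using hn')
    have hdvd : orderOf x ∣ 2 ^ n := orderOf_dvd_of_pow_eq_one hxn
    rw [hx] at hdvd
    have h32 : 3 ∣ 2 := Nat.Prime.dvd_of_dvd_pow Nat.prime_three hdvd
    exact absurd h32 (by norm_num)
  have hxO' : x ∉ O.subgroupOf K := fun h => hkO (Subgroup.mem_subgroupOf.mp h)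
  have hx2O' : x ^ 2 ∉ O.subgroupOf K := by
    intro h
    apply hxO'
    have e : x = (x ^ 2) ^ 2 := by
      calc x = 1 * x := (one_mul x).symm
        _ = x ^ 3 * x := by rw [hx3]
        _ = (x ^ 2) ^ 2 := by rw [← pow_mul, ← pow_succ]
    rw [e]; exact (O.subgroupOf K).pow_mem h 2
  have hA : ∀ n : ℕ, x ^ n ∈ O.subgroupOf K → n % 3 = 0 := by
    intro n hn
    rw [← pow_mod_orderOf, hx] at hn
    have hlt : n % 3 < 3 := Nat.mod_lt _ (by norm_num)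
    generalize n % 3 = r at hn hlt
    interval_cases r
    · rfl
    · exact absurd (by simpa using hn) hxO'
    · exact absurd hn hx2O'
  have hinj : Function.Injective
      (fun i : Fin 3 => ((x ^ (i : ℕ) : ↥K) : ↥K ⧸ O.subgroupOf K)) := by
    intro i j hij
    have h : (x ^ (i : ℕ))⁻¹ * x ^ (j : ℕ) ∈ O.subgroupOf K := QuotientGroup.eq.mp hij
    have einv : (x ^ (i : ℕ))⁻¹ = x ^ (2 * (i : ℕ)) := by
      apply inv_eq_of_mul_eq_one_right
      rw [← pow_add]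
      have e3 : (i : ℕ) + 2 * (i : ℕ) = 3 * (i : ℕ) := by ring
      rw [e3, pow_mul, hx3, one_pow]
    rw [einv, ← pow_add] at h
    have hm := hA _ h
    have hi := i.2
    have hj := j.2
    apply Fin.ext
    omega
  have hbij : Function.Bijective
      (fun i : Fin 3 => ((x ^ (i : ℕ) : ↥K) : ↥K ⧸ O.subgroupOf K)) := by
    apply hinj.bijective_of_nat_card_le
    rw [hcardQ, Nat.card_eq_fintype_card, Fintype.card_fin]
  refine ⟨(x : G), x.2, hk3, hkO, ?_⟩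
  intro g hg
  obtain ⟨i, hi⟩ := hbij.2 ((⟨g, hg⟩ : ↥K) : ↥K ⧸ O.subgroupOf K)
  have h : (x ^ (i : ℕ))⁻¹ * (⟨g, hg⟩ : ↥K) ∈ O.subgroupOf K := QuotientGroup.eq.mp hi
  have h' : ((x : G) ^ (i : ℕ))⁻¹ * g ∈ O := by
    have h0 := Subgroup.mem_subgroupOf.mp h
    simpa using h0
  have hki : (x : G) ^ (i : ℕ) ∈ K := K.pow_mem x.2 _
  have h'' := hOn _ hki _ h'
  refine ⟨g * ((x : G) ^ (i : ℕ))⁻¹, ?_, (i : ℕ), by group⟩
  have e : g * ((x : G) ^ (i : ℕ))⁻¹ =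
      (x : G) ^ (i : ℕ) * (((x : G) ^ (i : ℕ))⁻¹ * g) * ((x : G) ^ (i : ℕ))⁻¹ := by group
  rw [e]; exact h''

/-- KB-NORM, abstract form. -/
theorem kb_abs [Finite G] (V S L T K O D : Subgroup G) (z : G)
    (hV4 : Nat.card ↥V = 4) (hV2 : ∀ v ∈ V, v * v = 1)
    (hSV : S ≤ Subgroup.normalizer (V : Set G))
    (hzV : z ∈ V) (hz1 : z ≠ 1) (hzS : ∀ s ∈ S, s * z = z * s)
    (hCz : Subgroup.centralizer ({z} : Set G) ≤ L)
    (hTS : T ≤ S) (hT2 : IsPGroup 2 ↥T) (hVT : V ≤ T)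
    (hKL : ∀ g ∈ K, g ∈ L → g ∈ O)
    (hO2 : IsPGroup 2 ↥O) (hidx : O.relIndex K = 3)
    (hOn : ∀ g ∈ K, ∀ o ∈ O, g * o * g⁻¹ ∈ O)
    (hKgen : Subgroup.closure {g : G | g ∈ K ∧ Odd (orderOf g)} = K)
    (hTK : T ≤ Subgroup.normalizer (K : Set G))
    (hinv : ∀ x ∈ T, x ∉ D → ∀ g ∈ K, x * g * x⁻¹ * g ∈ O)
    (hDT : D ≤ T) (hDK : K ≤ Subgroup.normalizer (D : Set G))
    (hDTn : T ≤ Subgroup.normalizer (D : Set G))
    (hD2 : ∀ a ∈ T, ∀ b ∈ T, a ∉ D → b ∉ D → a * b ∈ D)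
    (hOD : O ≤ D) (hzD : z ∈ D) (hVD : ¬ V ≤ D)
    (hcore : ∀ (z v k s : G), D ≤ T → IsPGroup 2 ↥T → v ∈ T → v ∉ D →
      (∀ t ∈ T, t ∈ D ∨ t * v ∈ D) → v * v = 1 → z * z = 1 → z ∈ D →
      (∀ t ∈ T, t * z = z * t) → (∀ q ∈ D, v * q * v⁻¹ = q ∨ v * q * v⁻¹ = q * z) →
      k ∈ K → k ^ 3 = 1 → k * z * k⁻¹ ≠ z → (∀ q ∈ D, k * q * k⁻¹ ∈ D) → O ≤ D →
      (∀ g ∈ K, ∃ o ∈ O, ∃ i : ℕ, g = o * k ^ i) →
      Subgroup.closure {g : G | g ∈ K ∧ Odd (orderOf g)} = K →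
      v * k * v⁻¹ ∈ K → v * k * v⁻¹ * k ∈ D → (∀ t ∈ T, s * t * s⁻¹ ∈ T) →
      (s * v * s⁻¹ = v ∨ s * v * s⁻¹ = v * z) → ∀ q ∈ D, s * q * s⁻¹ ∈ D) :
    ∀ s ∈ S, s ∈ Subgroup.normalizer (T : Set G) → s ∈ Subgroup.normalizer (D : Set G) := by
  obtain ⟨v, hvV, hvD⟩ := SetLike.not_le_iff_exists.mp hVD
  have hvT : v ∈ T := hVT hvV
  have hz2 : z * z = 1 := hV2 z hzV
  have hv2 : v * v = 1 := hV2 v hvV
  have hv1 : v ≠ 1 := fun h => hvD (h ▸ D.one_mem)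
  have hvz : v ≠ z := fun h => hvD (h ▸ hzD)
  have h4 := four_elts V hV4 z v hzV hvV hz1 hv1 hvz hz2
  have hzv : z * v = v * z := hzS v (hTS hvT) |>.symm
  obtain ⟨k, hkK, hk3, hkO, hKO⟩ := idx3 K O hO2 hidx hOn
  have hzT : ∀ t ∈ T, t * z = z * t := fun t ht => hzS t (hTS ht)
  have hTQv : ∀ t ∈ T, t ∈ D ∨ t * v ∈ D := by
    intro t ht
    by_cases htD : t ∈ D
    · exact Or.inl htD
    · exact Or.inr (hD2 t ht v hvT htD hvD)
  have hzvD : z * v ∉ D := by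
    intro h
    apply hvD
    have e : v = z⁻¹ * (z * v) := by group
    rw [e]; exact D.mul_mem (D.inv_mem hzD) h
  have hQv : ∀ q ∈ D, v * q * v⁻¹ = q ∨ v * q * v⁻¹ = q * z := by
    intro q hq
    have hqD : v * q * v⁻¹ ∈ D := (Subgroup.mem_normalizer_iff.mp (hDTn hvT) q).mp hq
    have hwD : q⁻¹ * (v * q * v⁻¹) ∈ D := D.mul_mem (D.inv_mem hq) hqD
    have hqS : q⁻¹ ∈ S := S.inv_mem (hTS (hDT hq))
    have hqv : q⁻¹ * v * q⁻¹⁻¹ ∈ V := (Subgroup.mem_normalizer_iff.mp (hSV hqS) v).mp hvV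
    have hwV : q⁻¹ * (v * q * v⁻¹) ∈ V := by
      have e : q⁻¹ * (v * q * v⁻¹) = (q⁻¹ * v * q⁻¹⁻¹) * v⁻¹ := by group
      rw [e]; exact V.mul_mem hqv (V.inv_mem hvV)
    rcases h4 _ hwV with h | h | h | h
    · left
      have e : v * q * v⁻¹ = q * (q⁻¹ * (v * q * v⁻¹)) := by group
      rw [e, h, mul_one]
    · right
      have e : v * q * v⁻¹ = q * (q⁻¹ * (v * q * v⁻¹)) := by group
      rw [e, h]
    · exact absurd (h ▸ hwD) hvD
    · exact absurd (h ▸ hwD) hzvD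
  have hkz : k * z * k⁻¹ ≠ z := by
    intro h
    apply hkO
    apply hKL k hkK
    apply hCz
    rw [Subgroup.mem_centralizer_iff]
    intro y hy
    rw [Set.mem_singleton_iff] at hy
    subst hy
    have e : k * y = (k * y * k⁻¹) * k := by group
    rw [e, h]
  have hkQ : ∀ q ∈ D, k * q * k⁻¹ ∈ D := fun q hq =>
    (Subgroup.mem_normalizer_iff.mp (hDK hkK) q).mp hq
  have hvk : v * k * v⁻¹ ∈ K := (Subgroup.mem_normalizer_iff.mp (hTK hvT) k).mp hkK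
  have hvk' : v * k * v⁻¹ * k ∈ D := hOD (hinv v hvT hvD k hkK)
  have key : ∀ s ∈ S, s ∈ Subgroup.normalizer (T : Set G) → ∀ q ∈ D, s * q * s⁻¹ ∈ D := by
    intro s hsS hsT
    have hsT' : ∀ t ∈ T, s * t * s⁻¹ ∈ T := fun t ht =>
      (Subgroup.mem_normalizer_iff.mp hsT t).mp ht
    have hsvV : s * v * s⁻¹ ∈ V := (Subgroup.mem_normalizer_iff.mp (hSV hsS) v).mp hvV
    have hsv : s * v * s⁻¹ = v ∨ s * v * s⁻¹ = v * z := by
      rcases h4 _ hsvV with h | h | h | h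
      · exfalso
        apply hv1
        have e : v = s⁻¹ * (s * v * s⁻¹) * s := by group
        rw [e, h]; group
      · exfalso
        apply hvz
        have e : v = s⁻¹ * (s * v * s⁻¹) * s := by group
        rw [e, h]
        have hz' : s * z = z * s := hzS s hsS
        calc s⁻¹ * z * s = s⁻¹ * (z * s) := by group
          _ = s⁻¹ * (s * z) := by rw [hz']
          _ = z := by group
      · exact Or.inl h
      · exact Or.inr (h.trans hzv)
    exact hcore z v k s hDT hT2 hvT hvD hTQv hv2 hz2 hzD hzT hQv hkK hk3 hkz hkQ hOD hKO hKgen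
      hvk hvk' hsT' hsv
  intro s hsS hsT
  rw [Subgroup.mem_normalizer_iff]
  intro h
  refine ⟨key s hsS hsT h, fun hh => ?_⟩
  have h3 := key s⁻¹ (S.inv_mem hsS) (Subgroup.inv_mem _ hsT) _ hh
  have e : s⁻¹ * (s * h * s⁻¹) * s⁻¹⁻¹ = h := by group
  rwa [e] at h3

end Cfsg.Agent.H70.Jx
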