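import Mathlib
import Cfsg.Agent.H64.M11NoE8

/-!
# helper70: piece DQC of S0420 -- the normal subgroup `Q` of order 8 of `C(t)` acts
semiregularly on `P ∖ {1}`
-/

set_option autoImplicit false

namespace Cfsg.Agent.H70.M11

open Subgroup

/-- A group of order 18 contains no four-group. -/
theorem no_four_in_eighteen {G : Type*} [Group G] [Finite G] (H : Subgroup G)
    (hH : Nat.card H = 18) (r t : G) (hr : r ∈ H) (ht : t ∈ H) (hr2 : r * r = 1)
    (ht2 : t * t = 1) (hrt : r * t = t * r) (hr1 : r ≠ 1) (ht1 : t ≠ 1) (hne : r ≠ t) :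
    False := by
  have hPr : IsPGroup 2 (zpowers r) := by
    rintro ⟨g, hg⟩
    obtain ⟨i, rfl⟩ := mem_zpowers_iff.mp hg
    refine ⟨1, Subtype.ext ?_⟩
    show (r ^ i) ^ (2 ^ 1) = 1
    rw [← zpow_natCast, ← zpow_mul, mul_comm, zpow_mul, zpow_natCast, pow_one, pow_two,
      hr2, one_zpow]
  have hPt : IsPGroup 2 (zpowers t) := by
    rintro ⟨g, hg⟩
    obtain ⟨i, rfl⟩ := mem_zpowers_iff.mp hg
    refine ⟨1, Subtype.ext ?_⟩
    show (t ^ i) ^ (2 ^ 1) = 1
    rw [← zpow_natCast, ← zpow_mul, mul_comm, zpow_mul, zpow_natCast, pow_one, pow_two,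
      ht2, one_zpow]
  have hnorm : zpowers r ≤ normalizer (zpowers t : Set G) := by
    rw [zpowers_le]
    apply centralizer_le_normalizer
    rw [mem_centralizer_iff]
    intro h hh
    obtain ⟨i, rfl⟩ := mem_zpowers_iff.mp hh
    exact ((show Commute r t from hrt).zpow_right i).eq.symm
  have hD := IsPGroup.to_sup_of_normal_right' hPr hPt hnorm
  have hDH : zpowers r ⊔ zpowers t ≤ H := sup_le (zpowers_le.mpr hr) (zpowers_le.mpr ht)
  have hrD : r ∈ zpowers r ⊔ zpowers t := mem_sup_left (mem_zpowers r)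
  have htD : t ∈ zpowers r ⊔ zpowers t := mem_sup_right (mem_zpowers t)
  have hdvd : Nat.card ↥(zpowers r ⊔ zpowers t) ∣ 18 := hH ▸ Subgroup.card_dvd_of_le hDH
  obtain ⟨n, hn⟩ := hD.exists_card_eq
  rw [hn] at hdvd
  have hn1 : n ≤ 1 := by
    by_contra hcon
    push Not at hcon
    have h4 : 2 ^ 2 ∣ 2 ^ n := pow_dvd_pow 2 hcon
    have := h4.trans hdvd
    omega
  interval_cases n
  · rw [pow_zero, Subgroup.card_eq_one] at hn
    rw [hn, mem_bot] at htD
    exact ht1 htD
  · rw [pow_one] at hn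
    have hu := (Nat.card_eq_two_iff' (1 : ↥(zpowers r ⊔ zpowers t))).mp hn
    have h1 : (⟨r, hrD⟩ : ↥(zpowers r ⊔ zpowers t)) ≠ 1 := fun h => hr1 (congrArg Subtype.val h)
    have h2 : (⟨t, htD⟩ : ↥(zpowers r ⊔ zpowers t)) ≠ 1 := fun h => ht1 (congrArg Subtype.val h)
    exact hne (congrArg Subtype.val (hu.unique h1 h2))

theorem semiregular_of_normal_eight {G : Type*} [Group G] [Finite G]
    (h18 : ∀ x : G, orderOf x = 3 → Nat.card (centralizer ({x} : Set G)) = 18)
    (P : Sylow 3 G) (hP9 : Nat.card (P : Subgroup G) = 9)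
    (hexp : ∀ p ∈ (P : Subgroup G), p ^ 3 = 1)
    (hC : Nat.card (centralizer ((P : Subgroup G) : Set G)) = 9)
    (t : G) (ht : orderOf t = 2) (htP : ∀ p ∈ (P : Subgroup G), t * p * t⁻¹ = p⁻¹)
    (h48 : Nat.card (centralizer ({t} : Set G)) = 48)
    (Q : Subgroup G) (hQ8 : Nat.card Q = 8) (htQ : t ∈ Q)
    (hQN : Q ≤ normalizer ((P : Subgroup G) : Set G)) (hQt : Q ≤ centralizer ({t} : Set G))
    (hQnorm : ∀ y ∈ centralizer ({t} : Set G), ∀ q ∈ Q, y * q * y⁻¹ ∈ Q) :
    ∀ q ∈ Q, q ≠ 1 → ∀ p ∈ (P : Subgroup G), p ≠ 1 → q * p * q⁻¹ ≠ p := by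
  classical
  intro q hqQ hq1 p hpP hp1 hfix
  have hprime3 : Fact (Nat.Prime 3) := ⟨by norm_num⟩
  have hprime2 : Fact (Nat.Prime 2) := ⟨by norm_num⟩
  let _ : Fintype G := Fintype.ofFinite G
  have htt : t * t = 1 := by rw [← pow_two, ← ht, pow_orderOf_eq_one]
  have ht1 : t ≠ 1 := by
    intro h
    rw [h, orderOf_one] at ht
    omega
  have hp3 : orderOf p = 3 := orderOf_eq_prime (hexp p hpP) hp1
  have hqCp : q ∈ centralizer ({p} : Set G) := by
    rw [mem_centralizer_iff]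
    intro h hh
    rw [Set.mem_singleton_iff] at hh
    subst hh
    calc h * q = q * h * q⁻¹ * q := by rw [hfix]
      _ = q * h := by group
  have hq18 : orderOf q ∣ 18 := by
    have := orderOf_dvd_natCard (⟨q, hqCp⟩ : centralizer ({p} : Set G))
    rw [h18 p hp3] at this
    rwa [Subgroup.orderOf_mk] at this
  have hq8 : orderOf q ∣ 8 := by
    have := orderOf_dvd_natCard (⟨q, hqQ⟩ : Q)
    rw [hQ8] at this
    rwa [Subgroup.orderOf_mk] at this
  have hq2 : q * q = 1 := by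
    have h2 : orderOf q ∣ 2 := by
      have := Nat.dvd_gcd hq8 hq18
      norm_num at this
      exact this
    rw [← pow_two]
    exact orderOf_dvd_iff_pow_eq_one.mp h2
  have hqt : q ≠ t := by
    intro h
    rw [h, htP p hpP] at hfix
    apply hp1
    have h2 : p * p = 1 := by
      calc p * p = p⁻¹ * p := by rw [hfix]
        _ = 1 := inv_mul_cancel p
    have h3 := hexp p hpP
    rw [pow_succ, pow_two, h2, one_mul] at h3
    exact h3
  -- an element of order 3 in C(t)
  obtain ⟨y', hy'⟩ := exists_prime_orderOf_dvd_card' (G := centralizer ({t} : Set G)) 3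
    (by rw [h48]; norm_num)
  have hyC : (y' : G) ∈ centralizer ({t} : Set G) := y'.2
  have hy3 : orderOf (y' : G) = 3 := by rw [Subgroup.orderOf_coe]; exact hy'
  generalize (y' : G) = y at hyC hy3
  have hy3' : y ^ 3 = 1 := by rw [← hy3, pow_orderOf_eq_one]
  have hyt : t * y = y * t := mem_centralizer_iff.mp hyC t rfl
  have hCy : Nat.card (centralizer ({y} : Set G)) = 18 := h18 y hy3
  have htCy : t ∈ centralizer ({y} : Set G) := by
    rw [mem_centralizer_iff]
    intro h hh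
    rw [Set.mem_singleton_iff] at hh
    subst hh
    exact hyt.symm
  -- the set J
  let Jf : Finset G := Finset.univ.filter (fun r => r ∈ Q ∧ r * r = 1 ∧ r ≠ 1 ∧ r ≠ t)
  have hJ : ∀ r : G, r ∈ Jf ↔ (r ∈ Q ∧ r * r = 1 ∧ r ≠ 1 ∧ r ≠ t) := by
    intro r
    simp [Jf]
  have hrt : ∀ r ∈ Q, t * r = r * t := fun r hr => mem_centralizer_iff.mp (hQt hr) t rfl
  -- conjugation by y
  let f : Function.End ↥Jf := fun r => ⟨y * r.1 * y⁻¹, (hJ _).mpr (by
    obtain ⟨h1, h2, h3, h4⟩ := (hJ _).mp r.2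
    refine ⟨hQnorm y hyC r.1 h1, ?_, ?_, ?_⟩
    · calc y * r.1 * y⁻¹ * (y * r.1 * y⁻¹) = y * (r.1 * r.1) * y⁻¹ := by group
        _ = 1 := by rw [h2]; group
    · intro h
      apply h3
      calc r.1 = y⁻¹ * (y * r.1 * y⁻¹) * y := by group
        _ = 1 := by rw [h]; group
    · intro h
      apply h4
      calc r.1 = y⁻¹ * (y * r.1 * y⁻¹) * y := by group
        _ = y⁻¹ * (t * y) := by rw [h, mul_assoc]
        _ = t := by rw [hyt, inv_mul_cancel_left])⟩
  have hf3 : f ^ 3 ^ 1 = 1 := by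
    rw [pow_one, pow_succ, pow_succ, pow_one]
    funext r
    apply Subtype.ext
    show y * (y * (y * r.1 * y⁻¹) * y⁻¹) * y⁻¹ = r.1
    have hyyy : y * y * y = 1 := by rw [← hy3', pow_succ, pow_two]
    calc y * (y * (y * r.1 * y⁻¹) * y⁻¹) * y⁻¹ = (y * y * y) * r.1 * (y * y * y)⁻¹ := by
          simp only [mul_assoc, mul_inv_rev]
      _ = r.1 := by rw [hyyy, one_mul, inv_one, mul_one]
  have hffix : Fintype.card (Function.fixedPoints f) = 0 := by
    rw [Fintype.card_eq_zero_iff]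
    refine ⟨fun ⟨r, hr⟩ => ?_⟩
    obtain ⟨h1, h2, h3, h4⟩ := (hJ _).mp r.2
    have hfr : y * r.1 * y⁻¹ = r.1 := congrArg Subtype.val hr
    have hrCy : r.1 ∈ centralizer ({y} : Set G) := by
      rw [mem_centralizer_iff]
      intro h hh
      rw [Set.mem_singleton_iff] at hh
      subst hh
      calc h * r.1 = h * r.1 * h⁻¹ * h := by group
        _ = r.1 * h := by rw [hfr]
    exact no_four_in_eighteen _ hCy r.1 t hrCy htCy h2 htt (hrt r.1 h1).symm h3 ht1 h4
  have h3dvd : 3 ∣ Jf.card := by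
    have := Equiv.Perm.card_fixedPoints_modEq (p := 3) (n := 1) hf3
    rw [hffix, Fintype.card_coe] at this
    exact (Nat.modEq_zero_iff_dvd).mp this
  -- multiplication by t
  let g : Function.End ↥Jf := fun r => ⟨r.1 * t, (hJ _).mpr (by
    obtain ⟨h1, h2, h3, h4⟩ := (hJ _).mp r.2
    have hc := hrt r.1 h1
    refine ⟨Q.mul_mem h1 htQ, ?_, ?_, ?_⟩
    · calc r.1 * t * (r.1 * t) = r.1 * (t * r.1) * t := by group
        _ = r.1 * (r.1 * t) * t := by rw [hc]
        _ = (r.1 * r.1) * (t * t) := by group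
        _ = 1 := by rw [h2, htt, one_mul]
    · intro h
      apply h4
      calc r.1 = r.1 * t * t := by rw [mul_assoc, htt, mul_one]
        _ = t := by rw [h, one_mul]
    · intro h
      apply h3
      calc r.1 = r.1 * t * t := by rw [mul_assoc, htt, mul_one]
        _ = 1 := by rw [h, htt])⟩
  have hg2 : g ^ 2 ^ 1 = 1 := by
    rw [pow_one, pow_succ, pow_one]
    funext r
    apply Subtype.ext
    show r.1 * t * t = r.1
    rw [mul_assoc, htt, mul_one]
  have hgfix : Fintype.card (Function.fixedPoints g) = 0 := by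
    rw [Fintype.card_eq_zero_iff]
    refine ⟨fun ⟨r, hr⟩ => ?_⟩
    have hgr : r.1 * t = r.1 := congrArg Subtype.val hr
    exact ht1 (mul_eq_left.mp hgr)
  have h2dvd : 2 ∣ Jf.card := by
    have := Equiv.Perm.card_fixedPoints_modEq (p := 2) (n := 1) hg2
    rw [hgfix, Fintype.card_coe] at this
    exact (Nat.modEq_zero_iff_dvd).mp this
  -- counting
  let Qf : Finset G := Finset.univ.filter (fun r => r ∈ Q)
  have hQf : Qf.card = 8 := by
    rw [← hQ8, Nat.card_eq_fintype_card, Fintype.card_subtype]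
  have h1Q : (1 : G) ∈ Qf := by simp [Qf, Q.one_mem]
  have htQf : t ∈ Qf.erase 1 := by simp [Qf, htQ, ht1]
  have hcard6 : ((Qf.erase 1).erase t).card = 6 := by
    rw [Finset.card_erase_of_mem htQf, Finset.card_erase_of_mem h1Q, hQf]
  have hsub : Jf ⊆ (Qf.erase 1).erase t := by
    intro r hr
    obtain ⟨h1, h2, h3, h4⟩ := (hJ _).mp hr
    simp [Qf, h1, h3, h4]
  have hle : Jf.card ≤ 6 := hcard6 ▸ Finset.card_le_card hsub
  have hpos : 0 < Jf.card := Finset.card_pos.mpr ⟨q, (hJ q).mpr ⟨hqQ, hq2, hq1, hqt⟩⟩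
  have hJ6 : Jf.card = 6 := by omega
  have hJeq : Jf = (Qf.erase 1).erase t :=
    Finset.eq_of_subset_of_card_le hsub (by rw [hcard6, hJ6])
  have hexp2 : ∀ e ∈ Q, e * e = 1 := by
    intro e he
    by_cases he1 : e = 1
    · rw [he1, one_mul]
    by_cases het : e = t
    · rw [het, htt]
    have : e ∈ Jf := by
      rw [hJeq]
      simp [Qf, he, he1, het]
    exact ((hJ e).mp this).2.1
  exact Cfsg.Agent.H64.M11.no_e8_in_normalizer h18 (P : Subgroup G) hP9 hC Q hQ8 hexp2 hQN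

end Cfsg.Agent.H70.M11
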