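import Mathlib
import Cfsg.Agent.H93.M11Main

/-!
# S0435 / S0434: Sylow 3-subgroups of a simple group of order 7920, common lemmas (helper70)
-/

set_option autoImplicit false
namespace Cfsg.Agent.H70.M11

open Subgroup

theorem factorization_7920_3 : (7920 : ℕ).factorization 3 = 2 := by
  have h : (7920 : ℕ) = 3 ^ 2 * 880 := by norm_num
  rw [h, Nat.factorization_mul (by norm_num) (by norm_num),
    Nat.Prime.factorization_pow (by norm_num)]
  have h2 : (880 : ℕ).factorization 3 = 0 :=
    Nat.factorization_eq_zero_of_not_dvd (by norm_num)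
  simp [h2]

theorem sylow3_card {G : Type*} [Group G] [Finite G] (hord : Nat.card G = 7920)
    (P : Sylow 3 G) : Nat.card (P : Subgroup G) = 9 := by
  have : Fact (Nat.Prime 3) := ⟨by norm_num⟩
  have h := P.card_eq_multiplicity
  rw [hord, factorization_7920_3] at h
  simpa using h

/-- a group of order 9 is abelian -/
theorem le_centralizer_of_card_nine {G : Type*} [Group G] (P : Subgroup G)
    (hP : Nat.card P = 9) : P ≤ centralizer (P : Set G) := by
  have : Fact (Nat.Prime 3) := ⟨by norm_num⟩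
  have hcomm := IsPGroup.isMulCommutative_of_card_eq_prime_sq (p := 3) (G := P)
    (by rw [hP]; norm_num)
  intro x hx
  rw [Subgroup.mem_centralizer_iff]
  intro h hh
  exact congrArg Subtype.val (hcomm.is_comm.comm ⟨h, hh⟩ ⟨x, hx⟩)

/-- an element commuting with an element of order 5 has order dividing 5 -/
theorem orderOf_dvd_of_commute_5 {G : Type*} [Group G] [Finite G] [IsSimpleGroup G]
    (hG : Nat.card G = 7920) (x y : G) (hy : orderOf y = 5) (hxy : Commute x y) :
    orderOf x ∣ 5 := by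
  have : Fact (Nat.Prime 5) := ⟨by norm_num⟩
  have hZcard : Nat.card (zpowers y) = 5 := by rw [Nat.card_zpowers, hy]
  have hZp : IsPGroup 5 (zpowers y) := IsPGroup.of_card (n := 1) (by rw [hZcard]; norm_num)
  obtain ⟨Q, hQ⟩ := hZp.exists_le_sylow
  have hQcard : Nat.card (Q : Subgroup G) = 5 := Cfsg.Agent.H93.M11.sylow5_card hG Q
  have hZQ : zpowers y = (Q : Subgroup G) :=
    Subgroup.eq_of_le_of_card_ge hQ (by rw [hQcard, hZcard])
  have hC := (Cfsg.Agent.H93.M11.sylow5_data hG Q).2
  have hx : x ∈ centralizer ((Q : Subgroup G) : Set G) := by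
    rw [← hZQ, Subgroup.mem_centralizer_iff]
    intro h hh
    obtain ⟨k, rfl⟩ := Subgroup.mem_zpowers_iff.mp hh
    exact (hxy.zpow_right k).eq.symm
  have hdvd := orderOf_dvd_natCard (⟨x, hx⟩ : centralizer ((Q : Subgroup G) : Set G))
  rw [hC] at hdvd
  rwa [Subgroup.orderOf_mk] at hdvd

/-- an element commuting with an element of order 11 has order dividing 11 -/
theorem orderOf_dvd_of_commute_11 {G : Type*} [Group G] [Finite G] [IsSimpleGroup G]
    (hG : Nat.card G = 7920) (x y : G) (hy : orderOf y = 11) (hxy : Commute x y) :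
    orderOf x ∣ 11 := by
  have : Fact (Nat.Prime 11) := ⟨by norm_num⟩
  have hZcard : Nat.card (zpowers y) = 11 := by rw [Nat.card_zpowers, hy]
  have hZp : IsPGroup 11 (zpowers y) := IsPGroup.of_card (n := 1) (by rw [hZcard]; norm_num)
  obtain ⟨Q, hQ⟩ := hZp.exists_le_sylow
  have hQcard : Nat.card (Q : Subgroup G) = 11 := Cfsg.Agent.H93.M11.sylow11_card' hG Q
  have hZQ : zpowers y = (Q : Subgroup G) :=
    Subgroup.eq_of_le_of_card_ge hQ (by rw [hQcard, hZcard])
  have hC := (Cfsg.Agent.H5.Ord7920.sylow11_simple hG Q).2.2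
  have hx : x ∈ centralizer ((Q : Subgroup G) : Set G) := by
    rw [← hZQ, Subgroup.mem_centralizer_iff]
    intro h hh
    obtain ⟨k, rfl⟩ := Subgroup.mem_zpowers_iff.mp hh
    exact (hxy.zpow_right k).eq.symm
  have hdvd := orderOf_dvd_natCard (⟨x, hx⟩ : centralizer ((Q : Subgroup G) : Set G))
  rw [hC] at hdvd
  rwa [Subgroup.orderOf_mk] at hdvd

/-- an element of prime order `q` normalizing a group `P` of order 9 centralizes it, when
`9 ≢ 1, 3 (mod q)` -/
theorem commute_of_normalizer {G : Type*} [Group G] [Finite G] (P : Subgroup G)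
    (hP : Nat.card P = 9) (y : G) (hy : y ∈ normalizer (P : Set G)) (q : ℕ) [Fact q.Prime]
    (hq : orderOf y = q) (h1 : ¬ 9 ≡ 1 [MOD q]) (h3 : ¬ 9 ≡ 3 [MOD q]) :
    ∀ x ∈ P, y * x * y⁻¹ = x := by
  classical
  have : Fintype P := Fintype.ofFinite P
  have hmem : ∀ x : G, x ∈ P → y * x * y⁻¹ ∈ P := fun x hx =>
    (Subgroup.mem_normalizer_iff.mp hy x).mp hx
  let f : Function.End P := fun x => ⟨y * x * y⁻¹, hmem x x.2⟩
  have hfk : ∀ (k : ℕ) (x : P), (((f ^ k) x : P) : G) = y ^ k * x * (y ^ k)⁻¹ := by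
    intro k
    induction k with
    | zero =>
      intro x
      rw [pow_zero, pow_zero, one_mul, inv_one, mul_one]
      rfl
    | succ k ih =>
      intro x
      have e1 : (f ^ (k + 1)) x = f ((f ^ k) x) := by
        rw [pow_succ']; rfl
      rw [e1]
      show y * (((f ^ k) x : P) : G) * y⁻¹ = _
      rw [ih x, pow_succ']
      group
  have hf : f ^ q ^ 1 = 1 := by
    funext x
    apply Subtype.ext
    rw [pow_one, hfk, ← hq, pow_orderOf_eq_one, one_mul, inv_one, mul_one]
    rfl
  have hmod := Equiv.Perm.card_fixedPoints_modEq (f := f) (p := q) (n := 1) hf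
  let F : Subgroup P :=
    { carrier := {x | y * (x : G) * y⁻¹ = x}
      mul_mem' := by
        intro a b ha hb
        simp only [Set.mem_ofPred_eq] at ha hb ⊢
        calc y * ((a * b : P) : G) * y⁻¹ = (y * (a : G) * y⁻¹) * (y * (b : G) * y⁻¹) := by
              push_cast; group
          _ = ((a * b : P) : G) := by rw [ha, hb]; rfl
      one_mem' := by simp
      inv_mem' := by
        intro a ha
        simp only [Set.mem_ofPred_eq] at ha ⊢
        calc y * ((a⁻¹ : P) : G) * y⁻¹ = (y * (a : G) * y⁻¹)⁻¹ := by push_cast; group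
          _ = ((a⁻¹ : P) : G) := by rw [ha]; rfl }
  have hFcard : Fintype.card (Function.fixedPoints f) = Nat.card F := by
    rw [← Nat.card_eq_fintype_card]
    refine Nat.card_congr (Equiv.subtypeEquivRight fun x => ?_)
    show f x = x ↔ y * (x : G) * y⁻¹ = x
    exact Subtype.ext_iff
  rw [hFcard, ← Nat.card_eq_fintype_card, hP] at hmod
  have hFdvd : Nat.card F ∣ 9 := by
    rw [← hP]; exact Subgroup.card_subgroup_dvd_card F
  have hF9 : Nat.card F = 9 := by
    have h9 : (9 : ℕ) = 3 ^ 2 := by norm_num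
    rw [h9] at hFdvd
    obtain ⟨m, hm, hmF⟩ := (Nat.dvd_prime_pow (by norm_num : Nat.Prime 3)).mp hFdvd
    interval_cases m
    · rw [hmF] at hmod; exact absurd hmod h1
    · rw [hmF] at hmod; exact absurd hmod h3
    · rw [hmF]; norm_num
  have hFtop : F = ⊤ := Subgroup.eq_top_of_card_eq F (by rw [hF9, hP])
  intro x hx
  have : (⟨x, hx⟩ : P) ∈ F := by rw [hFtop]; trivial
  exact this

/-- arithmetic: the order of a subgroup of a group of order 7920 that is prime to 2, 5, 11
and divisible by 9 is 9 -/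
theorem card_eq_nine_of (c : ℕ) (hdvd : c ∣ 7920) (h9 : 9 ∣ c)
    (hno : ∀ q : ℕ, q.Prime → q ∣ c → q ≠ 2 ∧ q ≠ 5 ∧ q ≠ 11) : c = 9 := by
  have hcop : Nat.Coprime c 880 := by
    apply Nat.Coprime.symm
    apply Nat.coprime_of_dvd
    intro k hk hk880 hkc
    obtain ⟨h2, h5, h11⟩ := hno k hk hkc
    have h880 : (880 : ℕ) = 2 ^ 4 * 5 * 11 := by norm_num
    rw [h880] at hk880
    rcases (Nat.Prime.dvd_mul hk).mp hk880 with h | h
    · rcases (Nat.Prime.dvd_mul hk).mp h with h | h
      · exact h2 ((Nat.prime_dvd_prime_iff_eq hk Nat.prime_two).mp (hk.dvd_of_dvd_pow h))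
      · exact h5 ((Nat.prime_dvd_prime_iff_eq hk (by norm_num)).mp h)
    · exact h11 ((Nat.prime_dvd_prime_iff_eq hk (by norm_num)).mp h)
  have h1 : c ∣ 9 := by
    have h2 : c ∣ 880 * 9 := by norm_num; exact hdvd
    exact hcop.dvd_of_dvd_mul_left h2
  exact Nat.dvd_antisymm h1 h9

end Cfsg.Agent.H70.M11
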