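import Mathlib
import Cfsg.Agent.H70.M11G3Base

/-!
# S0435-G3A: the centralizer of a Sylow 3-subgroup of a simple group of order 7920 (helper70)
-/

set_option autoImplicit false
namespace Cfsg.Agent.H70.M11

open Subgroup

theorem centralizer_sylow3 {G : Type*} [Group G] [Finite G] [IsSimpleGroup G]
    (hG : Nat.card G = 7920)
    (h48 : ∀ t : G, orderOf t = 2 → Nat.card (centralizer ({t} : Set G)) = 48)
    (P : Sylow 3 G) : Nat.card (centralizer ((P : Subgroup G) : Set G)) = 9 := by
  have : Fact (Nat.Prime 3) := ⟨by norm_num⟩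
  have hP : Nat.card (P : Subgroup G) = 9 := sylow3_card hG P
  have hPC : (P : Subgroup G) ≤ centralizer ((P : Subgroup G) : Set G) :=
    le_centralizer_of_card_nine _ hP
  have h9 : 9 ∣ Nat.card (centralizer ((P : Subgroup G) : Set G)) := by
    rw [← hP]; exact Subgroup.card_dvd_of_le hPC
  have hdvd : Nat.card (centralizer ((P : Subgroup G) : Set G)) ∣ 7920 := by
    rw [← hG]; exact Subgroup.card_subgroup_dvd_card _
  obtain ⟨x, hx⟩ : ∃ x : (P : Subgroup G), orderOf x = 3 :=
    exists_prime_orderOf_dvd_card' 3 (by rw [hP]; norm_num)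
  have hx' : orderOf (x : G) = 3 := by rw [Subgroup.orderOf_coe]; exact hx
  refine card_eq_nine_of _ hdvd h9 ?_
  intro q hq hqd
  have : Fact q.Prime := ⟨hq⟩
  obtain ⟨y, hy⟩ := exists_prime_orderOf_dvd_card' q hqd
  have hy' : orderOf (y : G) = q := by rw [Subgroup.orderOf_coe]; exact hy
  have hyc : ∀ z ∈ (P : Subgroup G), z * (y : G) = (y : G) * z :=
    Subgroup.mem_centralizer_iff.mp y.2
  refine ⟨?_, ?_, ?_⟩
  · rintro rfl
    have hle : (P : Subgroup G) ≤ centralizer ({(y : G)} : Set G) := by
      intro z hz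
      rw [Subgroup.mem_centralizer_iff]
      intro h hh
      rw [Set.mem_singleton_iff] at hh
      rw [hh]
      exact (hyc z hz).symm
    have h1 := Subgroup.card_dvd_of_le hle
    rw [hP, h48 _ hy'] at h1
    omega
  · rintro rfl
    have hxy : Commute (x : G) (y : G) := hyc x x.2
    have h1 := orderOf_dvd_of_commute_5 hG _ _ hy' hxy
    rw [hx'] at h1
    omega
  · rintro rfl
    have hxy : Commute (x : G) (y : G) := hyc x x.2
    have h1 := orderOf_dvd_of_commute_11 hG _ _ hy' hxy
    rw [hx'] at h1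
    omega

end Cfsg.Agent.H70.M11
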