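import Mathlib
import Cfsg.Agent.H70.M11G3Base

/-!
# S0435-G3B: the normalizer of a Sylow 3-subgroup of a simple group of order 7920 has order
36 or 144 (helper70)
-/

set_option autoImplicit false
namespace Cfsg.Agent.H70.M11

open Subgroup

theorem normalizer_sylow3_cases {G : Type*} [Group G] [Finite G] [IsSimpleGroup G]
    (hG : Nat.card G = 7920) (P : Sylow 3 G) :
    Nat.card (normalizer ((P : Subgroup G) : Set G)) = 36 ∨
      Nat.card (normalizer ((P : Subgroup G) : Set G)) = 144 := by
  have : Fact (Nat.Prime 3) := ⟨by norm_num⟩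
  have hP : Nat.card (P : Subgroup G) = 9 := sylow3_card hG P
  have hPN : (P : Subgroup G) ≤ normalizer ((P : Subgroup G) : Set G) := Subgroup.le_normalizer
  have h9 : 9 ∣ Nat.card (normalizer ((P : Subgroup G) : Set G)) := by
    rw [← hP]; exact Subgroup.card_dvd_of_le hPN
  have hdvd : Nat.card (normalizer ((P : Subgroup G) : Set G)) ∣ 7920 := by
    rw [← hG]; exact Subgroup.card_subgroup_dvd_card _
  obtain ⟨x, hx⟩ : ∃ x : (P : Subgroup G), orderOf x = 3 :=
    exists_prime_orderOf_dvd_card' 3 (by rw [hP]; norm_num)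
  have hx' : orderOf (x : G) = 3 := by rw [Subgroup.orderOf_coe]; exact hx
  have hcomm_of : ∀ y : G, (∀ z ∈ (P : Subgroup G), y * z * y⁻¹ = z) → Commute (x : G) y := by
    intro y hy
    have h1 := hy x x.2
    show (x : G) * y = y * x
    calc (x : G) * y = (y * x * y⁻¹) * y := by rw [h1]
      _ = y * x := by group
  have h5 : ¬ 5 ∣ Nat.card (normalizer ((P : Subgroup G) : Set G)) := by
    intro h
    have : Fact (Nat.Prime 5) := ⟨by norm_num⟩
    obtain ⟨y, hy⟩ := exists_prime_orderOf_dvd_card' 5 h
    have hy' : orderOf (y : G) = 5 := by rw [Subgroup.orderOf_coe]; exact hy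
    have hc := commute_of_normalizer (P : Subgroup G) hP (y : G) y.2 5 hy' (by decide) (by decide)
    have h1 := orderOf_dvd_of_commute_5 hG _ _ hy' (hcomm_of _ hc)
    rw [hx'] at h1
    omega
  have h11 : ¬ 11 ∣ Nat.card (normalizer ((P : Subgroup G) : Set G)) := by
    intro h
    have : Fact (Nat.Prime 11) := ⟨by norm_num⟩
    obtain ⟨y, hy⟩ := exists_prime_orderOf_dvd_card' 11 h
    have hy' : orderOf (y : G) = 11 := by rw [Subgroup.orderOf_coe]; exact hy
    have hc := commute_of_normalizer (P : Subgroup G) hP (y : G) y.2 11 hy' (by decide)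
      (by decide)
    have h1 := orderOf_dvd_of_commute_11 hG _ _ hy' (hcomm_of _ hc)
    rw [hx'] at h1
    omega
  have hidx : Nat.card (Sylow 3 G) = (normalizer ((P : Subgroup G) : Set G)).index :=
    Sylow.card_eq_index_normalizer P
  have hmod : Nat.card (Sylow 3 G) ≡ 1 [MOD 3] := card_sylow_modEq_one 3 G
  have hmul : Nat.card (normalizer ((P : Subgroup G) : Set G)) *
      (normalizer ((P : Subgroup G) : Set G)).index = 7920 := by
    rw [← hG]; exact Subgroup.card_mul_index _
  have hne9 : Nat.card (normalizer ((P : Subgroup G) : Set G)) ≠ 9 := by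
    intro h
    have hNP : (P : Subgroup G) = normalizer ((P : Subgroup G) : Set G) :=
      Subgroup.eq_of_le_of_card_ge hPN (by rw [h, hP])
    have hPC : (P : Subgroup G) ≤ centralizer ((P : Subgroup G) : Set G) :=
      le_centralizer_of_card_nine _ hP
    have hNC : normalizer ((P : Subgroup G) : Set G) ≤ centralizer ((P : Subgroup G) : Set G) := by
      rw [← hNP]; exact hPC
    have hcompl := MonoidHom.ker_transferSylow_isComplement' P hNC
    have hcard := hcompl.card_mul_card
    rw [hP, hG] at hcard
    have hK : Nat.card (MonoidHom.transferSylow P hNC).ker = 880 := by omega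
    rcases (MonoidHom.normal_ker (MonoidHom.transferSylow P hNC)).eq_bot_or_eq_top with h' | h'
    · rw [h', Subgroup.card_bot] at hK; omega
    · rw [h', Subgroup.card_top, hG] at hK; omega
  -- arithmetic
  rw [hidx] at hmod
  generalize Nat.card (normalizer ((P : Subgroup G) : Set G)) = c at *
  generalize (normalizer ((P : Subgroup G) : Set G)).index = i at *
  have hcop : Nat.Coprime c 55 := by
    have h55 : (55 : ℕ) = 5 * 11 := by norm_num
    rw [h55]
    exact Nat.Coprime.mul_right
      ((Nat.Prime.coprime_iff_not_dvd (by norm_num : Nat.Prime 5)).mpr h5).symm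
      ((Nat.Prime.coprime_iff_not_dvd (by norm_num : Nat.Prime 11)).mpr h11).symm
  have h144 : c ∣ 144 := by
    have h2 : c ∣ 55 * 144 := by norm_num; exact hdvd
    exact hcop.dvd_of_dvd_mul_left h2
  obtain ⟨k, rfl⟩ := h9
  have hk16 : k ∣ 16 := by
    have h3 : 9 * k ∣ 9 * 16 := by norm_num; exact h144
    exact Nat.dvd_of_mul_dvd_mul_left (by norm_num) h3
  have hk : k ≤ 16 := Nat.le_of_dvd (by norm_num) hk16
  unfold Nat.ModEq at hmod
  interval_cases k <;> omega

end Cfsg.Agent.H70.M11
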