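import Mathlib
import Cfsg.Agent.H93.M11Main

/-!
# S0435-NOINV11: a product of two conjugate involutions is not of order 11 in a simple group
of order 7920 (helper70)
-/

set_option autoImplicit false
namespace Cfsg.Agent.H70.M11

open Subgroup

/-- an involution inverting `z'` normalizes `zpowers z'` -/
theorem mem_normalizer_zpowers_of_inv {G : Type*} [Group G] (s z' : G) (hs : s * s = 1)
    (hinv : s * z' * s⁻¹ = z'⁻¹) : s ∈ normalizer ((zpowers z' : Subgroup G) : Set G) := by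
  have hsinv : s⁻¹ = s := inv_eq_of_mul_eq_one_left hs
  have hfwd : ∀ h, h ∈ zpowers z' → s * h * s⁻¹ ∈ zpowers z' := by
    intro h hh
    obtain ⟨k, rfl⟩ := Subgroup.mem_zpowers_iff.mp hh
    have h1 : s * z' ^ k * s⁻¹ = (z'⁻¹) ^ k := by
      rw [← hinv]; exact conj_zpow.symm
    rw [h1]
    exact Subgroup.zpow_mem _ (Subgroup.inv_mem _ (Subgroup.mem_zpowers z')) k
  rw [Subgroup.mem_normalizer_iff]
  intro h
  refine ⟨hfwd h, fun hh => ?_⟩
  have h2 := hfwd _ hh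
  have h3 : s * (s * h * s⁻¹) * s⁻¹ = h := by
    rw [hsinv]
    calc s * (s * h * s) * s = (s * s) * h * (s * s) := by group
      _ = h := by rw [hs, one_mul, mul_one]
  rwa [h3] at h2

theorem inv_conj_of_invol {G : Type*} [Group G] (t₁ t₂ : G) (h1 : t₁ * t₁ = 1)
    (h2 : t₂ * t₂ = 1) : t₁ * (t₁ * t₂) * t₁⁻¹ = (t₁ * t₂)⁻¹ := by
  have e1 : t₁⁻¹ = t₁ := inv_eq_of_mul_eq_one_left h1
  have e2 : t₂⁻¹ = t₂ := inv_eq_of_mul_eq_one_left h2
  rw [mul_inv_rev, e1, e2, ← mul_assoc, h1, one_mul]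

theorem no_invol_prod_11 {G : Type*} [Group G] [Finite G] [IsSimpleGroup G]
    (hG : Nat.card G = 7920) (t z : G) (ht : orderOf t = 2) (hz : orderOf z = 11) (a b : G) :
    ¬ IsConj (a * t * a⁻¹ * (b * t * b⁻¹)) z := by
  intro hconj
  have : Fact (Nat.Prime 11) := ⟨by norm_num⟩
  have htt : t * t = 1 := by
    rw [← pow_two, ← ht]; exact pow_orderOf_eq_one t
  have hsq : ∀ c : G, (c * t * c⁻¹) * (c * t * c⁻¹) = 1 := by
    intro c
    calc (c * t * c⁻¹) * (c * t * c⁻¹) = c * (t * t) * c⁻¹ := by group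
      _ = 1 := by rw [htt]; group
  obtain ⟨c, hc⟩ := isConj_iff.mp hconj
  have hord : orderOf (a * t * a⁻¹ * (b * t * b⁻¹)) = 11 := by
    rw [← hz, ← hc]
    exact ((MulAut.conj c).orderOf_eq _).symm
  have hinv : (a * t * a⁻¹) * (a * t * a⁻¹ * (b * t * b⁻¹)) * (a * t * a⁻¹)⁻¹ =
      (a * t * a⁻¹ * (b * t * b⁻¹))⁻¹ := inv_conj_of_invol _ _ (hsq a) (hsq b)
  have hZcard : Nat.card (zpowers (a * t * a⁻¹ * (b * t * b⁻¹))) = 11 := by
    rw [Nat.card_zpowers, hord]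
  have hZp : IsPGroup 11 (zpowers (a * t * a⁻¹ * (b * t * b⁻¹))) :=
    IsPGroup.of_card (n := 1) (by rw [hZcard]; norm_num)
  obtain ⟨Q, hQ⟩ := hZp.exists_le_sylow
  have hQcard : Nat.card (Q : Subgroup G) = 11 := Cfsg.Agent.H93.M11.sylow11_card' hG Q
  have hZQ : zpowers (a * t * a⁻¹ * (b * t * b⁻¹)) = (Q : Subgroup G) :=
    Subgroup.eq_of_le_of_card_ge hQ (by rw [hQcard, hZcard])
  have hN := (Cfsg.Agent.H5.Ord7920.sylow11_simple hG Q).2.1
  have ht1N : a * t * a⁻¹ ∈ normalizer ((Q : Subgroup G) : Set G) := by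
    rw [← hZQ]
    exact mem_normalizer_zpowers_of_inv _ _ (hsq a) hinv
  have ht1ord : orderOf (a * t * a⁻¹) = 2 := by
    rw [← ht]
    exact (MulAut.conj a).orderOf_eq t
  have hdvd : orderOf (⟨a * t * a⁻¹, ht1N⟩ : normalizer ((Q : Subgroup G) : Set G)) ∣ 55 := by
    rw [← hN]; exact orderOf_dvd_natCard _
  rw [Subgroup.orderOf_mk, ht1ord] at hdvd
  omega

end Cfsg.Agent.H70.M11
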