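import Mathlib
import Cfsg.Agent.S0679
import Cfsg.Agent.S0243

/-!
# helper70: piece PERM of S0420 -- a simple group of order 7920 with a subgroup of order 720
is a sharply 4-transitive permutation group of degree 11
-/

set_option autoImplicit false

namespace Cfsg.Agent.H70.M11

open Subgroup

theorem card_psl2_11 :
    Nat.card (Matrix.ProjectiveSpecialLinearGroup (Fin 2) (ZMod 11)) = 660 := by
  have : Fact (Nat.Prime 11) := ⟨by norm_num⟩
  have h2 := Cfsg.Agent.S0243.result (F := ZMod 11) (q := 11) (ZMod.card 11) 2 (by norm_num)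
  simp only [Fin.prod_univ_succ, Fin.val_zero, Fin.val_succ, Finset.univ_eq_empty,
    Finset.prod_empty] at h2
  norm_num at h2
  rw [Nat.card_eq_fintype_card]
  omega

theorem exists_sharply4_of_card_720 {G : Type*} [Group G] [Finite G] [IsSimpleGroup G]
    (hG : Nat.card G = 7920) (M : Subgroup G) (hM : Nat.card M = 720) :
    ∃ H : Subgroup (Equiv.Perm (Fin 11)), Nonempty (G ≃* H) ∧
      MulAction.IsMultiplyPretransitive H (Fin 11) 4 ∧
      ∀ x : Fin 4 ↪ Fin 11, MulAction.stabilizer H x = ⊥ := by
  classical
  have hidx : M.index = 11 := by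
    have h := Subgroup.card_mul_index M
    rw [hM, hG] at h
    omega
  have hcard : Nat.card (G ⧸ M) = 11 := hidx
  let e : G ⧸ M ≃ Fin 11 := Finite.equivFinOfCardEq hcard
  let φ : G →* Equiv.Perm (Fin 11) :=
    (e.permCongrHom).toMonoidHom.comp (MulAction.toPermHom G (G ⧸ M))
  have hφ : ∀ (g : G) (a : Fin 11), φ g a = e (g • e.symm a) := fun g a => rfl
  -- injectivity
  have hker : φ.ker = ⊥ := by
    rcases IsSimpleGroup.eq_bot_or_eq_top_of_normal φ.ker inferInstance with h | h
    · exact h
    · exfalso
      have hM' : M = ⊤ := by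
        rw [eq_top_iff]
        intro g _
        have hg : g ∈ φ.ker := by rw [h]; exact Subgroup.mem_top g
        have h1 : φ g (e ((1 : G) : G ⧸ M)) = e ((1 : G) : G ⧸ M) := by
          rw [MonoidHom.mem_ker.mp hg]; rfl
        rw [hφ, Equiv.symm_apply_apply] at h1
        have h2 : g • ((1 : G) : G ⧸ M) = ((1 : G) : G ⧸ M) := e.injective h1
        have h3 : ((g * 1 : G) : G ⧸ M) = ((1 : G) : G ⧸ M) := h2
        rw [mul_one, QuotientGroup.eq] at h3
        have h4 := M.inv_mem h3
        simpa using h4
      rw [hM', Subgroup.card_top, hG] at hM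
      omega
  have hinj : Function.Injective φ := (MonoidHom.ker_eq_bot_iff φ).mp hker
  let iso : G ≃* φ.range := MonoidHom.ofInjective hinj
  have hHcard : Nat.card φ.range = 7920 := by
    rw [← hG]; exact (Nat.card_congr iso.toEquiv).symm
  -- transitivity
  have : MulAction.IsPretransitive φ.range (Fin 11) := by
    refine ⟨fun a b => ?_⟩
    obtain ⟨g, hg⟩ := MulAction.exists_smul_eq G (e.symm a) (e.symm b)
    refine ⟨⟨φ g, ⟨g, rfl⟩⟩, ?_⟩
    show φ g a = b
    rw [hφ, hg, Equiv.apply_symm_apply]
  -- not solvable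
  have hns : ¬ Group.IsSolvable φ.range := by
    intro hs
    have hsG : Group.IsSolvable G := Group.isSolvable_of_isSolvable_injective (f := φ.rangeRestrict)
      (by
        intro a b hab
        apply hinj
        exact congrArg Subtype.val hab)
    have hcomm : ∀ a b : G, a * b = b * a := IsSimpleGroup.comm_iff_isSolvable.mpr hsG
    let _ : CommGroup G := { ‹Group G› with mul_comm := hcomm }
    have hp := IsSimpleGroup.prime_card (α := G)
    rw [hG] at hp
    norm_num at hp
  -- does not contain the alternating group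
  have hA : ¬ alternatingGroup (Fin 11) ≤ φ.range := by
    intro hle
    have h1 := Subgroup.card_le_of_le hle
    rw [hHcard] at h1
    have h2 := two_mul_card_alternatingGroup (α := Fin 11)
    rw [Fintype.card_perm, Fintype.card_fin] at h2
    rw [Nat.card_eq_fintype_card] at h1
    have h3 : (11 : ℕ).factorial = 39916800 := by decide
    omega
  rcases Cfsg.Agent.S0679.result (α := Fin 11) (by simp) φ.range hns hA with h | ⟨⟨f⟩⟩
  · exact ⟨φ.range, ⟨iso⟩, h.1, h.2⟩
  · exfalso
    have h1 := Nat.card_congr f.toEquiv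
    rw [hHcard, card_psl2_11] at h1
    omega

end Cfsg.Agent.H70.M11
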