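import Mathlib
import Cfsg.Agent.S4023

set_option autoImplicit false

namespace Cfsg.Agent.H70.N15

theorem card_eq_relIndex_mul {G : Type*} [Group G] {A B : Subgroup G} (h : A ≤ B) :
    Nat.card B = A.relIndex B * Nat.card A := by
  have := Subgroup.relIndex_mul_relIndex (⊥ : Subgroup G) A B bot_le h
  rw [Subgroup.relIndex_bot_left, Subgroup.relIndex_bot_left] at this
  rw [← this, mul_comm]

theorem smul_eq_iff {p : ℕ} {Z : Type*} [Group Z] (g : Z) (P : Sylow p Z) :
    g • P = P ↔ g ∈ Subgroup.normalizer ((P : Subgroup Z) : Set Z) :=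
  Sylow.smul_eq_iff_mem_normalizer

theorem card_eq_index {p : ℕ} [Fact p.Prime] {Z : Type*} [Group Z] [Finite Z] (P : Sylow p Z) :
    Nat.card (Sylow p Z) = (Subgroup.normalizer ((P : Subgroup Z) : Set Z)).index :=
  Sylow.card_eq_index_normalizer P

theorem sylow_card {p : ℕ} [Fact p.Prime] {Z : Type*} [Group Z] [Finite Z] (P : Sylow p Z) (n c : ℕ)
    (hcard : Nat.card Z = p ^ n * c) (hc : ¬ p ∣ c) : Nat.card (P : Subgroup Z) = p ^ n := by
  have hp : p.Prime := Fact.out
  obtain ⟨k, hk⟩ := IsPGroup.iff_card.mp P.isPGroup'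
  have h1 : p ^ n ∣ Nat.card (P : Subgroup Z) :=
    P.pow_dvd_card_of_pow_dvd_card (by rw [hcard]; exact dvd_mul_right _ _)
  rw [hk] at h1
  have hnk : n ≤ k := (Nat.pow_dvd_pow_iff_le_right hp.one_lt).mp h1
  have h2 : p ^ k ∣ p ^ n * c := by
    rw [← hk, ← hcard]; exact Subgroup.card_subgroup_dvd_card _
  have hkn : k ≤ n := by
    by_contra hlt
    push Not at hlt
    have h3 : p ^ (n + 1) ∣ p ^ n * c := (pow_dvd_pow p hlt).trans h2
    rw [pow_succ] at h3
    exact hc ((Nat.mul_dvd_mul_iff_left (pow_pos hp.pos n)).mp h3)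
  rw [hk, le_antisymm hkn hnk]

theorem exists_sylow_eq {p : ℕ} [Fact p.Prime] {Z : Type*} [Group Z] [Finite Z] (H : Subgroup Z)
    (n : ℕ) (hH : Nat.card H = p ^ n) (hn : ¬ p ^ (n + 1) ∣ Nat.card Z) :
    ∃ P : Sylow p Z, (P : Subgroup Z) = H := by
  have hp : p.Prime := Fact.out
  obtain ⟨P, hP⟩ := IsPGroup.exists_le_sylow (IsPGroup.of_card hH)
  obtain ⟨k, hk⟩ := IsPGroup.iff_card.mp P.isPGroup'
  have h1 : p ^ n ∣ p ^ k := by rw [← hH, ← hk]; exact Subgroup.card_dvd_of_le hP
  have hnk : n ≤ k := (Nat.pow_dvd_pow_iff_le_right hp.one_lt).mp h1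
  have hkn : k ≤ n := by
    by_contra hlt
    push Not at hlt
    exact hn ((pow_dvd_pow p hlt).trans (by rw [← hk]; exact Subgroup.card_subgroup_dvd_card _))
  refine ⟨P, (Subgroup.eq_of_le_of_card_ge hP ?_).symm⟩
  rw [hk, hH, le_antisymm hkn hnk]

theorem LN {p : ℕ} [Fact p.Prime] {Z : Type*} [Group Z] [Finite Z] (P : Sylow p Z)
    (H : Subgroup Z) (hPH : (P : Subgroup Z) ≤ H) (r : ℕ)
    (hcard : Nat.card H = Nat.card (P : Subgroup Z) * r)
    (hk : ∀ k, k ∣ r → k % p = 1 → k = 1) :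
    H ≤ Subgroup.normalizer ((P : Subgroup Z) : Set Z) := by
  have hp : p.Prime := Fact.out
  have h1 : Nat.card (Sylow p ↥H) ≡ 1 [MOD p] := card_sylow_modEq_one p ↥H
  have h2 : Nat.card (Sylow p ↥H) ∣ ((P.subtype hPH : Sylow p ↥H) : Subgroup ↥H).index :=
    Sylow.card_dvd_index _
  have h3 : ((P.subtype hPH : Sylow p ↥H) : Subgroup ↥H).index = r := by
    have h4 := Subgroup.card_mul_index ((P.subtype hPH : Sylow p ↥H) : Subgroup ↥H)
    rw [Sylow.coe_subtype] at h4 ⊢
    rw [Nat.card_congr (Subgroup.subgroupOfEquivOfLe hPH).toEquiv, hcard] at h4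
    exact Nat.eq_of_mul_eq_mul_left Nat.card_pos h4
  rw [h3] at h2
  have h5 : Nat.card (Sylow p ↥H) = 1 := by
    apply hk _ h2
    have := h1
    rw [Nat.ModEq, Nat.mod_eq_of_lt hp.one_lt] at this
    exact this
  have hsub : Subsingleton (Sylow p ↥H) := (Nat.card_eq_one_iff_unique.mp h5).1
  intro h hh
  have h6 : (⟨h, hh⟩ : ↥H) • (P.subtype hPH) = P.subtype hPH := Subsingleton.elim _ _
  rw [smul_eq_iff, Subgroup.mem_normalizer_iff] at h6
  rw [Subgroup.mem_normalizer_iff]
  have key : ∀ x : Z, x ∈ H → (x ∈ (P : Subgroup Z) ↔ h * x * h⁻¹ ∈ (P : Subgroup Z)) := by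
    intro x hx
    have := h6 ⟨x, hx⟩
    rw [Sylow.coe_subtype, Subgroup.mem_subgroupOf, Subgroup.mem_subgroupOf] at this
    exact this
  intro x
  constructor
  · intro hx
    exact (key x (hPH hx)).mp hx
  · intro hx
    have hxH : x ∈ H := by
      have h7 : h⁻¹ * (h * x * h⁻¹) * h ∈ H :=
        H.mul_mem (H.mul_mem (H.inv_mem hh) (hPH hx)) hh
      have h8 : h⁻¹ * (h * x * h⁻¹) * h = x := by group
      rwa [h8] at h7
    exact (key x hxH).mpr hx

theorem sign_inv {α : Type*} [Fintype α] [DecidableEq α] (τ : Equiv.Perm α) (h2 : orderOf τ = 2)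
    (k : ℕ) (hk : Odd k) (hs : τ.support.card = 2 * k) : Equiv.Perm.sign τ = -1 := by
  have hp : (orderOf τ).Prime := by rw [h2]; exact Nat.prime_two
  obtain ⟨n, hn⟩ := Equiv.Perm.cycleType_prime_order hp
  have hsum := Equiv.Perm.sum_cycleType τ
  rw [hn, h2, Multiset.sum_replicate, hs, smul_eq_mul] at hsum
  have hnk : n + 1 = k := by omega
  rw [Equiv.Perm.sign_of_cycleType, hn, h2, Multiset.sum_replicate, Multiset.card_replicate,
    smul_eq_mul, hnk]
  apply Odd.neg_one_pow
  obtain ⟨j, rfl⟩ := hk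
  exact ⟨3 * j + 1, by ring⟩

theorem index_two_of_hom {Z : Type*} [Group Z] (s : Z →* ℤˣ) (t : Z) (ht : s t = -1) :
    s.ker.index = 2 := by
  rw [Subgroup.index_eq_two_iff]
  refine ⟨t, fun b => ?_⟩
  rw [MonoidHom.mem_ker, MonoidHom.mem_ker, map_mul, ht]
  rcases Int.units_eq_one_or (s b) with h | h
  · rw [h]; right; exact ⟨rfl, by decide⟩
  · rw [h]; left; exact ⟨by decide, by decide⟩

theorem cay {Z : Type*} [Group Z] [Finite Z] (m : ℕ) (hm : Odd m) (hcard : Nat.card Z = 2 * m) :
    ∃ L : Subgroup Z, L.index = 2 := by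
  classical
  letI : Fintype Z := Fintype.ofFinite Z
  have : Fact (Nat.Prime 2) := ⟨Nat.prime_two⟩
  obtain ⟨t, ht⟩ := exists_prime_orderOf_dvd_card' (G := Z) 2
    (by rw [hcard]; exact dvd_mul_right _ _)
  have ht1 : t ≠ 1 := by
    rintro rfl
    rw [orderOf_one] at ht; omega
  have ht2 : t ^ 2 = 1 := by rw [← ht]; exact pow_orderOf_eq_one t
  have hτ2 : orderOf (MulAction.toPermHom Z Z t) = 2 := by
    apply orderOf_eq_prime
    · rw [← map_pow, ht2, map_one]
    · intro h
      have h1 : (MulAction.toPermHom Z Z t) 1 = (1 : Equiv.Perm Z) 1 := by rw [h]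
      rw [MulAction.toPermHom_apply, MulAction.toPerm_apply] at h1
      simp at h1
      exact ht1 h1
  have hsupp : (MulAction.toPermHom Z Z t).support.card = 2 * m := by
    have : (MulAction.toPermHom Z Z t).support = Finset.univ := by
      ext x
      simp only [Equiv.Perm.mem_support, Finset.mem_univ, iff_true, MulAction.toPermHom_apply,
        MulAction.toPerm_apply, smul_eq_mul]
      simpa using ht1
    rw [this, Finset.card_univ, ← Nat.card_eq_fintype_card, hcard]
  have hsign := sign_inv (MulAction.toPermHom Z Z t) hτ2 m hm hsupp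
  exact ⟨_, index_two_of_hom (Equiv.Perm.sign.comp (MulAction.toPermHom Z Z)) t hsign⟩

theorem idx2 {Z : Type*} [Group Z] [Finite Z] (L : Subgroup Z) (hL : L.index = 2) (P : Sylow 7 Z)
    (hP : (Subgroup.normalizer ((P : Subgroup Z) : Set Z)).index = 15) :
    ∃ P' : Sylow 7 ↥L, (Subgroup.normalizer ((P' : Subgroup ↥L) : Set ↥L)).index = 15 := by
  have : Fact (Nat.Prime 7) := ⟨by norm_num⟩
  have : L.Normal := Subgroup.normal_of_index_eq_two hL
  have hPL : (P : Subgroup Z) ≤ L := by
    rw [← Subgroup.relIndex_eq_one]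
    have h1 : L.relIndex (P : Subgroup Z) ∣ 2 := hL ▸ Subgroup.relIndex_dvd_index_of_normal L P
    have h2 : L.relIndex (P : Subgroup Z) ∣ Nat.card (P : Subgroup Z) :=
      Subgroup.relIndex_dvd_card L P
    obtain ⟨k, hk⟩ := IsPGroup.iff_card.mp P.isPGroup'
    rw [hk] at h2
    have h3 : Nat.Coprime 2 (7 ^ k) := Nat.Coprime.pow_right k (by norm_num)
    exact Nat.Coprime.eq_one_of_dvd (Nat.Coprime.coprime_dvd_left h1 h3) h2
  refine ⟨P.subtype hPL, ?_⟩
  rw [Sylow.coe_subtype, ← Subgroup.subgroupOf_normalizer_eq hPL]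
  have e1 : (Subgroup.normalizer ((P : Subgroup Z) : Set Z)).relIndex L * 2 =
      (Subgroup.normalizer ((P : Subgroup Z) : Set Z) ⊓ L).index := by
    rw [← hL, ← Subgroup.inf_relIndex_right (Subgroup.normalizer ((P : Subgroup Z) : Set Z)) L]
    exact Subgroup.relIndex_mul_index inf_le_right
  have e2 : L.relIndex (Subgroup.normalizer ((P : Subgroup Z) : Set Z)) * 15 =
      (Subgroup.normalizer ((P : Subgroup Z) : Set Z) ⊓ L).index := by
    rw [← hP, ← Subgroup.inf_relIndex_left (Subgroup.normalizer ((P : Subgroup Z) : Set Z)) L]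
    exact Subgroup.relIndex_mul_index inf_le_left
  have e3 : L.relIndex (Subgroup.normalizer ((P : Subgroup Z) : Set Z)) ∣ 2 :=
    hL ▸ Subgroup.relIndex_dvd_index_of_normal L _
  have e4 := (Nat.dvd_prime Nat.prime_two).mp e3
  change (Subgroup.normalizer ((P : Subgroup Z) : Set Z)).relIndex L = 15
  omega

theorem small_odd {Z : Type*} [Group Z] [Finite Z] (P : Sylow 7 Z)
    (hP : (Subgroup.normalizer ((P : Subgroup Z) : Set Z)).index = 15) (m : ℕ)
    (hm : m = 1 ∨ m = 3) (hcard : Nat.card Z = 105 * m) : False := by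
  have : Fact (Nat.Prime 7) := ⟨by norm_num⟩
  have : Fact (Nat.Prime 5) := ⟨by norm_num⟩
  have : Fact (Nat.Prime 3) := ⟨by norm_num⟩
  have hm0 : 0 < m := by rcases hm with rfl | rfl <;> norm_num
  have e3 : ∃ a, 3 * m = 3 ^ a := by
    rcases hm with rfl | rfl
    · exact ⟨1, by norm_num⟩
    · exact ⟨2, by norm_num⟩
  have hk5 : ∀ k, k ∣ 3 * m → k % 5 = 1 → k = 1 := by
    intro k hk h5
    have h9 : k ∣ 9 := hk.trans (by rcases hm with rfl | rfl <;> norm_num)
    have := Nat.le_of_dvd (by norm_num) h9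
    interval_cases k <;> omega
  have hk7 : ∀ k, k ∣ 3 * m → k % 7 = 1 → k = 1 := by
    intro k hk h7
    have h9 : k ∣ 9 := hk.trans (by rcases hm with rfl | rfl <;> norm_num)
    have := Nat.le_of_dvd (by norm_num) h9
    interval_cases k <;> omega
  have hd5 : ∀ n, n ∣ 21 * m → n % 5 = 1 → n = 1 ∨ n = 21 := by
    intro n hn h5
    have h63 : n ∣ 63 := hn.trans (by rcases hm with rfl | rfl <;> norm_num)
    have := Nat.le_of_dvd (by norm_num) h63
    interval_cases n <;> omega
  have hd3 : ∀ n, n ∣ 35 → n % 3 = 1 → n = 1 ∨ n = 7 := by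
    intro n hn h3
    have := Nat.le_of_dvd (by norm_num) hn
    interval_cases n <;> omega
  have cP : Nat.card (P : Subgroup Z) = 7 := by
    have := sylow_card P 1 (15 * m) (by rw [hcard]; ring)
      (by rcases hm with rfl | rfl <;> norm_num)
    simpa using this
  have cNP : Nat.card (Subgroup.normalizer ((P : Subgroup Z) : Set Z)) = 7 * m := by
    have := Subgroup.card_mul_index (Subgroup.normalizer ((P : Subgroup Z) : Set Z))
    rw [hP, hcard] at this
    omega
  obtain ⟨Q⟩ : Nonempty (Sylow 5 Z) := inferInstance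
  have cQ : ∀ Q : Sylow 5 Z, Nat.card (Q : Subgroup Z) = 5 := by
    intro Q
    have := sylow_card Q 1 (21 * m) (by rw [hcard]; ring)
      (by rcases hm with rfl | rfl <;> norm_num)
    simpa using this
  have hn5 : Nat.card (Sylow 5 Z) = 1 ∨ Nat.card (Sylow 5 Z) = 21 := by
    apply hd5
    · have h1 := Sylow.card_dvd_index Q
      have h2 := Subgroup.card_mul_index (Q : Subgroup Z)
      rw [cQ Q, hcard] at h2
      have h3 : (Q : Subgroup Z).index = 21 * m := by omega
      rwa [h3] at h1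
    · exact card_sylow_modEq_one 5 Z
  rcases hn5 with hn5 | hn5
  · have hQN : Subgroup.normalizer ((Q : Subgroup Z) : Set Z) = ⊤ := by
      rw [← Subgroup.index_eq_one, ← card_eq_index, hn5]
    have hPQ : (P : Subgroup Z) ≤ Subgroup.normalizer ((Q : Subgroup Z) : Set Z) := by
      rw [hQN]; exact le_top
    have hprod := Cfsg.Agent.S4023.card_sup_mul_card_inf (P : Subgroup Z) (Q : Subgroup Z) hPQ
    have hinf : (P : Subgroup Z) ⊓ (Q : Subgroup Z) = ⊥ :=
      (Subgroup.disjoint_of_coprime_natCard (by rw [cP, cQ Q]; norm_num)).eq_bot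
    rw [hinf, Subgroup.card_bot, mul_one, cP, cQ Q] at hprod
    have hle := LN P ((P : Subgroup Z) ⊔ (Q : Subgroup Z)) le_sup_left 5 (by rw [hprod, cP]) (by
      intro k hk h7
      have := Nat.le_of_dvd (by norm_num) hk
      interval_cases k <;> omega)
    have hdvd := Subgroup.card_dvd_of_le (le_sup_right.trans hle)
    rw [cQ Q, cNP] at hdvd
    rcases hm with rfl | rfl <;> norm_num at hdvd
  · have cNQ : ∀ Q : Sylow 5 Z,
        Nat.card (Subgroup.normalizer ((Q : Subgroup Z) : Set Z)) = 5 * m := by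
      intro Q
      have h1 := Subgroup.card_mul_index (Subgroup.normalizer ((Q : Subgroup Z) : Set Z))
      rw [← card_eq_index, hn5, hcard] at h1
      omega
    obtain ⟨S⟩ : Nonempty (Sylow 3 Z) := inferInstance
    have cS : Nat.card (S : Subgroup Z) = 3 * m := by
      obtain ⟨a, ha⟩ := e3
      rw [ha]
      exact sylow_card S a 35 (by rw [hcard, ← ha]; ring) (by norm_num)
    have hn3 : Nat.card (Sylow 3 Z) = 1 ∨ Nat.card (Sylow 3 Z) = 7 := by
      apply hd3
      · have h1 := Sylow.card_dvd_index S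
        have h2 := Subgroup.card_mul_index (S : Subgroup Z)
        rw [cS, hcard] at h2
        have h3 : (S : Subgroup Z).index = 35 := by
          have h4 : m * (3 * (S : Subgroup Z).index) = m * 105 := by linarith
          have h5 := Nat.eq_of_mul_eq_mul_left hm0 h4
          omega
        rwa [h3] at h1
      · exact card_sylow_modEq_one 3 Z
    rcases hn3 with hn3 | hn3
    · have hSN : Subgroup.normalizer ((S : Subgroup Z) : Set Z) = ⊤ := by
        rw [← Subgroup.index_eq_one, ← card_eq_index, hn3]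
      have hPS : (P : Subgroup Z) ≤ Subgroup.normalizer ((S : Subgroup Z) : Set Z) := by
        rw [hSN]; exact le_top
      have hprod := Cfsg.Agent.S4023.card_sup_mul_card_inf (P : Subgroup Z) (S : Subgroup Z) hPS
      have hinf : (P : Subgroup Z) ⊓ (S : Subgroup Z) = ⊥ :=
        (Subgroup.disjoint_of_coprime_natCard
          (by rw [cP, cS]; rcases hm with rfl | rfl <;> norm_num)).eq_bot
      rw [hinf, Subgroup.card_bot, mul_one, cP, cS] at hprod
      have hle := LN P ((P : Subgroup Z) ⊔ (S : Subgroup Z)) le_sup_left (3 * m)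
        (by rw [hprod, cP]) hk7
      have hdvd := Subgroup.card_dvd_of_le (le_sup_right.trans hle)
      rw [cS, cNP] at hdvd
      rcases hm with rfl | rfl <;> norm_num at hdvd
    · have cNS : Nat.card (Subgroup.normalizer ((S : Subgroup Z) : Set Z)) = 15 * m := by
        have h1 := Subgroup.card_mul_index (Subgroup.normalizer ((S : Subgroup Z) : Set Z))
        rw [← card_eq_index, hn3, hcard] at h1
        omega
      obtain ⟨x, hx⟩ := exists_prime_orderOf_dvd_card'
        (G := ↥(Subgroup.normalizer ((S : Subgroup Z) : Set Z))) 5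
        (by rw [cNS]; exact ⟨3 * m, by ring⟩)
      have hx' : orderOf (x : Z) = 5 := by rw [Subgroup.orderOf_coe, hx]
      have cz : Nat.card (Subgroup.zpowers (x : Z)) = 5 ^ 1 := by
        rw [Nat.card_zpowers, hx']; norm_num
      obtain ⟨Q1, hQ1⟩ := exists_sylow_eq (p := 5) (Subgroup.zpowers (x : Z)) 1 cz (by
        rw [hcard]; rcases hm with rfl | rfl <;> norm_num)
      have hQ1N : (Q1 : Subgroup Z) ≤ Subgroup.normalizer ((S : Subgroup Z) : Set Z) := by
        rw [hQ1, Subgroup.zpowers_le]; exact x.2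
      have hle := LN Q1 (Subgroup.normalizer ((S : Subgroup Z) : Set Z)) hQ1N (3 * m)
        (by rw [cNS, cQ Q1]; ring) hk5
      have hdvd := Subgroup.card_dvd_of_le hle
      rw [cNS, cNQ Q1] at hdvd
      rcases hm with rfl | rfl <;> norm_num at hdvd

theorem small {Z : Type*} [Group Z] [Finite Z] (P : Sylow 7 Z)
    (hP : (Subgroup.normalizer ((P : Subgroup Z) : Set Z)).index = 15) (r : ℕ) (hr : r ∣ 6)
    (hcard : Nat.card Z = 105 * r) : False := by
  have hr' : r = 1 ∨ r = 2 ∨ r = 3 ∨ r = 6 := by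
    have := Nat.le_of_dvd (by norm_num) hr
    interval_cases r <;> omega
  rcases hr' with rfl | rfl | rfl | rfl
  · exact small_odd P hP 1 (Or.inl rfl) hcard
  · obtain ⟨L, hL⟩ := cay 105 ⟨52, by norm_num⟩ (by rw [hcard])
    obtain ⟨P', hP'⟩ := idx2 L hL P hP
    have hcL : Nat.card L = 105 * 1 := by
      have := Subgroup.card_mul_index L
      rw [hL, hcard] at this; omega
    exact small_odd P' hP' 1 (Or.inl rfl) hcL
  · exact small_odd P hP 3 (Or.inr rfl) hcard
  · obtain ⟨L, hL⟩ := cay 315 ⟨157, by norm_num⟩ (by rw [hcard])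
    obtain ⟨P', hP'⟩ := idx2 L hL P hP
    have hcL : Nat.card L = 105 * 3 := by
      have := Subgroup.card_mul_index L
      rw [hL, hcard] at this; omega
    exact small_odd P' hP' 3 (Or.inr rfl) hcL

end Cfsg.Agent.H70.N15
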