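import Mathlib
import Cfsg.Agent.H70.N15a

set_option autoImplicit false

namespace Cfsg.Agent.H70.N15

/-- `P ∩ N(Q) ≤ Q` for Sylow subgroups. -/
theorem inf_normalizer_le {p : ℕ} {G : Type*} [Group G] (P Q : Sylow p G) :
    (P : Subgroup G) ⊓ Subgroup.normalizer ((Q : Subgroup G) : Set G) ≤ Q := by
  have hX : IsPGroup p
      ↥((P : Subgroup G) ⊓ Subgroup.normalizer ((Q : Subgroup G) : Set G)) :=
    P.isPGroup'.to_le inf_le_left
  have h1 : Q ∈ MulAction.fixedPoints
      ↥((P : Subgroup G) ⊓ Subgroup.normalizer ((Q : Subgroup G) : Set G)) (Sylow p G) :=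
    (Subgroup.sylow_mem_fixedPoints_iff _).mpr inf_le_right
  exact hX.sylow_mem_fixedPoints_iff.mp h1

theorem sylow_eq_of_le {p : ℕ} {G : Type*} [Group G] (P Q : Sylow p G)
    (h : (P : Subgroup G) ≤ Q) : P = Q :=
  Sylow.ext (P.is_maximal' Q.isPGroup' h).symm

theorem card_eq_seven_mul {G : Type*} [Group G] [Finite G] (h15 : Nat.card (Sylow 7 G) = 15)
    (P Q : Sylow 7 G) (hne : P ≠ Q) :
    Nat.card (P : Subgroup G) = 7 * Nat.card ↥((P : Subgroup G) ⊓ (Q : Subgroup G)) := by
  have : Fact (Nat.Prime 7) := ⟨by norm_num⟩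
  have hcard : Nat.card (P : Subgroup G) = ((P : Subgroup G) ⊓ Q).relIndex P *
      Nat.card ↥((P : Subgroup G) ⊓ (Q : Subgroup G)) := card_eq_relIndex_mul inf_le_left
  have hstab : MulAction.stabilizer ↥(P : Subgroup G) Q =
      (Subgroup.normalizer ((Q : Subgroup G) : Set G)).subgroupOf P := by
    ext g
    rw [MulAction.mem_stabilizer_iff, Subgroup.mem_subgroupOf, ← smul_eq_iff]
    rfl
  have e : Subgroup.normalizer ((Q : Subgroup G) : Set G) ⊓ (P : Subgroup G) =
      (P : Subgroup G) ⊓ Q :=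
    le_antisymm (le_inf inf_le_right (by rw [inf_comm]; exact inf_normalizer_le P Q))
      (le_inf (inf_le_right.trans Subgroup.le_normalizer) inf_le_left)
  have hidx : (MulAction.stabilizer ↥(P : Subgroup G) Q).index =
      ((P : Subgroup G) ⊓ Q).relIndex P := by
    rw [hstab, ← e, Subgroup.inf_relIndex_right]
    rfl
  have horb : (MulAction.stabilizer ↥(P : Subgroup G) Q).index ≤ 15 := by
    rw [MulAction.index_stabilizer, ← h15]
    exact Set.ncard_le_card _
  rw [hidx] at horb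
  obtain ⟨n, hn⟩ := IsPGroup.iff_card.mp P.isPGroup'
  have hrdvd : ((P : Subgroup G) ⊓ Q).relIndex P ∣ 7 ^ n := by
    rw [← hn]; exact Subgroup.relIndex_dvd_card _ _
  obtain ⟨j, hj, hrj⟩ := (Nat.dvd_prime_pow (by norm_num)).mp hrdvd
  have hr1 : ((P : Subgroup G) ⊓ Q).relIndex P ≠ 1 := by
    intro h1
    rw [Subgroup.relIndex_eq_one] at h1
    exact hne (sylow_eq_of_le P Q (h1.trans inf_le_right))
  have hj1 : j = 1 := by
    rcases j with _ | _ | j
    · rw [pow_zero] at hrj; exact absurd hrj hr1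
    · rfl
    · exfalso
      have h49 : 7 ^ 2 ≤ 7 ^ (j + 1 + 1) := Nat.pow_le_pow_right (by norm_num) (by omega)
      omega
  rw [hcard, hrj, hj1, pow_one]

theorem card_containing_modEq {G : Type*} [Group G] [Finite G] (X : Subgroup G)
    (hX : IsPGroup 7 X) :
    Nat.card (Sylow 7 G) ≡ Nat.card {R : Sylow 7 G // X ≤ (R : Subgroup G)} [MOD 7] := by
  have : Fact (Nat.Prime 7) := ⟨by norm_num⟩
  have h := hX.card_modEq_card_fixedPoints (Sylow 7 G)
  have e : (MulAction.fixedPoints ↥X (Sylow 7 G)) = {R : Sylow 7 G | X ≤ (R : Subgroup G)} := by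
    ext R
    exact hX.sylow_mem_fixedPoints_iff
  rw [e] at h
  exact h

theorem part1 {G : Type*} [Group G] [Finite G] (h15 : Nat.card (Sylow 7 G) = 15) :
    ∃ O : Subgroup G, ∀ P Q : Sylow 7 G, P ≠ Q →
      ((P : Subgroup G) ⊓ (Q : Subgroup G) = O ∧ Nat.card (P : Subgroup G) = 7 * Nat.card O) := by
  classical
  have : Fact (Nat.Prime 7) := ⟨by norm_num⟩
  letI : Fintype (Sylow 7 G) := Fintype.ofFinite _
  have hcardΩ : Fintype.card (Sylow 7 G) = 15 := by rw [← Nat.card_eq_fintype_card, h15]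
  have hsame : ∀ P Q : Sylow 7 G, Nat.card (P : Subgroup G) = Nat.card (Q : Subgroup G) := by
    intro P Q; rw [Sylow.card_eq_multiplicity, Sylow.card_eq_multiplicity]
  let T : Subgroup G → Finset (Sylow 7 G) := fun X =>
    Finset.univ.filter (fun R : Sylow 7 G => X ≤ (R : Subgroup G))
  have hTmem : ∀ (X : Subgroup G) (R : Sylow 7 G), R ∈ T X ↔ X ≤ (R : Subgroup G) := by
    intro X R
    simp only [T, Finset.mem_filter, Finset.mem_univ, true_and]
  have hT : ∀ P Q : Sylow 7 G, P ≠ Q →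
      (T ((P : Subgroup G) ⊓ Q)).card = 8 ∨ (T ((P : Subgroup G) ⊓ Q)).card = 15 := by
    intro P Q hne
    have hX : IsPGroup 7 ↥((P : Subgroup G) ⊓ (Q : Subgroup G)) := P.isPGroup'.to_le inf_le_left
    have h1 := card_containing_modEq _ hX
    rw [h15, Nat.card_eq_fintype_card, Fintype.card_subtype] at h1
    have h2 : (T ((P : Subgroup G) ⊓ Q)).card ≤ 15 := by
      rw [← hcardΩ]; exact Finset.card_le_univ _
    have h3 : 2 ≤ (T ((P : Subgroup G) ⊓ Q)).card := by
      have hsub : ({P, Q} : Finset (Sylow 7 G)) ⊆ T ((P : Subgroup G) ⊓ Q) := by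
        intro R hR
        simp only [Finset.mem_insert, Finset.mem_singleton] at hR
        rw [hTmem]
        rcases hR with rfl | rfl
        · exact inf_le_left
        · exact inf_le_right
      have := Finset.card_le_card hsub
      rwa [Finset.card_pair hne] at this
    have h4 : 15 % 7 = (T ((P : Subgroup G) ⊓ Q)).card % 7 := h1
    omega
  have hinfcard : ∀ P Q : Sylow 7 G, P ≠ Q → ∀ P' Q' : Sylow 7 G, P' ≠ Q' →
      Nat.card ↥((P : Subgroup G) ⊓ (Q : Subgroup G)) =
        Nat.card ↥((P' : Subgroup G) ⊓ (Q' : Subgroup G)) := by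
    intro P Q hne P' Q' hne'
    have h1 := card_eq_seven_mul h15 P Q hne
    have h2 := card_eq_seven_mul h15 P' Q' hne'
    have h3 := hsame P P'
    omega
  by_cases hex : ∃ P0 Q0 : Sylow 7 G, P0 ≠ Q0 ∧ (T ((P0 : Subgroup G) ⊓ Q0)).card = 15
  · obtain ⟨P0, Q0, hne0, hc⟩ := hex
    have hall : ∀ R : Sylow 7 G, (P0 : Subgroup G) ⊓ Q0 ≤ R := by
      intro R
      have hu : T ((P0 : Subgroup G) ⊓ Q0) = Finset.univ := by
        rw [← Finset.card_eq_iff_eq_univ, hc, hcardΩ]
      have hR : R ∈ T ((P0 : Subgroup G) ⊓ Q0) := by rw [hu]; exact Finset.mem_univ R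
      exact (hTmem _ _).mp hR
    refine ⟨(P0 : Subgroup G) ⊓ Q0, fun P Q hne => ⟨?_, ?_⟩⟩
    · symm
      apply Subgroup.eq_of_le_of_card_ge (le_inf (hall P) (hall Q))
      exact (hinfcard P Q hne P0 Q0 hne0).le
    · rw [card_eq_seven_mul h15 P Q hne, hinfcard P Q hne P0 Q0 hne0]
  · exfalso
    push Not at hex
    have hT8 : ∀ P Q : Sylow 7 G, P ≠ Q → (T ((P : Subgroup G) ⊓ Q)).card = 8 := by
      intro P Q hne
      rcases hT P Q hne with h | h
      · exact h
      · exact absurd h (hex P Q hne)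
    let D : Finset (Sylow 7 G × Sylow 7 G) := (Finset.univ : Finset (Sylow 7 G)).offDiag
    have hDmem : ∀ x : Sylow 7 G × Sylow 7 G, x ∈ D ↔ x.1 ≠ x.2 := by
      intro x
      simp only [D, Finset.mem_offDiag, Finset.mem_univ, true_and]
    have hD : D.card = 210 := by
      simp only [D, Finset.offDiag_card, Finset.card_univ, hcardΩ]
    let f : Sylow 7 G × Sylow 7 G → Subgroup G :=
      fun x => (x.1 : Subgroup G) ⊓ (x.2 : Subgroup G)
    have hfib := Finset.card_eq_sum_card_fiberwise (f := f) (s := D) (t := D.image f)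
      (fun x hx => Finset.mem_coe.mpr (Finset.mem_image_of_mem f (Finset.mem_coe.mp hx)))
    have hterm : ∀ b ∈ D.image f, (D.filter (fun a => f a = b)).card = 56 := by
      intro b hb
      obtain ⟨⟨P0, Q0⟩, hmem, rfl⟩ := Finset.mem_image.mp hb
      have hne0 : P0 ≠ Q0 := (hDmem _).mp hmem
      have heq : D.filter (fun a => f a = f (P0, Q0)) =
          (T ((P0 : Subgroup G) ⊓ Q0)).offDiag := by
        ext ⟨P, Q⟩
        rw [Finset.mem_filter, hDmem, Finset.mem_offDiag, hTmem, hTmem]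
        constructor
        · rintro ⟨hne, heq⟩
          have heq' : (P : Subgroup G) ⊓ Q = (P0 : Subgroup G) ⊓ Q0 := heq
          refine ⟨?_, ?_, hne⟩
          · rw [← heq']; exact inf_le_left
          · rw [← heq']; exact inf_le_right
        · rintro ⟨h1, h2, hne⟩
          refine ⟨hne, ?_⟩
          change (P : Subgroup G) ⊓ Q = (P0 : Subgroup G) ⊓ Q0
          symm
          apply Subgroup.eq_of_le_of_card_ge (le_inf h1 h2)
          exact (hinfcard P Q hne P0 Q0 hne0).le
      rw [heq, Finset.offDiag_card, hT8 P0 Q0 hne0]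
    rw [Finset.sum_congr rfl hterm, Finset.sum_const, smul_eq_mul, hD] at hfib
    omega

end Cfsg.Agent.H70.N15
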