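import Mathlib
import Cfsg.Agent.H70.N15a

set_option autoImplicit false

namespace Cfsg.Agent.H70.N15

theorem main_lemma {Y Ω : Type*} [Group Y] [Finite Y] [MulAction Y Ω] [Finite Ω]
    (hΩ : Nat.card Ω = 15)
    (hfaith : ∀ y : Y, (∀ ω : Ω, y • ω = ω) → y = 1)
    (htrans : ∀ a b : Ω, ∃ y : Y, y • a = b)
    (h49 : ¬ 49 ∣ Nat.card Y)
    (U : Subgroup Y) (hU : Nat.card U = 7) (ω0 : Ω)
    (hfix : ∀ u ∈ U, u • ω0 = ω0)
    (hsemi : ∀ u ∈ U, u ≠ 1 → ∀ ω : Ω, u • ω = ω → ω = ω0)
    (hnorm : ∀ y : Y, y • ω0 = ω0 → ∀ u ∈ U, y * u * y⁻¹ ∈ U) : False := by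
  classical
  have hp7 : Fact (Nat.Prime 7) := ⟨by norm_num⟩
  have hUne : ∃ u ∈ U, u ≠ 1 := by
    have h1 : 1 < Nat.card U := by rw [hU]; norm_num
    rw [Subgroup.one_lt_card_iff_ne_bot, Subgroup.ne_bot_iff_exists_ne_one] at h1
    obtain ⟨a, ha⟩ := h1
    exact ⟨a, a.2, fun h => ha (Subtype.ext h)⟩
  have hstab : MulAction.stabilizer Y ω0 = Subgroup.normalizer (U : Set Y) := by
    ext y
    rw [MulAction.mem_stabilizer_iff, Subgroup.mem_normalizer_iff]
    constructor
    · intro hy u
      constructor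
      · exact hnorm y hy u
      · intro hu
        have hy' : y⁻¹ • ω0 = ω0 := by
          rw [inv_smul_eq_iff, hy]
        have h1 := hnorm y⁻¹ hy' _ hu
        have e : y⁻¹ * (y * u * y⁻¹) * y⁻¹⁻¹ = u := by group
        rwa [e] at h1
    · intro hy
      obtain ⟨u, hu, hu1⟩ := hUne
      have hu' : y * u * y⁻¹ ∈ U := (hy u).mp hu
      have hu1' : y * u * y⁻¹ ≠ 1 := by
        intro h
        apply hu1
        have e : u = y⁻¹ * (y * u * y⁻¹) * y := by group
        rw [e, h]; group
      apply hsemi _ hu' hu1'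
      rw [mul_smul, mul_smul, inv_smul_smul, hfix u hu]
  have hidx : (Subgroup.normalizer (U : Set Y)).index = 15 := by
    rw [← hstab, MulAction.index_stabilizer, ← hΩ, ← Set.ncard_univ]
    congr 1
    apply Set.eq_univ_of_forall
    intro b
    obtain ⟨y, hy⟩ := htrans ω0 b
    exact ⟨y, hy⟩
  obtain ⟨PU, hPU⟩ := exists_sylow_eq (p := 7) U 1 (by rw [hU]; norm_num)
    (by norm_num; exact h49)
  have hPUidx : (Subgroup.normalizer ((PU : Subgroup Y) : Set Y)).index = 15 := by
    rw [hPU]; exact hidx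
  have hcyc : IsCyclic ↥U := isCyclic_of_prime_card hU
  have hUC : U ≤ Subgroup.centralizer (U : Set Y) :=
    Subgroup.le_centralizer_iff_isMulCommutative.mpr IsCyclic.isMulCommutative
  have hUcomm : ∀ u ∈ U, ∀ v ∈ U, u * v = v * u := fun u hu v hv =>
    Subgroup.mem_centralizer_iff.mp (hUC hv) u hu
  have hCN : Subgroup.centralizer (U : Set Y) ≤ Subgroup.normalizer (U : Set Y) :=
    Subgroup.centralizer_le_normalizer _
  have hCfix : ∀ c ∈ Subgroup.centralizer (U : Set Y), c • ω0 = ω0 := by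
    intro c hc
    have h1 := hCN hc
    rw [← hstab, MulAction.mem_stabilizer_iff] at h1
    exact h1
  have hCcomm : ∀ c ∈ Subgroup.centralizer (U : Set Y), ∀ u ∈ U, c * u = u * c :=
    fun c hc u hu => (Subgroup.mem_centralizer_iff.mp hc u hu).symm
  have hu7 : ∀ u ∈ U, u ^ 7 = 1 := by
    intro u hu
    have h1 := pow_card_eq_one' (x := (⟨u, hu⟩ : ↥U))
    rw [hU] at h1
    have h2 := congrArg Subtype.val h1
    simpa using h2
  have hfree : ∀ u ∈ U, ∀ ω : Ω, ω ≠ ω0 → u • ω = ω → u = 1 := by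
    intro u hu ω hω h
    by_contra h1
    exact hω (hsemi u hu h1 ω h)
  have horb_inj : ∀ ω : Ω, ω ≠ ω0 → ∀ u ∈ U, ∀ v ∈ U, u • ω = v • ω → u = v := by
    intro ω hω u hu v hv h
    have h1 : (v⁻¹ * u) • ω = ω := by rw [mul_smul, h, inv_smul_smul]
    have h2 := hfree _ (U.mul_mem (U.inv_mem hv) hu) ω hω h1
    rw [inv_mul_eq_one] at h2
    exact h2.symm
  have hpowfix : ∀ (d : Y) (a : Ω), d • a = a → d ^ 7 • a = a := by
    intro d a h
    have h1 := (MulAction.stabilizer Y a).pow_mem (MulAction.mem_stabilizer_iff.mpr h) 7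
    exact MulAction.mem_stabilizer_iff.mp h1
  have hB1 : ∀ c ∈ Subgroup.centralizer (U : Set Y), ∀ ω1 : Ω, ω1 ≠ ω0 → c • ω1 = ω1 →
      c = 1 := by
    intro c hc ω1 hω1 hcω1
    by_contra hc1
    have hex : ∃ ω2 : Ω, c • ω2 ≠ ω2 := by
      by_contra hno
      push Not at hno
      exact hc1 (hfaith c hno)
    obtain ⟨ω2, hω2⟩ := hex
    have hω20 : ω2 ≠ ω0 := by
      rintro rfl
      exact hω2 (hCfix c hc)
    have hcfix1 : ∀ u ∈ U, c • (u • ω1) = u • ω1 := by
      intro u hu
      rw [← mul_smul, hCcomm c hc u hu, mul_smul, hcω1]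
    have hcfix2 : ∀ u ∈ U, c • (u • ω2) ≠ u • ω2 := by
      intro u hu h
      rw [← mul_smul, hCcomm c hc u hu, mul_smul] at h
      exact hω2 (smul_left_cancel u h)
    let f : Unit ⊕ (↥U ⊕ ↥U) → Ω := fun x =>
      match x with
      | Sum.inl _ => ω0
      | Sum.inr (Sum.inl u) => (u : Y) • ω1
      | Sum.inr (Sum.inr u) => (u : Y) • ω2
    have hfinj : Function.Injective f := by
      intro x y hxy
      rcases x with _ | u | u <;> rcases y with _ | v | v
      · rfl
      · exfalso
        have h : ω0 = (v : Y) • ω1 := hxy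
        have h2 : (v : Y)⁻¹ • ω0 = ω1 := by rw [h, inv_smul_smul]
        rw [hfix _ (U.inv_mem v.2)] at h2
        exact hω1 h2.symm
      · exfalso
        have h : ω0 = (v : Y) • ω2 := hxy
        have h2 : (v : Y)⁻¹ • ω0 = ω2 := by rw [h, inv_smul_smul]
        rw [hfix _ (U.inv_mem v.2)] at h2
        exact hω20 h2.symm
      · exfalso
        have h : (u : Y) • ω1 = ω0 := hxy
        have h2 : (u : Y)⁻¹ • ω0 = ω1 := by rw [← h, inv_smul_smul]
        rw [hfix _ (U.inv_mem u.2)] at h2
        exact hω1 h2.symm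
      · have h : (u : Y) • ω1 = (v : Y) • ω1 := hxy
        have h2 := horb_inj ω1 hω1 u u.2 v v.2 h
        rw [Subtype.ext h2]
      · exfalso
        have h : (u : Y) • ω1 = (v : Y) • ω2 := hxy
        apply hcfix2 v v.2
        rw [← h]; exact hcfix1 u u.2
      · exfalso
        have h : (u : Y) • ω2 = ω0 := hxy
        have h2 : (u : Y)⁻¹ • ω0 = ω2 := by rw [← h, inv_smul_smul]
        rw [hfix _ (U.inv_mem u.2)] at h2
        exact hω20 h2.symm
      · exfalso
        have h : (u : Y) • ω2 = (v : Y) • ω1 := hxy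
        apply hcfix2 u u.2
        rw [h]; exact hcfix1 v v.2
      · have h : (u : Y) • ω2 = (v : Y) • ω2 := hxy
        have h2 := horb_inj ω2 hω20 u u.2 v v.2 h
        rw [Subtype.ext h2]
    have hfsurj : Function.Surjective f := by
      have hcard : Nat.card Ω ≤ Nat.card (Unit ⊕ (↥U ⊕ ↥U)) := by
        rw [Nat.card_sum, Nat.card_sum, hU, hΩ, Nat.card_unique]
      exact (hfinj.bijective_of_nat_card_le hcard).2
    obtain ⟨x, hx⟩ := hfsurj (c • ω2)
    have hex2 : ∃ u ∈ U, c • ω2 = u • ω2 := by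
      rcases x with _ | u | u
      · exfalso
        have h : ω0 = c • ω2 := hx
        have h2 : c⁻¹ • ω0 = ω2 := by rw [h, inv_smul_smul]
        have h' : c⁻¹ • ω0 = ω0 := by rw [inv_smul_eq_iff, hCfix c hc]
        rw [h'] at h2
        exact hω20 h2.symm
      · exfalso
        have h : (u : Y) • ω1 = c • ω2 := hx
        have h2 := hcfix1 u u.2
        rw [h] at h2
        exact hω2 (smul_left_cancel c h2)
      · exact ⟨u, u.2, hx.symm⟩
    obtain ⟨u, hu, hcu⟩ := hex2
    have hc7 : c ^ 7 = 1 := by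
      apply hfaith
      intro ω
      obtain ⟨x, rfl⟩ := hfsurj ω
      rcases x with _ | v | v
      · exact hpowfix c ω0 (hCfix c hc)
      · exact hpowfix c _ (hcfix1 v v.2)
      · have e1 : c • ((v : Y) • ω2) = u • ((v : Y) • ω2) := by
          calc c • ((v : Y) • ω2) = (c * v) • ω2 := (mul_smul _ _ _).symm
            _ = ((v : Y) * c) • ω2 := by rw [hCcomm c hc v v.2]
            _ = (v : Y) • (c • ω2) := mul_smul _ _ _
            _ = (v : Y) • (u • ω2) := by rw [hcu]
            _ = ((v : Y) * u) • ω2 := (mul_smul _ _ _).symm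
            _ = (u * (v : Y)) • ω2 := by rw [hUcomm v v.2 u hu]
            _ = u • ((v : Y) • ω2) := mul_smul _ _ _
        have hd : (u⁻¹ * c) • ((v : Y) • ω2) = (v : Y) • ω2 := by
          rw [mul_smul, e1, inv_smul_smul]
        have hd7 := hpowfix _ _ hd
        have hcomm : Commute u⁻¹ c := (hCcomm c hc u⁻¹ (U.inv_mem hu)).symm
        rw [hcomm.mul_pow, inv_pow, hu7 u hu, inv_one, one_mul] at hd7
        exact hd7
    have hzp : IsPGroup 7 ↥(Subgroup.zpowers c) := by
      intro g
      refine ⟨1, ?_⟩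
      obtain ⟨g, hg⟩ := g
      obtain ⟨i, rfl⟩ := Subgroup.mem_zpowers_iff.mp hg
      apply Subtype.ext
      simp only [pow_one, Subgroup.coe_pow, Subgroup.coe_one]
      rw [← zpow_natCast, ← zpow_mul, mul_comm, zpow_mul, zpow_natCast, hc7, one_zpow]
    have hzle : Subgroup.zpowers c ≤ Subgroup.normalizer ((PU : Subgroup Y) : Set Y) := by
      rw [Subgroup.zpowers_le, hPU]; exact hCN hc
    have hcU : c ∈ U := by
      have h1 : PU ∈ MulAction.fixedPoints ↥(Subgroup.zpowers c) (Sylow 7 Y) :=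
        (Subgroup.sylow_mem_fixedPoints_iff _).mpr hzle
      have h2 := hzp.sylow_mem_fixedPoints_iff.mp h1
      rw [hPU] at h2
      exact h2 (Subgroup.mem_zpowers c)
    exact hω1 (hsemi c hcU hc1 ω1 hcω1)
  have hnt : Nontrivial Ω := by
    rw [← Finite.one_lt_card_iff_nontrivial, hΩ]; norm_num
  obtain ⟨ω1, hω1⟩ := exists_ne ω0
  have hCle : Nat.card (Subgroup.centralizer (U : Set Y)) ≤ 14 := by
    let g : Unit ⊕ ↥(Subgroup.centralizer (U : Set Y)) → Ω := fun x =>
      match x with
      | Sum.inl _ => ω0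
      | Sum.inr c => (c : Y) • ω1
    have hg : Function.Injective g := by
      intro x y hxy
      rcases x with _ | c <;> rcases y with _ | d
      · rfl
      · exfalso
        have h : ω0 = (d : Y) • ω1 := hxy
        have h2 : (d : Y)⁻¹ • ω0 = ω1 := by rw [h, inv_smul_smul]
        rw [hCfix _ (Subgroup.inv_mem _ d.2)] at h2
        exact hω1 h2.symm
      · exfalso
        have h : (c : Y) • ω1 = ω0 := hxy
        have h2 : (c : Y)⁻¹ • ω0 = ω1 := by rw [← h, inv_smul_smul]
        rw [hCfix _ (Subgroup.inv_mem _ c.2)] at h2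
        exact hω1 h2.symm
      · have h : (c : Y) • ω1 = (d : Y) • ω1 := hxy
        have h1 : ((d : Y)⁻¹ * c) • ω1 = ω1 := by rw [mul_smul, h, inv_smul_smul]
        have h2 := hB1 _ (Subgroup.mul_mem _ (Subgroup.inv_mem _ d.2) c.2) ω1 hω1 h1
        rw [inv_mul_eq_one] at h2
        rw [Subtype.ext h2.symm]
    have h3 := Nat.card_le_card_of_injective g hg
    rw [Nat.card_sum, Nat.card_unique, hΩ] at h3
    omega
  have hCdvd : 7 ∣ Nat.card (Subgroup.centralizer (U : Set Y)) := by
    rw [← hU]; exact Subgroup.card_dvd_of_le hUC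
  have hCpos : 0 < Nat.card (Subgroup.centralizer (U : Set Y)) := Nat.card_pos
  have hC : Nat.card (Subgroup.centralizer (U : Set Y)) = 7 ∨
      Nat.card (Subgroup.centralizer (U : Set Y)) = 14 := by
    obtain ⟨k, hk⟩ := hCdvd
    omega
  have hr6 : (Subgroup.centralizer (U : Set Y)).relIndex (Subgroup.normalizer (U : Set Y)) ∣ 6 := by
    have h1 : (Subgroup.normalizerMonoidHom U).ker.index =
        Nat.card (Subgroup.normalizerMonoidHom U).range := Subgroup.index_ker _
    rw [Subgroup.normalizerMonoidHom_ker] at h1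
    have h2 : Nat.card (Subgroup.normalizerMonoidHom U).range ∣ Nat.card (MulAut ↥U) :=
      Subgroup.card_subgroup_dvd_card _
    rw [IsCyclic.card_mulAut, hU, Nat.totient_prime (by norm_num)] at h2
    change ((Subgroup.centralizer (U : Set Y)).subgroupOf
      (Subgroup.normalizer (U : Set Y))).index ∣ 6
    rw [h1]; exact h2
  have hcN : Nat.card (Subgroup.normalizer (U : Set Y)) =
      (Subgroup.centralizer (U : Set Y)).relIndex (Subgroup.normalizer (U : Set Y)) *
        Nat.card (Subgroup.centralizer (U : Set Y)) := card_eq_relIndex_mul hCN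
  have hcY : Nat.card (Subgroup.normalizer (U : Set Y)) * 15 = Nat.card Y := by
    rw [← hidx]; exact Subgroup.card_mul_index _
  rcases hC with hC7 | hC14
  · apply small PU hPUidx _ hr6
    rw [← hcY, hcN, hC7]; ring
  · have hp2 : Fact (Nat.Prime 2) := ⟨Nat.prime_two⟩
    obtain ⟨x, hx⟩ := exists_prime_orderOf_dvd_card'
      (G := ↥(Subgroup.centralizer (U : Set Y))) 2 (by rw [hC14]; norm_num)
    have ht : orderOf (x : Y) = 2 := by rw [Subgroup.orderOf_coe, hx]
    have ht1 : (x : Y) ≠ 1 := by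
      intro h; rw [h, orderOf_one] at ht; omega
    have ht2 : (x : Y) ^ 2 = 1 := by rw [← ht]; exact pow_orderOf_eq_one _
    letI : Fintype Ω := Fintype.ofFinite Ω
    have hsup : ∀ ω : Ω, (x : Y) • ω = ω ↔ ω = ω0 := by
      intro ω
      constructor
      · intro h
        by_contra hne
        exact ht1 (hB1 _ x.2 ω hne h)
      · rintro rfl; exact hCfix _ x.2
    have hτ2 : orderOf (MulAction.toPermHom Y Ω (x : Y)) = 2 := by
      apply orderOf_eq_prime
      · rw [← map_pow, ht2, map_one]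
      · intro h
        have h1 : (MulAction.toPermHom Y Ω (x : Y)) ω1 = (1 : Equiv.Perm Ω) ω1 := by rw [h]
        rw [MulAction.toPermHom_apply, MulAction.toPerm_apply, Equiv.Perm.one_apply, hsup] at h1
        exact hω1 h1
    have hsupp : (MulAction.toPermHom Y Ω (x : Y)).support.card = 2 * 7 := by
      have h1 : (MulAction.toPermHom Y Ω (x : Y)).support = Finset.univ.erase ω0 := by
        ext ω
        rw [Equiv.Perm.mem_support, MulAction.toPermHom_apply, MulAction.toPerm_apply,
          Finset.mem_erase, Ne, hsup]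
        simp
      rw [h1, Finset.card_erase_of_mem (Finset.mem_univ _), Finset.card_univ,
        ← Nat.card_eq_fintype_card, hΩ]
    have hsign := sign_inv _ hτ2 7 ⟨3, by norm_num⟩ hsupp
    have hL := index_two_of_hom (Equiv.Perm.sign.comp (MulAction.toPermHom Y Ω)) (x : Y) hsign
    obtain ⟨P', hP'⟩ := idx2 _ hL PU hPUidx
    apply small P' hP' _ hr6
    have h1 := Subgroup.card_mul_index (Equiv.Perm.sign.comp (MulAction.toPermHom Y Ω)).ker
    rw [hL, ← hcY, hcN, hC14] at h1
    omega

end Cfsg.Agent.H70.N15
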