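import Mathlib

set_option autoImplicit false
open scoped Pointwise

namespace Cfsg.Agent.H70

/-- membership in a conjugate subgroup -/
theorem mem_conj_smul_iff {G : Type*} [Group G] (g x : G) (H : Subgroup G) :
    x ∈ MulAut.conj g • H ↔ g⁻¹ * x * g ∈ H := by
  rw [Subgroup.mem_pointwise_smul_iff_inv_smul_mem]
  simp [MulAut.smul_def]

/-- A TI Sylow subgroup: distinct Sylow subgroups meet trivially. -/
theorem ti_pairs {G : Type*} [Group G] [Finite G] (p : ℕ) [Fact p.Prime] (P : Sylow p G)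
    (hTI : ∀ g : G, g ∉ Subgroup.normalizer ((P : Subgroup G) : Set G) →
      (P : Subgroup G) ⊓ (MulAut.conj g • (P : Subgroup G)) = ⊥)
    (P1 P2 : Sylow p G) (hne : P1 ≠ P2) : (P1 : Subgroup G) ⊓ (P2 : Subgroup G) = ⊥ := by
  obtain ⟨a, rfl⟩ := MulAction.exists_smul_eq G P P1
  obtain ⟨b, rfl⟩ := MulAction.exists_smul_eq G P P2
  rw [eq_bot_iff]
  intro x hx
  rw [Subgroup.mem_inf, Sylow.coe_subgroup_smul, Sylow.coe_subgroup_smul,
    mem_conj_smul_iff, mem_conj_smul_iff] at hx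
  have hg : a⁻¹ * b ∉ Subgroup.normalizer ((P : Subgroup G) : Set G) := by
    intro hmem
    apply hne
    have h1 : (a⁻¹ * b) • P = P := Sylow.smul_eq_iff_mem_normalizer.2 hmem
    calc a • P = a • ((a⁻¹ * b) • P) := by rw [h1]
      _ = b • P := by rw [← mul_smul, mul_inv_cancel_left]
  have h2 := hTI _ hg
  have h3 : a⁻¹ * x * a ∈ (P : Subgroup G) ⊓ (MulAut.conj (a⁻¹ * b) • (P : Subgroup G)) := by
    refine Subgroup.mem_inf.2 ⟨hx.1, ?_⟩
    rw [mem_conj_smul_iff]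
    have : (a⁻¹ * b)⁻¹ * (a⁻¹ * x * a) * (a⁻¹ * b) = b⁻¹ * x * b := by group
    rw [this]; exact hx.2
  rw [h2, Subgroup.mem_bot] at h3
  rw [Subgroup.mem_bot]
  have : x = a * (a⁻¹ * x * a) * a⁻¹ := by group
  rw [this, h3]; group

end Cfsg.Agent.H70
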