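import Mathlib
import Cfsg.Agent.H70.N15a
import Cfsg.Agent.H70.N15b
import Cfsg.Agent.H70.TI
import Cfsg.Agent.S4024

set_option autoImplicit false
open scoped Pointwise
open Classical

noncomputable section

namespace Cfsg.Agent.H70.N22

section generic

variable {Y Ω : Type*} [Group Y] [MulAction Y Ω]

/-- orbit divisibility lemma -/
theorem odl (H : Subgroup Y) [Finite H] (n : ℕ) :
    ∀ (A : Finset Ω), (∀ h ∈ H, ∀ a ∈ A, h • a ∈ A) →
    (∀ a ∈ A, n ∣ (MulAction.stabilizer ↥H a).index) → n ∣ A.card := by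
  intro A
  induction' hk : A.card using Nat.strong_induction_on with k ih generalizing A
  intro hinv hdiv
  rcases A.eq_empty_or_nonempty with rfl | ⟨a, ha⟩
  · rw [← hk]; simp
  · let O : Finset Ω := A.filter (fun b => b ∈ MulAction.orbit ↥H a)
    have hO : (O : Set Ω) = MulAction.orbit ↥H a := by
      ext b
      simp only [O, Finset.coe_filter, Set.mem_ofPred_eq]
      constructor
      · exact fun h => h.2
      · intro hb
        refine ⟨?_, hb⟩
        obtain ⟨h, rfl⟩ := hb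
        exact hinv h h.2 a ha
    have hOcard : O.card = (MulAction.stabilizer ↥H a).index := by
      rw [MulAction.index_stabilizer, ← hO, Set.ncard_coe_finset]
    have hOsub : O ⊆ A := Finset.filter_subset _ _
    have hsplit := Finset.card_sdiff_add_card_eq_card hOsub
    have haO : a ∈ O := by
      simp only [O, Finset.mem_filter]
      exact ⟨ha, MulAction.mem_orbit_self a⟩
    have hlt : (A \ O).card < A.card := by
      have : 0 < O.card := Finset.card_pos.mpr ⟨a, haO⟩
      omega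
    have hinv' : ∀ h ∈ H, ∀ b ∈ A \ O, h • b ∈ A \ O := by
      intro h hh b hb
      rw [Finset.mem_sdiff] at hb ⊢
      refine ⟨hinv h hh b hb.1, fun hmem => hb.2 ?_⟩
      simp only [O, Finset.mem_filter] at hmem ⊢
      refine ⟨hb.1, ?_⟩
      have h1 : (⟨h, hh⟩ : ↥H)⁻¹ • (h • b) ∈ MulAction.orbit ↥H a :=
        MulAction.mem_orbit_of_mem_orbit _ hmem.2
      have h2 : (⟨h, hh⟩ : ↥H)⁻¹ • (h • b) = b := by
        change (h⁻¹ : Y) • (h • b) = b
        rw [inv_smul_smul]
      rwa [h2] at h1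
    have hdiv' : ∀ b ∈ A \ O, n ∣ (MulAction.stabilizer ↥H b).index :=
      fun b hb => hdiv b (Finset.mem_sdiff.mp hb).1
    have h1 := ih (A \ O).card (by rw [← hk]; exact hlt) (A \ O) rfl hinv' hdiv'
    rw [← hk, ← hsplit, hOcard]
    exact dvd_add h1 (hdiv a ha)

theorem stab_index_pgroup {p : ℕ} [Fact p.Prime] (H : Subgroup Y) [Finite H]
    (hH : IsPGroup p H) (a : Ω) (hne : ∃ h ∈ H, h • a ≠ a) :
    p ∣ (MulAction.stabilizer ↥H a).index := by
  obtain ⟨k, hk⟩ := hH.index (MulAction.stabilizer ↥H a)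
  rcases k with _ | k
  · exfalso
    rw [pow_zero, Subgroup.index_eq_one] at hk
    obtain ⟨h, hh, hne⟩ := hne
    have : (⟨h, hh⟩ : ↥H) ∈ MulAction.stabilizer ↥H a := by rw [hk]; trivial
    exact hne (MulAction.mem_stabilizer_iff.mp this)
  · rw [hk, pow_succ]; exact dvd_mul_left _ _

theorem card_modEq_fixH {p : ℕ} [Fact p.Prime] (H : Subgroup Y) [Finite H]
    (hH : IsPGroup p H) (A : Finset Ω) (hinv : ∀ h ∈ H, ∀ a ∈ A, h • a ∈ A) :
    A.card ≡ (A.filter (fun a => ∀ h ∈ H, h • a = a)).card [MOD p] := by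
  have hsplit := Finset.card_filter_add_card_filter_not (s := A)
    (fun a => ∀ h ∈ H, h • a = a)
  have hdvd : p ∣ (A.filter (fun a => ¬ ∀ h ∈ H, h • a = a)).card := by
    apply odl H p
    · intro h hh a ha
      rw [Finset.mem_filter] at ha ⊢
      refine ⟨hinv h hh a ha.1, fun hfix => ha.2 ?_⟩
      intro g hg
      have h1 := hfix (h * g * h⁻¹) (H.mul_mem (H.mul_mem hh hg) (H.inv_mem hh))
      rw [mul_smul, mul_smul, inv_smul_smul] at h1
      exact smul_left_cancel h h1
    · intro a ha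
      rw [Finset.mem_filter] at ha
      apply stab_index_pgroup H hH a
      have := ha.2
      push Not at this
      exact this
  rw [← hsplit]
  obtain ⟨c, hc⟩ := hdvd
  rw [hc]
  exact Nat.add_mul_mod_self_left _ _ _

theorem pow_smul_mem [Finite Y] (g : Y) (A : Finset Ω) (hinv : ∀ a ∈ A, g • a ∈ A) :
    ∀ h ∈ Subgroup.zpowers g, ∀ a ∈ A, h • a ∈ A := by
  intro h hh a ha
  rw [← mem_powers_iff_mem_zpowers] at hh
  obtain ⟨n, hn⟩ := hh
  have key : ∀ n : ℕ, g ^ n • a ∈ A := by
    intro n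
    induction n with
    | zero => simpa using ha
    | succ n ih => rw [pow_succ', mul_smul]; exact hinv _ ih
  rw [← hn]; exact key n

theorem pow_smul_fix [Finite Y] (g : Y) (a : Ω) (hfix : g • a = a) :
    ∀ h ∈ Subgroup.zpowers g, h • a = a := by
  intro h hh
  rw [← mem_powers_iff_mem_zpowers] at hh
  obtain ⟨n, hn⟩ := hh
  have key : ∀ n : ℕ, g ^ n • a = a := by
    intro n
    induction n with
    | zero => simp
    | succ n ih => rw [pow_succ', mul_smul, ih, hfix]
  rw [← hn]; exact key n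

theorem isPGroup_zpowers {p : ℕ} (g : Y) (k : ℕ) (hg : g ^ p ^ k = 1) :
    IsPGroup p (Subgroup.zpowers g) := by
  rintro ⟨y, hy⟩
  obtain ⟨i, rfl⟩ := Subgroup.mem_zpowers_iff.mp hy
  refine ⟨k, Subtype.ext ?_⟩
  change (g ^ i) ^ p ^ k = 1
  rw [← zpow_natCast, ← zpow_mul, mul_comm, zpow_mul, zpow_natCast, hg, one_zpow]

theorem card_modEq_fixElt [Finite Y] {p : ℕ} [Fact p.Prime] (g : Y) (k : ℕ) (hg : g ^ p ^ k = 1)
    (A : Finset Ω) (hinv : ∀ a ∈ A, g • a ∈ A) :
    A.card ≡ (A.filter (fun a => g • a = a)).card [MOD p] := by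
  have h1 := card_modEq_fixH (Subgroup.zpowers g) (isPGroup_zpowers g k hg) A
    (pow_smul_mem g A hinv)
  have h2 : A.filter (fun a => ∀ h ∈ Subgroup.zpowers g, h • a = a) =
      A.filter (fun a => g • a = a) := by
    apply Finset.filter_congr
    intro a _
    exact ⟨fun h => h g (Subgroup.mem_zpowers g), fun h => pow_smul_fix g a h⟩
  rwa [h2] at h1

theorem card_dvd_of_free (H : Subgroup Y) [Finite H] (A : Finset Ω)
    (hinv : ∀ h ∈ H, ∀ a ∈ A, h • a ∈ A)
    (hfree : ∀ h ∈ H, ∀ a ∈ A, h • a = a → h = 1) : Nat.card H ∣ A.card := by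
  apply odl H _ A hinv
  intro a ha
  have : MulAction.stabilizer ↥H a = ⊥ := by
    rw [eq_bot_iff]
    rintro ⟨h, hh⟩ hmem
    rw [Subgroup.mem_bot]
    exact Subtype.ext (hfree h hh a ha (MulAction.mem_stabilizer_iff.mp hmem))
  rw [this, Subgroup.index_bot]

theorem trans_bound [Fintype Ω] (h : Y) (m : ℕ) (A : Finset Ω)
    (hdisj : ∀ k, 0 < k → k < m → ∀ a ∈ A, h ^ k • a ∉ A) :
    m * A.card ≤ Fintype.card Ω := by
  let f : Fin m × {a // a ∈ A} → Ω := fun x => h ^ (x.1 : ℕ) • (x.2 : Ω)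
  have key : ∀ (j k : ℕ) (a b : Ω), a ∈ A → b ∈ A → j ≤ k → k < m →
      h ^ j • a = h ^ k • b → j = k ∧ a = b := by
    intro j k a b ha hb hjk hkm heq
    have h1 : a = h ^ (k - j) • b := by
      have : h ^ k = h ^ j * h ^ (k - j) := by rw [← pow_add]; congr 1; omega
      rw [this, mul_smul] at heq
      exact smul_left_cancel _ heq
    by_cases hlt : j < k
    · exfalso
      exact hdisj (k - j) (by omega) (by omega) b hb (h1 ▸ ha)
    · have hjk' : j = k := by omega
      refine ⟨hjk', ?_⟩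
      rw [h1, hjk']; simp
  have hf : Function.Injective f := by
    rintro ⟨⟨j, hj⟩, ⟨a, ha⟩⟩ ⟨⟨k, hk⟩, ⟨b, hb⟩⟩ heq
    simp only [f] at heq
    rcases le_total j k with hjk | hjk
    · obtain ⟨h1, h2⟩ := key j k a b ha hb hjk hk heq
      subst h1; subst h2; rfl
    · obtain ⟨h1, h2⟩ := key k j b a hb ha hjk hj heq.symm
      subst h1; subst h2; rfl
  have := Fintype.card_le_of_injective f hf
  simpa using this

theorem sign_of_fix [Fintype Ω] (t : Y) (ht : t ^ 2 = 1) (k : ℕ) (hk : Odd k)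
    (hfix : (Finset.univ.filter (fun a : Ω => t • a = a)).card + 2 * k = Fintype.card Ω) :
    Equiv.Perm.sign (MulAction.toPermHom Y Ω t) = -1 := by
  have hsupp : (MulAction.toPermHom Y Ω t).support.card = 2 * k := by
    have h1 : (MulAction.toPermHom Y Ω t).support =
        Finset.univ.filter (fun a : Ω => ¬ t • a = a) := by
      ext a
      simp [Equiv.Perm.mem_support, MulAction.toPermHom_apply, MulAction.toPerm_apply]
    have h2 := Finset.card_filter_add_card_filter_not (s := (Finset.univ : Finset Ω))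
      (fun a : Ω => t • a = a)
    rw [h1]
    rw [Finset.card_univ] at h2
    omega
  have hk0 : 0 < k := hk.pos
  have hτ2 : orderOf (MulAction.toPermHom Y Ω t) = 2 := by
    apply orderOf_eq_prime
    · rw [← map_pow, ht, map_one]
    · intro h
      rw [h, Equiv.Perm.support_one, Finset.card_empty] at hsupp
      omega
  exact Cfsg.Agent.H70.N15.sign_inv _ hτ2 k hk hsupp

theorem commute_of_normalizes [Finite Y] {x y : Y} (p : ℕ) [Fact p.Prime] (hx : orderOf x = p)
    (hy : y * x * y⁻¹ ∈ Subgroup.zpowers x) (hcop : Nat.Coprime (orderOf y) (p - 1)) :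
    y * x = x * y := by
  have hp : p.Prime := Fact.out
  have hbase : ∀ v ∈ Subgroup.zpowers x, y * v * y⁻¹ ∈ Subgroup.zpowers x := by
    intro v hv
    obtain ⟨i, rfl⟩ := Subgroup.mem_zpowers_iff.mp hv
    rw [← conj_zpow]
    exact Subgroup.zpow_mem _ hy i
  have hpow : ∀ n : ℕ, ∀ v ∈ Subgroup.zpowers x, y ^ n * v * (y ^ n)⁻¹ ∈ Subgroup.zpowers x := by
    intro n
    induction n with
    | zero => intro v hv; simpa using hv
    | succ n ih =>
      intro v hv
      have h1 := hbase _ (ih v hv)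
      have h2 : y ^ (n + 1) * v * (y ^ (n + 1))⁻¹ = y * (y ^ n * v * (y ^ n)⁻¹) * y⁻¹ := by
        rw [pow_succ']; group
      rw [h2]; exact h1
  have hN : Subgroup.zpowers y ≤ Subgroup.normalizer ((Subgroup.zpowers x : Subgroup Y) : Set Y) := by
    apply Cfsg.Agent.S4024.le_normalizer_of_conj
    intro h hh v hv
    rw [← mem_powers_iff_mem_zpowers] at hh
    obtain ⟨n, hn⟩ := hh
    rw [← hn]; exact hpow n v hv
  have hyN : y ∈ Subgroup.normalizer ((Subgroup.zpowers x : Subgroup Y) : Set Y) :=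
    hN (Subgroup.mem_zpowers y)
  have hU : Nat.card (Subgroup.zpowers x) = p := by rw [Nat.card_zpowers, hx]
  have hcyc : IsCyclic ↥(Subgroup.zpowers x) := isCyclic_of_prime_card hU
  set φ := Subgroup.normalizerMonoidHom (Subgroup.zpowers x) with hφ
  have h1 : orderOf (φ ⟨y, hyN⟩) ∣ orderOf y := by
    have := orderOf_map_dvd φ (⟨y, hyN⟩ : ↥(Subgroup.normalizer ((Subgroup.zpowers x : Subgroup Y) : Set Y)))
    rwa [Subgroup.orderOf_mk] at this
  have h2 : orderOf (φ ⟨y, hyN⟩) ∣ p - 1 := by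
    have := orderOf_dvd_natCard (φ ⟨y, hyN⟩)
    rwa [IsCyclic.card_mulAut, hU, Nat.totient_prime hp] at this
  have h3 : orderOf (φ ⟨y, hyN⟩) = 1 := Nat.eq_one_of_dvd_coprimes hcop h1 h2
  rw [orderOf_eq_one_iff] at h3
  have h4 : (⟨y, hyN⟩ : ↥(Subgroup.normalizer ((Subgroup.zpowers x : Subgroup Y) : Set Y))) ∈ φ.ker := h3
  rw [hφ, Subgroup.normalizerMonoidHom_ker, Subgroup.mem_subgroupOf] at h4
  exact (Subgroup.mem_centralizer_iff.mp h4 x (Subgroup.mem_zpowers x)).symm

end generic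

section sylow

variable {p : ℕ} {G : Type*} [Group G]

theorem stab_index_sylow (P Q : Sylow p G) :
    (MulAction.stabilizer ↥(P : Subgroup G) Q).index = ((P : Subgroup G) ⊓ Q).relIndex P := by
  have hstab : MulAction.stabilizer ↥(P : Subgroup G) Q =
      (Subgroup.normalizer ((Q : Subgroup G) : Set G)).subgroupOf P := by
    ext g
    rw [MulAction.mem_stabilizer_iff, Subgroup.mem_subgroupOf, ← Cfsg.Agent.H70.N15.smul_eq_iff]
    rfl
  have e : Subgroup.normalizer ((Q : Subgroup G) : Set G) ⊓ (P : Subgroup G) =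
      (P : Subgroup G) ⊓ Q :=
    le_antisymm (le_inf inf_le_right (by rw [inf_comm]; exact Cfsg.Agent.H70.N15.inf_normalizer_le P Q))
      (le_inf (inf_le_right.trans Subgroup.le_normalizer) inf_le_left)
  rw [hstab, ← e, Subgroup.inf_relIndex_right]
  rfl

theorem fixH_iff (X : Subgroup G) (hX : IsPGroup p X) (Q : Sylow p G) :
    (∀ h ∈ X, h • Q = Q) ↔ X ≤ Q := by
  rw [← hX.sylow_mem_fixedPoints_iff, MulAction.mem_fixedPoints]
  exact ⟨fun h x => h x x.2, fun h x hx => h ⟨x, hx⟩⟩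

theorem mem_smul_sylow (g x : G) (P : Sylow p G) :
    x ∈ ((g • P : Sylow p G) : Subgroup G) ↔ g⁻¹ * x * g ∈ (P : Subgroup G) := by
  rw [Sylow.coe_subgroup_smul, Cfsg.Agent.H70.mem_conj_smul_iff]

theorem card_conj_smul (g : G) (H : Subgroup G) :
    Nat.card ↥(MulAut.conj g • H) = Nat.card H := by
  rw [Subgroup.pointwise_smul_def]
  exact Subgroup.card_map_of_injective (MulAut.conj g).injective

theorem card_smul_inf (g : G) (P Q : Sylow p G) :
    Nat.card ↥(((g • P : Sylow p G) : Subgroup G) ⊓ ((g • Q : Sylow p G) : Subgroup G)) =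
      Nat.card ↥((P : Subgroup G) ⊓ (Q : Subgroup G)) := by
  rw [Sylow.coe_subgroup_smul, Sylow.coe_subgroup_smul, ← Subgroup.smul_inf, card_conj_smul]

theorem card_smul_sylow (g : G) (P : Sylow p G) :
    Nat.card ↥((g • P : Sylow p G) : Subgroup G) = Nat.card (P : Subgroup G) := by
  rw [Sylow.coe_subgroup_smul, card_conj_smul]

theorem smul_self_of_mem (P : Sylow p G) (g : G) (hg : g ∈ (P : Subgroup G)) : g • P = P := by
  rw [Cfsg.Agent.H70.N15.smul_eq_iff]
  exact Subgroup.le_normalizer hg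

end sylow

end Cfsg.Agent.H70.N22
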