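import Mathlib
import Cfsg.Agent.H70.N22a

set_option autoImplicit false
open scoped Pointwise
open Classical

noncomputable section

namespace Cfsg.Agent.H70.N22

open Cfsg.Agent.H70.N15 (sylow_eq_of_le card_eq_relIndex_mul)

section part1

variable {G : Type*} [Group G] [Finite G]

local instance instFintypeSylowThree {G : Type*} [Group G] [Finite G] : Fintype (Sylow 3 G) :=
  Fintype.ofFinite _

local instance factThree : Fact (Nat.Prime 3) := ⟨by norm_num⟩

/-- adjacency: `|P : P ∩ Q| = 3` -/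
def Adj (P Q : Sylow 3 G) : Prop :=
  Nat.card (P : Subgroup G) = 3 * Nat.card ↥((P : Subgroup G) ⊓ (Q : Subgroup G))

theorem hsame (P Q : Sylow 3 G) : Nat.card (P : Subgroup G) = Nat.card (Q : Subgroup G) := by
  rw [Sylow.card_eq_multiplicity, Sylow.card_eq_multiplicity]

theorem adj_symm {P Q : Sylow 3 G} (h : Adj P Q) : Adj Q P := by
  unfold Adj at h ⊢
  rw [inf_comm, ← h, hsame]

theorem adj_ne {P Q : Sylow 3 G} (h : Adj P Q) : P ≠ Q := by
  rintro rfl
  unfold Adj at h
  rw [inf_idem] at h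
  have : 0 < Nat.card (P : Subgroup G) := Nat.card_pos
  omega

theorem adj_smul (g : G) (P Q : Sylow 3 G) : Adj (g • P) (g • Q) ↔ Adj P Q := by
  unfold Adj
  rw [card_smul_sylow, card_smul_inf]

theorem inf_eq_of_adj {P Q : Sylow 3 G} (h : Adj P Q) (R1 R2 : Sylow 3 G)
    (h1 : (P : Subgroup G) ⊓ Q ≤ R1) (h2 : (P : Subgroup G) ⊓ Q ≤ R2) (hne : R1 ≠ R2) :
    (R1 : Subgroup G) ⊓ R2 = (P : Subgroup G) ⊓ Q := by
  have hD : (P : Subgroup G) ⊓ Q ≤ (R1 : Subgroup G) ⊓ R2 := le_inf h1 h2
  have c1 : Nat.card (R1 : Subgroup G) = 3 * Nat.card ↥((P : Subgroup G) ⊓ (Q : Subgroup G)) := by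
    rw [hsame R1 P]; exact h
  have d1 := Subgroup.card_dvd_of_le hD
  have d2 : Nat.card ↥((R1 : Subgroup G) ⊓ R2) ∣ Nat.card (R1 : Subgroup G) :=
    Subgroup.card_dvd_of_le inf_le_left
  have hpos : 0 < Nat.card ↥((P : Subgroup G) ⊓ (Q : Subgroup G)) := Nat.card_pos
  obtain ⟨j, hj⟩ := d1
  rw [hj, c1, mul_comm 3, Nat.mul_dvd_mul_iff_left hpos] at d2
  have hj3 : j = 1 ∨ j = 3 := (Nat.dvd_prime (by norm_num)).mp d2
  rcases hj3 with rfl | rfl
  · symm
    apply Subgroup.eq_of_le_of_card_ge hD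
    rw [hj, mul_one]
  · exfalso
    have h3 : (R1 : Subgroup G) ⊓ R2 = R1 := by
      apply Subgroup.eq_of_le_of_card_ge inf_le_left
      rw [hj, c1, mul_comm]
    exact hne (sylow_eq_of_le R1 R2 (h3 ▸ inf_le_right))

theorem adj_of_mem_line {P Q : Sylow 3 G} (h : Adj P Q) (R1 R2 : Sylow 3 G)
    (h1 : (P : Subgroup G) ⊓ Q ≤ R1) (h2 : (P : Subgroup G) ⊓ Q ≤ R2) (hne : R1 ≠ R2) :
    Adj R1 R2 := by
  unfold Adj
  rw [inf_eq_of_adj h R1 R2 h1 h2 hne, hsame R1 P]
  exact h

theorem relIndex_of_adj {P Q : Sylow 3 G} (h : Adj P Q) :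
    ((P : Subgroup G) ⊓ Q).relIndex P = 3 := by
  have h1 : Nat.card (P : Subgroup G) = ((P : Subgroup G) ⊓ Q).relIndex P *
      Nat.card ↥((P : Subgroup G) ⊓ (Q : Subgroup G)) := card_eq_relIndex_mul inf_le_left
  unfold Adj at h
  rw [h] at h1
  have hpos : 0 < Nat.card ↥((P : Subgroup G) ⊓ (Q : Subgroup G)) := Nat.card_pos
  exact (Nat.eq_of_mul_eq_mul_right hpos h1).symm

theorem conj_mem_inf {X γ : Sylow 3 G} (hadj : Adj X γ) (d : G) (hd : d ∈ (X : Subgroup G))
    (e : G) (he : e ∈ (X : Subgroup G) ⊓ γ) : d⁻¹ * e * d ∈ (X : Subgroup G) ⊓ γ := by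
  have hidx : (((X : Subgroup G) ⊓ γ).subgroupOf X).index = 3 := relIndex_of_adj hadj
  obtain ⟨n, hn⟩ := IsPGroup.iff_card.mp X.isPGroup'
  have hn0 : n ≠ 0 := by
    rintro rfl
    unfold Adj at hadj
    rw [hn] at hadj
    omega
  have hmin : (Nat.card (X : Subgroup G)).minFac = 3 := by
    rw [hn]; exact Nat.Prime.pow_minFac (by norm_num) hn0
  have hnorm : (((X : Subgroup G) ⊓ γ).subgroupOf X).Normal :=
    Subgroup.normal_of_index_eq_minFac_card (by rw [hidx, hmin])
  have h1 := hnorm.conj_mem (⟨e, he.1⟩ : ↥(X : Subgroup G))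
    (by rw [Subgroup.mem_subgroupOf]; exact he)
    (⟨d⁻¹, (X : Subgroup G).inv_mem hd⟩ : ↥(X : Subgroup G))
  rw [Subgroup.mem_subgroupOf] at h1
  simpa using h1

theorem inf_le_smul {X γ : Sylow 3 G} (hadj : Adj X γ) (d : G) (hd : d ∈ (X : Subgroup G)) :
    (X : Subgroup G) ⊓ γ ≤ ((d • γ : Sylow 3 G) : Subgroup G) := by
  intro e he
  rw [mem_smul_sylow]
  exact (conj_mem_inf hadj d hd e he).2

theorem core {P Q : Sylow 3 G} (hPQ : Adj P Q) (X X' γ : Sylow 3 G)
    (hX : (P : Subgroup G) ⊓ Q ≤ X) (hX' : (P : Subgroup G) ⊓ Q ≤ X') (hne : X ≠ X')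
    (hγ : ¬ ((P : Subgroup G) ⊓ Q ≤ γ)) (h1 : Adj X γ) (h2 : Adj X' γ) : False := by
  have hXX' := inf_eq_of_adj hPQ X X' hX hX' hne
  have hDp : IsPGroup 3 ↥((P : Subgroup G) ⊓ (Q : Subgroup G)) := P.isPGroup'.to_le inf_le_left
  have hex : ∃ d ∈ (P : Subgroup G) ⊓ Q, d • γ ≠ γ := by
    by_contra hno
    push Not at hno
    exact hγ ((fixH_iff _ hDp γ).mp hno)
  obtain ⟨d, hd, hdγ⟩ := hex
  have e1 := inf_eq_of_adj h1 γ (d • γ) inf_le_right (inf_le_smul h1 d (hX hd)) (Ne.symm hdγ)
  have e2 := inf_eq_of_adj h2 γ (d • γ) inf_le_right (inf_le_smul h2 d (hX' hd)) (Ne.symm hdγ)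
  have e3 : (X : Subgroup G) ⊓ γ = (X' : Subgroup G) ⊓ γ := by rw [← e1, e2]
  have hle : (X : Subgroup G) ⊓ γ ≤ (P : Subgroup G) ⊓ Q := by
    rw [← hXX']
    exact le_inf inf_le_left (by rw [e3]; exact inf_le_left)
  have hcard : Nat.card ↥((P : Subgroup G) ⊓ (Q : Subgroup G)) ≤
      Nat.card ↥((X : Subgroup G) ⊓ (γ : Subgroup G)) := by
    unfold Adj at h1 hPQ
    have := hsame X P
    omega
  have heq := Subgroup.eq_of_le_of_card_ge hle hcard
  exact hγ (heq ▸ inf_le_right)

theorem all_adj_case (hall : ∀ P Q : Sylow 3 G, P ≠ Q → Adj P Q) (P Q : Sylow 3 G) (hne : P ≠ Q)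
    (R : Sylow 3 G) : (P : Subgroup G) ⊓ Q ≤ R := by
  by_contra hR
  exact core (hall P Q hne) P Q R inf_le_left inf_le_right hne hR
    (hall P R (fun h => hR (h ▸ inf_le_left))) (hall Q R (fun h => hR (h ▸ inf_le_right)))

theorem card_adj_cases (h22 : Fintype.card (Sylow 3 G) = 22) (P : Sylow 3 G) :
    (Finset.univ.filter (Adj P)).card = 3 ∨ (Finset.univ.filter (Adj P)).card = 12 ∨
      (Finset.univ.filter (Adj P)).card = 21 := by
  have h9 : 9 ∣ (Finset.univ.filter (fun Q : Sylow 3 G => Q ≠ P ∧ ¬ Adj P Q)).card := by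
    apply odl (P : Subgroup G) 9
    · intro h hh Q hQ
      rw [Finset.mem_filter] at hQ ⊢
      refine ⟨Finset.mem_univ _, ?_, ?_⟩
      · intro heq
        apply hQ.2.1
        have : h • Q = h • P := by rw [heq, smul_self_of_mem P h hh]
        exact smul_left_cancel h this
      · intro hadj
        apply hQ.2.2
        rw [← adj_smul h, smul_self_of_mem P h hh]
        exact hadj
    · intro Q hQ
      rw [Finset.mem_filter] at hQ
      rw [stab_index_sylow]
      have h1 : Nat.card (P : Subgroup G) = ((P : Subgroup G) ⊓ Q).relIndex P *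
          Nat.card ↥((P : Subgroup G) ⊓ (Q : Subgroup G)) := card_eq_relIndex_mul inf_le_left
      obtain ⟨n, hn⟩ := IsPGroup.iff_card.mp P.isPGroup'
      have hrdvd : ((P : Subgroup G) ⊓ Q).relIndex P ∣ 3 ^ n := by
        rw [← hn]; exact Subgroup.relIndex_dvd_card _ _
      obtain ⟨j, hj, hrj⟩ := (Nat.dvd_prime_pow (by norm_num)).mp hrdvd
      rcases j with _ | _ | j
      · exfalso
        rw [pow_zero, Subgroup.relIndex_eq_one] at hrj
        exact hQ.2.1 (sylow_eq_of_le P Q (hrj.trans inf_le_right)).symm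
      · exfalso
        apply hQ.2.2
        unfold Adj
        rw [h1, hrj]; norm_num
      · rw [hrj]
        exact ⟨3 ^ j, by ring⟩
  have hsplit := Finset.card_filter_add_card_filter_not (s := (Finset.univ.erase P : Finset (Sylow 3 G)))
    (fun Q => Adj P Q)
  have e1 : (Finset.univ.erase P : Finset (Sylow 3 G)).filter (fun Q => Adj P Q) =
      Finset.univ.filter (Adj P) := by
    ext Q
    simp only [Finset.mem_filter, Finset.mem_erase, Finset.mem_univ, and_true, true_and]
    exact ⟨fun h => h.2, fun h => ⟨(adj_ne h).symm, h⟩⟩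
  have e2 : (Finset.univ.erase P : Finset (Sylow 3 G)).filter (fun Q => ¬ Adj P Q) =
      Finset.univ.filter (fun Q : Sylow 3 G => Q ≠ P ∧ ¬ Adj P Q) := by
    ext Q
    simp only [Finset.mem_filter, Finset.mem_erase, Finset.mem_univ, and_true, true_and]
  rw [e1, e2, Finset.card_erase_of_mem (Finset.mem_univ _), Finset.card_univ, h22] at hsplit
  obtain ⟨c, hc⟩ := h9
  omega

theorem card_adj_const (P Q : Sylow 3 G) :
    (Finset.univ.filter (Adj P)).card = (Finset.univ.filter (Adj Q)).card := by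
  obtain ⟨g, rfl⟩ := MulAction.exists_smul_eq G P Q
  apply Finset.card_bij (fun R _ => g • R)
  · intro R hR
    rw [Finset.mem_filter] at hR ⊢
    exact ⟨Finset.mem_univ _, (adj_smul g P R).mpr hR.2⟩
  · intro R1 _ R2 _ h
    exact smul_left_cancel g h
  · intro R hR
    rw [Finset.mem_filter] at hR
    refine ⟨g⁻¹ • R, ?_, smul_inv_smul g R⟩
    rw [Finset.mem_filter]
    refine ⟨Finset.mem_univ _, ?_⟩
    rw [← adj_smul g, smul_inv_smul]
    exact hR.2

theorem case12 (h22 : Fintype.card (Sylow 3 G) = 22)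
    (h12 : ∀ P : Sylow 3 G, (Finset.univ.filter (Adj P)).card = 12) : False := by
  obtain ⟨P⟩ : Nonempty (Sylow 3 G) := inferInstance
  have hne : (Finset.univ.filter (Adj P)).Nonempty := by
    rw [← Finset.card_pos, h12]; norm_num
  obtain ⟨Q, hQ⟩ := hne
  have hPQ : Adj P Q := (Finset.mem_filter.mp hQ).2
  set L : Finset (Sylow 3 G) :=
    Finset.univ.filter (fun R : Sylow 3 G => (P : Subgroup G) ⊓ Q ≤ R) with hL
  have hLmem : ∀ R : Sylow 3 G, R ∈ L ↔ (P : Subgroup G) ⊓ Q ≤ R := by
    intro R; simp [hL]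
  have hLadj : ∀ X ∈ L, ∀ X' ∈ L, X ≠ X' → Adj X X' := fun X hX X' hX' hne =>
    adj_of_mem_line hPQ X X' ((hLmem X).mp hX) ((hLmem X').mp hX') hne
  have hPL : P ∈ L := (hLmem P).mpr inf_le_left
  have hQL : Q ∈ L := (hLmem Q).mpr inf_le_right
  have hℓ2 : 2 ≤ L.card := by
    have hsub : ({P, Q} : Finset (Sylow 3 G)) ⊆ L := by
      intro R hR
      simp only [Finset.mem_insert, Finset.mem_singleton] at hR
      rcases hR with rfl | rfl
      · exact hPL
      · exact hQL
    have := Finset.card_le_card hsub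
    rwa [Finset.card_pair (adj_ne hPQ)] at this
  -- inside the line
  have hin : ∀ X ∈ L, (Finset.univ.filter (Adj X)).filter (fun R => R ∈ L) = L.erase X := by
    intro X hX
    ext R
    simp only [Finset.mem_filter, Finset.mem_univ, true_and, Finset.mem_erase]
    constructor
    · rintro ⟨h1, h2⟩
      exact ⟨(adj_ne h1).symm, h2⟩
    · rintro ⟨h1, h2⟩
      exact ⟨hLadj X hX R h2 (Ne.symm h1), h2⟩
  have hout : ∀ X : Sylow 3 G, (Finset.univ.filter (Adj X)).filter (fun R => ¬ R ∈ L) =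
      (Finset.univ \ L).filter (Adj X) := by
    intro X
    ext R
    simp only [Finset.mem_filter, Finset.mem_univ, true_and, Finset.mem_sdiff]
    tauto
  have hcount : ∀ X ∈ L, ((Finset.univ \ L).filter (Adj X)).card + (L.card - 1) = 12 := by
    intro X hX
    have h1 := Finset.card_filter_add_card_filter_not (s := Finset.univ.filter (Adj X))
      (fun R => R ∈ L)
    rw [hin X hX, hout X, h12 X, Finset.card_erase_of_mem hX] at h1
    omega
  have hℓ13 : L.card ≤ 13 := by
    have := hcount P hPL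
    omega
  have hdc := Finset.sum_card_bipartiteAbove_eq_sum_card_bipartiteBelow
    (s := L) (t := Finset.univ \ L) (fun X γ : Sylow 3 G => Adj X γ)
  have hterm : ∀ X ∈ L, (Finset.bipartiteAbove (fun X γ : Sylow 3 G => Adj X γ)
      (Finset.univ \ L) X).card = 13 - L.card := by
    intro X hX
    have := hcount X hX
    have e : Finset.bipartiteAbove (fun X γ : Sylow 3 G => Adj X γ) (Finset.univ \ L) X =
        (Finset.univ \ L).filter (Adj X) := rfl
    rw [e]
    omega
  have hlhs : ∑ X ∈ L, (Finset.bipartiteAbove (fun X γ : Sylow 3 G => Adj X γ)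
      (Finset.univ \ L) X).card = L.card * (13 - L.card) := by
    rw [Finset.sum_congr rfl hterm, Finset.sum_const, smul_eq_mul]
  have hrhs : ∑ γ ∈ Finset.univ \ L, (Finset.bipartiteBelow (fun X γ : Sylow 3 G => Adj X γ)
      L γ).card ≤ (Finset.univ \ L).card := by
    rw [Finset.card_eq_sum_ones]
    apply Finset.sum_le_sum
    intro γ hγ
    rw [Finset.card_le_one]
    intro X hX X' hX'
    simp only [Finset.bipartiteBelow, Finset.mem_filter] at hX hX'
    by_contra hne
    have hγL : ¬ ((P : Subgroup G) ⊓ Q ≤ γ) := by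
      rw [← hLmem]; exact (Finset.mem_sdiff.mp hγ).2
    exact core hPQ X X' γ ((hLmem X).mp hX.1) ((hLmem X').mp hX'.1) hne hγL hX.2 hX'.2
  have hcompl : (Finset.univ \ L).card = 22 - L.card := by
    rw [Finset.card_sdiff_of_subset (Finset.subset_univ _), Finset.card_univ, h22]
  rw [hdc] at hlhs
  rw [hlhs, hcompl] at hrhs
  have hℓ : L.card = 13 := by
    generalize L.card = ℓ at *
    interval_cases ℓ <;> omega
  have hfull : ∀ X ∈ L, Finset.univ.filter (Adj X) = L.erase X := by
    intro X hX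
    symm
    apply Finset.eq_of_subset_of_card_le
    · rw [← hin X hX]; exact Finset.filter_subset _ _
    · rw [h12 X, Finset.card_erase_of_mem hX, hℓ]
  have hYex : (Finset.univ \ L).Nonempty := by
    rw [← Finset.card_pos, hcompl, hℓ]; norm_num
  obtain ⟨Y, hY⟩ := hYex
  have hYL : Y ∉ L := (Finset.mem_sdiff.mp hY).2
  have hsub : Finset.univ.filter (Adj Y) ⊆ (Finset.univ \ L).erase Y := by
    intro R hR
    have hadj : Adj Y R := (Finset.mem_filter.mp hR).2
    rw [Finset.mem_erase, Finset.mem_sdiff]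
    refine ⟨(adj_ne hadj).symm, Finset.mem_univ _, fun hRL => hYL ?_⟩
    have : Y ∈ Finset.univ.filter (Adj R) := by
      rw [Finset.mem_filter]; exact ⟨Finset.mem_univ _, adj_symm hadj⟩
    rw [hfull R hRL] at this
    exact (Finset.mem_erase.mp this).2
  have := Finset.card_le_card hsub
  rw [h12 Y, Finset.card_erase_of_mem hY, hcompl, hℓ] at this
  omega

theorem line_eq_of_three (h3 : ∀ P : Sylow 3 G, (Finset.univ.filter (Adj P)).card = 3)
    (P Q : Sylow 3 G) (hPQ : Adj P Q) :
    Finset.univ.filter (fun R : Sylow 3 G => (P : Subgroup G) ⊓ Q ≤ R) =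
      insert P (Finset.univ.filter (Adj P)) := by
  set L : Finset (Sylow 3 G) :=
    Finset.univ.filter (fun R : Sylow 3 G => (P : Subgroup G) ⊓ Q ≤ R) with hL
  have hLmem : ∀ R : Sylow 3 G, R ∈ L ↔ (P : Subgroup G) ⊓ Q ≤ R := by
    intro R; simp [hL]
  have hPL : P ∈ L := (hLmem P).mpr inf_le_left
  have hQL : Q ∈ L := (hLmem Q).mpr inf_le_right
  have hsub : L ⊆ insert P (Finset.univ.filter (Adj P)) := by
    intro R hR
    rw [Finset.mem_insert, Finset.mem_filter]
    by_cases hRP : R = P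
    · exact Or.inl hRP
    · exact Or.inr ⟨Finset.mem_univ _,
        adj_of_mem_line hPQ P R inf_le_left ((hLmem R).mp hR) (Ne.symm hRP)⟩
  have hcard4 : (insert P (Finset.univ.filter (Adj P))).card = 4 := by
    rw [Finset.card_insert_of_notMem, h3 P]
    intro h
    exact adj_ne (Finset.mem_filter.mp h).2 rfl
  have hmod := card_modEq_fixH (P : Subgroup G) P.isPGroup' L (by
    intro h hh R hR
    rw [hLmem] at hR ⊢
    intro e he
    rw [mem_smul_sylow]
    exact hR (conj_mem_inf hPQ h hh e he))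
  have hfix : L.filter (fun R => ∀ h ∈ (P : Subgroup G), h • R = R) = {P} := by
    ext R
    rw [Finset.mem_filter, Finset.mem_singleton, fixH_iff _ P.isPGroup']
    constructor
    · rintro ⟨_, h⟩
      exact (sylow_eq_of_le P R h).symm
    · rintro rfl
      exact ⟨hPL, le_refl _⟩
  rw [hfix, Finset.card_singleton] at hmod
  have hℓ2 : 2 ≤ L.card := by
    have hsub2 : ({P, Q} : Finset (Sylow 3 G)) ⊆ L := by
      intro R hR
      simp only [Finset.mem_insert, Finset.mem_singleton] at hR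
      rcases hR with rfl | rfl
      · exact hPL
      · exact hQL
    have := Finset.card_le_card hsub2
    rwa [Finset.card_pair (adj_ne hPQ)] at this
  have hℓ4 : L.card ≤ 4 := hcard4 ▸ Finset.card_le_card hsub
  apply Finset.eq_of_subset_of_card_le hsub
  rw [hcard4]
  have : L.card % 3 = 1 % 3 := hmod
  omega

theorem case3 (h22 : Fintype.card (Sylow 3 G) = 22)
    (h3 : ∀ P : Sylow 3 G, (Finset.univ.filter (Adj P)).card = 3) : False := by
  let f : Sylow 3 G → Finset (Sylow 3 G) := fun P => insert P (Finset.univ.filter (Adj P))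
  have hf4 : ∀ P, (f P).card = 4 := by
    intro P
    simp only [f]
    rw [Finset.card_insert_of_notMem, h3 P]
    intro h
    exact adj_ne (Finset.mem_filter.mp h).2 rfl
  have hkey : ∀ P Q : Sylow 3 G, Q ∈ f P → f Q = f P := by
    intro P Q hQ
    simp only [f, Finset.mem_insert, Finset.mem_filter, Finset.mem_univ, true_and] at hQ
    rcases hQ with rfl | hadj
    · rfl
    · have h1 := line_eq_of_three h3 P Q hadj
      have h2 := line_eq_of_three h3 Q P (adj_symm hadj)
      rw [inf_comm] at h2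
      simp only [f]
      rw [← h1, ← h2]
  have hfib := Finset.card_eq_sum_card_fiberwise (f := f) (s := Finset.univ)
    (t := Finset.univ.image f)
    (fun x hx => Finset.mem_coe.mpr (Finset.mem_image_of_mem f (Finset.mem_coe.mp hx)))
  have hterm : ∀ b ∈ Finset.univ.image f, (Finset.univ.filter (fun a => f a = b)).card = 4 := by
    intro b hb
    obtain ⟨P0, _, rfl⟩ := Finset.mem_image.mp hb
    have heq : Finset.univ.filter (fun a => f a = f P0) = f P0 := by
      ext a
      rw [Finset.mem_filter]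
      constructor
      · rintro ⟨_, h⟩
        rw [← h]
        simp only [f]
        exact Finset.mem_insert_self _ _
      · intro h
        exact ⟨Finset.mem_univ _, hkey P0 a h⟩
    rw [heq, hf4]
  rw [Finset.sum_congr rfl hterm, Finset.sum_const, smul_eq_mul, Finset.card_univ, h22] at hfib
  omega

theorem part1_22 (h22 : Nat.card (Sylow 3 G) = 22) (P Q : Sylow 3 G) (hne : P ≠ Q) :
    Adj P Q ∧ ∀ R : Sylow 3 G, (P : Subgroup G) ⊓ Q ≤ R := by
  have h22' : Fintype.card (Sylow 3 G) = 22 := by rw [← Nat.card_eq_fintype_card, h22]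
  have hall21 : ∀ P : Sylow 3 G, (Finset.univ.filter (Adj P)).card = 21 := by
    rcases card_adj_cases h22' P with h | h | h
    · exact absurd (case3 h22' (fun R => (card_adj_const R P).trans h)) id
    · exact absurd (case12 h22' (fun R => (card_adj_const R P).trans h)) id
    · exact fun R => (card_adj_const R P).trans h
  have hall : ∀ P Q : Sylow 3 G, P ≠ Q → Adj P Q := by
    intro P Q hne
    have heq : Finset.univ.filter (Adj P) = Finset.univ.erase P := by
      apply Finset.eq_of_subset_of_card_le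
      · intro R hR
        rw [Finset.mem_erase]
        exact ⟨(adj_ne (Finset.mem_filter.mp hR).2).symm, Finset.mem_univ _⟩
      · rw [hall21 P, Finset.card_erase_of_mem (Finset.mem_univ _), Finset.card_univ, h22']
    have : Q ∈ Finset.univ.filter (Adj P) := by
      rw [heq, Finset.mem_erase]; exact ⟨Ne.symm hne, Finset.mem_univ _⟩
    exact (Finset.mem_filter.mp this).2
  exact ⟨hall P Q hne, all_adj_case hall P Q hne⟩

end part1

theorem card_three_of_simple {S : Type*} [Group S] [Finite S] [IsSimpleGroup S]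
    (h22 : Nat.card (Sylow 3 S) = 22) (P : Sylow 3 S) : Nat.card (P : Subgroup S) = 3 := by
  have hnt : Nontrivial (Sylow 3 S) := by
    rw [← Finite.one_lt_card_iff_nontrivial, h22]; norm_num
  obtain ⟨Q, hQ⟩ := exists_ne P
  obtain ⟨hadj, hall⟩ := part1_22 h22 P Q (Ne.symm hQ)
  have hle : Subgroup.normalClosure (((P : Subgroup S) ⊓ Q : Subgroup S) : Set S) ≤ P := by
    unfold Subgroup.normalClosure
    rw [Subgroup.closure_le]
    intro x hx
    rw [Group.mem_conjugatesOfSet_iff] at hx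
    obtain ⟨d, hd, hconj⟩ := hx
    rw [isConj_iff] at hconj
    obtain ⟨c, rfl⟩ := hconj
    have h1 := hall (c⁻¹ • P) hd
    rw [mem_smul_sylow, inv_inv] at h1
    exact h1
  have hnorm : (Subgroup.normalClosure (((P : Subgroup S) ⊓ Q : Subgroup S) : Set S)).Normal :=
    Subgroup.normalClosure_normal
  rcases hnorm.eq_bot_or_eq_top with hbot | htop
  · have hD : (P : Subgroup S) ⊓ Q = ⊥ := by
      rw [eq_bot_iff, ← hbot]
      exact Subgroup.le_normalClosure
    unfold Adj at hadj
    rw [hadj, hD, Subgroup.card_bot]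
  · exfalso
    rw [htop, top_le_iff] at hle
    apply hQ
    apply Cfsg.Agent.H70.N15.sylow_eq_of_le
    rw [hle]; exact le_top

end Cfsg.Agent.H70.N22
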