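import Mathlib
import Cfsg.Agent.H70.N22b

set_option autoImplicit false
set_option linter.unusedSectionVars false
open scoped Pointwise
open Classical

noncomputable section

namespace Cfsg.Agent.H70.N22

open Cfsg.Agent.H70.N15 (sylow_eq_of_le card_eq_relIndex_mul smul_eq_iff card_eq_index
  inf_normalizer_le exists_sylow_eq index_two_of_hom)

section part3

attribute [local instance] instFintypeSylowThree factThree

local instance factEleven : Fact (Nat.Prime 11) := ⟨by norm_num⟩
local instance factTwo : Fact (Nat.Prime 2) := ⟨by norm_num⟩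
local instance factFive : Fact (Nat.Prime 5) := ⟨by norm_num⟩
local instance factSeven : Fact (Nat.Prime 7) := ⟨by norm_num⟩

variable {Y : Type*} [Group Y] [Finite Y]

/-- fixed points on the set of Sylow 3-subgroups -/
def fixF (g : Y) : Finset (Sylow 3 Y) := Finset.univ.filter (fun Q => g • Q = Q)

omit [Finite Y] in
theorem mem_cent_zpowers (x y : Y) (h : y * x = x * y) :
    y ∈ Subgroup.centralizer ((Subgroup.zpowers x : Subgroup Y) : Set Y) := by
  rw [Subgroup.mem_centralizer_iff]
  intro v hv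
  obtain ⟨i, rfl⟩ := Subgroup.mem_zpowers_iff.mp hv
  exact (Commute.zpow_left (show Commute x y from h.symm) i).eq

theorem mem_fixF (g : Y) (Q : Sylow 3 Y) : Q ∈ fixF g ↔ g • Q = Q := by
  simp [fixF]

variable [IsSimpleGroup Y]
variable (h22 : Nat.card (Sylow 3 Y) = 22)
variable (h3 : ∀ P : Sylow 3 Y, Nat.card (P : Subgroup Y) = 3)

include h22 in
theorem cardY (P : Sylow 3 Y) :
    Nat.card Y = 22 * Nat.card (Subgroup.normalizer ((P : Subgroup Y) : Set Y)) := by
  have h1 := Subgroup.card_mul_index (Subgroup.normalizer ((P : Subgroup Y) : Set Y))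
  rw [← card_eq_index, h22] at h1
  omega

include h22 in
theorem faithful (g : Y) (hg : ∀ Q : Sylow 3 Y, g • Q = Q) : g = 1 := by
  have hn : (MulAction.toPermHom Y (Sylow 3 Y)).ker.Normal := inferInstance
  rcases hn.eq_bot_or_eq_top with hbot | htop
  · have : g ∈ (MulAction.toPermHom Y (Sylow 3 Y)).ker := by
      rw [MonoidHom.mem_ker]
      ext Q
      simp [MulAction.toPermHom_apply, hg Q]
    rw [hbot, Subgroup.mem_bot] at this
    exact this
  · exfalso
    obtain ⟨P⟩ : Nonempty (Sylow 3 Y) := inferInstance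
    have hall : ∀ y : Y, y • P = P := by
      intro y
      have hy : y ∈ (MulAction.toPermHom Y (Sylow 3 Y)).ker := by rw [htop]; trivial
      rw [MonoidHom.mem_ker] at hy
      have := congrArg (fun f : Equiv.Perm (Sylow 3 Y) => f P) hy
      simpa [MulAction.toPermHom_apply] using this
    have htop' : Subgroup.normalizer ((P : Subgroup Y) : Set Y) = ⊤ := by
      rw [eq_top_iff]
      intro y _
      exact (smul_eq_iff y P).mp (hall y)
    have := card_eq_index P
    rw [htop', Subgroup.index_top, h22] at this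
    omega

include h22 in
theorem no_sign (s : Y →* ℤˣ) (g : Y) : s g = 1 := by
  rcases Int.units_eq_one_or (s g) with h | h
  · exact h
  · exfalso
    have hidx := index_two_of_hom s g h
    have hn : s.ker.Normal := inferInstance
    obtain ⟨P⟩ : Nonempty (Sylow 3 Y) := inferInstance
    have hc := cardY h22 P
    have hpos : 0 < Nat.card (Subgroup.normalizer ((P : Subgroup Y) : Set Y)) := Nat.card_pos
    rcases hn.eq_bot_or_eq_top with hbot | htop
    · rw [hbot, Subgroup.index_bot] at hidx
      omega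
    · rw [htop, Subgroup.index_top] at hidx
      omega

include h3 in
theorem exists_gen (P : Sylow 3 Y) :
    ∃ σ : Y, orderOf σ = 3 ∧ (P : Subgroup Y) = Subgroup.zpowers σ := by
  obtain ⟨x, hx⟩ := exists_prime_orderOf_dvd_card' (G := ↥(P : Subgroup Y)) 3
    (by rw [h3 P])
  refine ⟨(x : Y), by rw [Subgroup.orderOf_coe, hx], ?_⟩
  symm
  apply Subgroup.eq_of_le_of_card_ge
  · rw [Subgroup.zpowers_le]; exact x.2
  · rw [Nat.card_zpowers, Subgroup.orderOf_coe, hx, h3 P]

include h3 in
theorem zpowers_eq (τ : Y) (hτ : orderOf τ = 3) (Q : Sylow 3 Y) (hQ : τ ∈ (Q : Subgroup Y)) :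
    Subgroup.zpowers τ = (Q : Subgroup Y) := by
  apply Subgroup.eq_of_le_of_card_ge
  · rw [Subgroup.zpowers_le]; exact hQ
  · rw [Nat.card_zpowers, hτ, h3 Q]

include h3 in
theorem fix_order3 (τ : Y) (hτ : orderOf τ = 3) (Q R : Sylow 3 Y) (hQ : τ ∈ (Q : Subgroup Y)) :
    τ • R = R ↔ R = Q := by
  constructor
  · intro h
    rw [smul_eq_iff] at h
    have h1 : (Q : Subgroup Y) ≤ Subgroup.normalizer ((R : Subgroup Y) : Set Y) := by
      rw [← zpowers_eq h3 τ hτ Q hQ, Subgroup.zpowers_le]; exact h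
    exact (sylow_eq_of_le Q R ((le_inf le_rfl h1).trans (inf_normalizer_le Q R))).symm
  · rintro rfl
    exact smul_self_of_mem R τ hQ

omit [IsSimpleGroup Y] in
theorem exists_sylow_mem (τ : Y) (hτ : orderOf τ = 3) : ∃ Q : Sylow 3 Y, τ ∈ (Q : Subgroup Y) := by
  have hp : IsPGroup 3 (Subgroup.zpowers τ) :=
    isPGroup_zpowers τ 1 (by rw [pow_one, ← hτ]; exact pow_orderOf_eq_one τ)
  obtain ⟨Q, hQ⟩ := hp.exists_le_sylow
  exact ⟨Q, hQ (Subgroup.mem_zpowers τ)⟩

include h22 in
theorem card_univ22 : (Finset.univ : Finset (Sylow 3 Y)).card = 22 := by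
  rw [Finset.card_univ, ← Nat.card_eq_fintype_card, h22]

include h22 in
theorem nf_mod (g : Y) (p k : ℕ) [Fact p.Prime] (hg : g ^ p ^ k = 1) :
    (fixF g).card % p = 22 % p := by
  have h1 := card_modEq_fixElt g k hg (Finset.univ : Finset (Sylow 3 Y))
    (fun a _ => Finset.mem_univ _)
  rw [card_univ22 h22] at h1
  exact h1.symm

include h22 in
theorem nf_lt (g : Y) (hg : g ≠ 1) : (fixF g).card < 22 := by
  by_contra hge
  push Not at hge
  have hle : (fixF g).card ≤ 22 := by
    rw [← card_univ22 h22]; exact Finset.card_le_card (Finset.subset_univ _)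
  have huniv : fixF g = Finset.univ := by
    rw [← Finset.card_eq_iff_eq_univ, ← Nat.card_eq_fintype_card, h22]; omega
  apply hg
  apply faithful h22
  intro Q
  rw [← mem_fixF, huniv]; exact Finset.mem_univ Q

include h3 in
theorem nf_mod3 (g τ : Y) (hτ : orderOf τ = 3) (hc : g * τ = τ * g) :
    (fixF g).card % 3 = 1 := by
  obtain ⟨Q, hQ⟩ := exists_sylow_mem τ hτ
  have h1 := card_modEq_fixElt (p := 3) τ 1 (by rw [pow_one, ← hτ]; exact pow_orderOf_eq_one τ) (fixF g)
    (by
      intro a ha
      rw [mem_fixF] at ha ⊢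
      rw [← mul_smul, hc, mul_smul, ha])
  have hgQ : g • Q = Q := by
    rw [← fix_order3 h3 τ hτ Q (g • Q) hQ, ← mul_smul, ← hc, mul_smul,
      (fix_order3 h3 τ hτ Q Q hQ).mpr rfl]
  have h2 : (fixF g).filter (fun a => τ • a = a) = {Q} := by
    ext a
    rw [Finset.mem_filter, Finset.mem_singleton, mem_fixF, fix_order3 h3 τ hτ Q a hQ]
    constructor
    · exact fun h => h.2
    · rintro rfl; exact ⟨hgQ, rfl⟩
  rw [h2, Finset.card_singleton] at h1
  exact h1

include h22 in
theorem nf_invol (t : Y) (ht : t ^ 2 = 1) (ht1 : t ≠ 1) : (fixF t).card % 4 = 2 := by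
  have h1 := nf_mod h22 t 2 1 (by rw [pow_one]; exact ht)
  have h2 := nf_lt h22 t ht1
  by_contra hne
  have hk : Odd ((22 - (fixF t).card) / 2) := by
    rw [Nat.odd_iff]; omega
  have hsign := sign_of_fix (Ω := Sylow 3 Y) t ht ((22 - (fixF t).card) / 2) hk (by
    rw [← Nat.card_eq_fintype_card, h22]
    change (fixF t).card + _ = 22
    omega)
  have := no_sign h22 (Equiv.Perm.sign.comp (MulAction.toPermHom Y (Sylow 3 Y))) t
  rw [MonoidHom.comp_apply, hsign] at this
  exact absurd this (by decide)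

include h3 in
theorem commute_of_fix_odd (g : Y) (hodd : Odd (orderOf g)) (Q : Sylow 3 Y) (hQ : g • Q = Q)
    (τ : Y) (hτ : orderOf τ = 3) (hτQ : τ ∈ (Q : Subgroup Y)) : g * τ = τ * g := by
  apply commute_of_normalizes 3 hτ
  · rw [zpowers_eq h3 τ hτ Q hτQ]
    rw [smul_eq_iff, Subgroup.mem_normalizer_iff] at hQ
    exact (hQ τ).mp hτQ
  · exact Nat.coprime_two_right.mpr hodd

include h22 h3 in
theorem nf_eleven (x : Y) (hx : orderOf x = 11) : fixF x = ∅ := by
  by_contra hne
  obtain ⟨Q, hQ⟩ := Finset.nonempty_iff_ne_empty.mpr hne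
  rw [mem_fixF] at hQ
  obtain ⟨σ, hσ, hσQ⟩ := exists_gen h3 Q
  have hc := commute_of_fix_odd h3 x (by rw [hx]; decide) Q hQ σ hσ
    (by rw [hσQ]; exact Subgroup.mem_zpowers σ)
  have h1 := nf_mod3 h3 x σ hσ hc
  have h2 := nf_mod h22 x 11 1 (by rw [pow_one, ← hx]; exact pow_orderOf_eq_one x)
  have hx1 : x ≠ 1 := by
    rintro rfl
    rw [orderOf_one] at hx; omega
  have h4 := nf_lt h22 x hx1
  omega

include h22 h3 in
theorem not_dvd_norm (P : Sylow 3 Y) :
    ¬ 11 ∣ Nat.card (Subgroup.normalizer ((P : Subgroup Y) : Set Y)) := by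
  intro hdvd
  obtain ⟨x, hx⟩ := exists_prime_orderOf_dvd_card'
    (G := ↥(Subgroup.normalizer ((P : Subgroup Y) : Set Y))) 11 hdvd
  have hx' : orderOf (x : Y) = 11 := by rw [Subgroup.orderOf_coe, hx]
  have hfix : (x : Y) • P = P := (smul_eq_iff _ P).mpr x.2
  have := nf_eleven h22 h3 (x : Y) hx'
  rw [← mem_fixF, this] at hfix
  exact absurd hfix (Finset.notMem_empty _)

include h22 h3 in
theorem not_121 : ¬ 121 ∣ Nat.card Y := by
  obtain ⟨P⟩ : Nonempty (Sylow 3 Y) := inferInstance
  have h1 := cardY h22 P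
  have h2 := not_dvd_norm h22 h3 P
  omega

include h22 in
theorem exists_eleven : ∃ x : Y, orderOf x = 11 := by
  obtain ⟨P⟩ : Nonempty (Sylow 3 Y) := inferInstance
  have h1 := cardY h22 P
  exact exists_prime_orderOf_dvd_card' (G := Y) 11 (by rw [h1]; exact ⟨2 * _, by ring⟩)

include h22 h3 in
theorem cent_card (x : Y) (hx : orderOf x = 11) :
    Nat.card (Subgroup.centralizer ((Subgroup.zpowers x : Subgroup Y) : Set Y)) = 11 := by
  set C := Subgroup.centralizer ((Subgroup.zpowers x : Subgroup Y) : Set Y) with hC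
  have hUC : Subgroup.zpowers x ≤ C :=
    Subgroup.le_centralizer_iff_isMulCommutative.mpr IsCyclic.isMulCommutative
  have h11 : 11 ∣ Nat.card C := by
    have := Subgroup.card_dvd_of_le hUC
    rwa [Nat.card_zpowers, hx] at this
  have hx11 : x ^ 11 ^ 1 = 1 := by rw [pow_one, ← hx]; exact pow_orderOf_eq_one x
  have hprime : ∀ {q : ℕ}, q.Prime → q ∣ Nat.card C → q = 11 := by
    intro q hq hdvd
    by_contra hne
    have : Fact q.Prime := ⟨hq⟩
    obtain ⟨g, hg⟩ := exists_prime_orderOf_dvd_card' (G := ↥C) q hdvd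
    have hg' : orderOf (g : Y) = q := by rw [Subgroup.orderOf_coe, hg]
    have hcomm : x * (g : Y) = (g : Y) * x :=
      Subgroup.mem_centralizer_iff.mp g.2 x (Subgroup.mem_zpowers x)
    have hg1 : (g : Y) ≠ 1 := by
      intro h
      rw [h, orderOf_one] at hg'
      exact hq.one_lt.ne hg'
    have h1 := card_modEq_fixElt (p := 11) x 1 hx11 (fixF (g : Y)) (by
      intro a ha
      rw [mem_fixF] at ha ⊢
      rw [← mul_smul, ← hcomm, mul_smul, ha])
    have h2 : (fixF (g : Y)).filter (fun a => x • a = a) = ∅ := by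
      rw [Finset.filter_eq_empty_iff]
      intro a _ hxa
      have : a ∈ fixF x := (mem_fixF x a).mpr hxa
      rw [nf_eleven h22 h3 x hx] at this
      exact absurd this (Finset.notMem_empty _)
    rw [h2, Finset.card_empty] at h1
    have h3' := nf_lt h22 (g : Y) hg1
    have h4 := nf_mod h22 (g : Y) q 1 (by rw [pow_one, ← hg']; exact pow_orderOf_eq_one _)
    have h5 : (fixF (g : Y)).card = 0 ∨ (fixF (g : Y)).card = 11 := by
      have : (fixF (g : Y)).card % 11 = 0 % 11 := h1
      omega
    rcases h5 with h5 | h5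
    · rw [h5] at h4
      have hq22 : q ∣ 2 * 11 := Nat.dvd_of_mod_eq_zero (by rw [← h4]; simp)
      rcases (Nat.Prime.dvd_mul hq).mp hq22 with h | h
      · have hq2 : q = 2 := (Nat.prime_dvd_prime_iff_eq hq Nat.prime_two).mp h
        subst hq2
        have := nf_invol h22 (g : Y) (by rw [← hg']; exact pow_orderOf_eq_one _) hg1
        omega
      · exact hne ((Nat.prime_dvd_prime_iff_eq hq (by norm_num)).mp h)
    · rw [h5] at h4
      have : q ∣ 22 - 11 := (Nat.modEq_iff_dvd' (by norm_num)).mp h4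
      exact hne ((Nat.prime_dvd_prime_iff_eq hq (by norm_num)).mp this)
  obtain ⟨k, hk⟩ : ∃ k, Nat.card C = 11 ^ k :=
    ⟨_, Nat.eq_prime_pow_of_unique_prime_dvd (Nat.card_pos (α := ↥C)).ne' hprime⟩
  rcases k with _ | _ | k
  · rw [hk] at h11; norm_num at h11
  · rw [hk]; norm_num
  · exfalso
    apply not_121 h22 h3
    have h1 : 121 ∣ Nat.card C := by rw [hk]; exact ⟨11 ^ k, by ring⟩
    exact h1.trans (Subgroup.card_subgroup_dvd_card C)

include h22 h3 in
theorem order_dvd_of_commute (x : Y) (hx : orderOf x = 11) (y : Y) (hc : y * x = x * y) :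
    orderOf y ∣ 11 := by
  have hy := mem_cent_zpowers x y hc
  have := orderOf_dvd_natCard
    (⟨y, hy⟩ : ↥(Subgroup.centralizer ((Subgroup.zpowers x : Subgroup Y) : Set Y)))
  rwa [Subgroup.orderOf_mk, cent_card h22 h3 x hx] at this

include h22 h3 in
theorem no_five (x : Y) (hx : orderOf x = 11) (y : Y) (hy : orderOf y = 5)
    (hyN : y ∈ Subgroup.normalizer ((Subgroup.zpowers x : Subgroup Y) : Set Y)) : False := by
  have hnc : ∀ v : Y, orderOf v = 11 → y * v ≠ v * y := by
    intro v hv hc
    have := order_dvd_of_commute h22 h3 v hv y hc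
    rw [hy] at this
    omega
  have hconj : ∀ k : ℕ, y * x ^ k * y⁻¹ ∈ Subgroup.zpowers x := by
    intro k
    rw [Subgroup.mem_normalizer_iff] at hyN
    exact (hyN (x ^ k)).mp (Subgroup.pow_mem _ (Subgroup.mem_zpowers x) k)
  have hbound := trans_bound x 11 (fixF y) (by
    intro k hk0 hk11 a ha hmem
    rw [mem_fixF] at ha hmem
    have hw := hconj k
    have h1 : (y * x ^ k * y⁻¹) • a = x ^ k • a := by
      have h0 : y⁻¹ • a = a := by rw [inv_smul_eq_iff, ha]
      rw [mul_smul, mul_smul, h0, hmem]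
    have hvU : (x ^ k)⁻¹ * (y * x ^ k * y⁻¹) ∈ Subgroup.zpowers x :=
      Subgroup.mul_mem _ (Subgroup.inv_mem _ (Subgroup.pow_mem _ (Subgroup.mem_zpowers x) k)) hw
    have hva : ((x ^ k)⁻¹ * (y * x ^ k * y⁻¹)) • a = a := by rw [mul_smul, h1, inv_smul_smul]
    have hv1 : (x ^ k)⁻¹ * (y * x ^ k * y⁻¹) = 1 := by
      by_contra hne
      have hov : orderOf ((x ^ k)⁻¹ * (y * x ^ k * y⁻¹)) = 11 := by
        have hd : orderOf ((x ^ k)⁻¹ * (y * x ^ k * y⁻¹)) ∣ 11 := by
          have := orderOf_dvd_natCard (⟨_, hvU⟩ : ↥(Subgroup.zpowers x))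
          rwa [Subgroup.orderOf_mk, Nat.card_zpowers, hx] at this
        rcases (Nat.dvd_prime (by norm_num)).mp hd with h | h
        · exact absurd (orderOf_eq_one_iff.mp h) hne
        · exact h
      have : a ∈ fixF ((x ^ k)⁻¹ * (y * x ^ k * y⁻¹)) := (mem_fixF _ a).mpr hva
      rw [nf_eleven h22 h3 _ hov] at this
      exact absurd this (Finset.notMem_empty _)
    have hcomm : y * x ^ k = x ^ k * y := by
      have h2 : y * x ^ k * y⁻¹ = x ^ k := by
        rw [inv_mul_eq_one] at hv1; exact hv1.symm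
      calc y * x ^ k = (y * x ^ k * y⁻¹) * y := by group
        _ = x ^ k * y := by rw [h2]
    have hok : orderOf (x ^ k) = 11 := by
      have hcop : (orderOf x).Coprime k := by
        rw [hx]
        exact (Nat.Prime.coprime_iff_not_dvd (by norm_num)).mpr
          (fun h => by have := Nat.le_of_dvd hk0 h; omega)
      rw [hcop.orderOf_pow, hx]
    exact hnc (x ^ k) hok hcomm)
  rw [← Nat.card_eq_fintype_card, h22] at hbound
  have h1 := nf_mod h22 y 5 1 (by rw [pow_one, ← hy]; exact pow_orderOf_eq_one y)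
  have hcard : (fixF y).card = 2 := by omega
  have hne : (fixF y).Nonempty := by rw [← Finset.card_pos, hcard]; norm_num
  obtain ⟨Q, hQ⟩ := hne
  rw [mem_fixF] at hQ
  obtain ⟨σ, hσ, hσQ⟩ := exists_gen h3 Q
  have hc := commute_of_fix_odd h3 y (by rw [hy]; decide) Q hQ σ hσ
    (by rw [hσQ]; exact Subgroup.mem_zpowers σ)
  have h2 := nf_mod3 h3 y σ hσ hc
  omega

include h22 h3 in
theorem norm_card (x : Y) (hx : orderOf x = 11) :
    Nat.card (Subgroup.normalizer ((Subgroup.zpowers x : Subgroup Y) : Set Y)) = 22 := by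
  have hUcard : Nat.card (Subgroup.zpowers x) = 11 := by rw [Nat.card_zpowers, hx]
  have hcyc : IsCyclic ↥(Subgroup.zpowers x) := isCyclic_of_prime_card hUcard
  have hCN : Subgroup.centralizer ((Subgroup.zpowers x : Subgroup Y) : Set Y) ≤
      Subgroup.normalizer ((Subgroup.zpowers x : Subgroup Y) : Set Y) :=
    Subgroup.centralizer_le_normalizer _
  have hr10 : (Subgroup.centralizer ((Subgroup.zpowers x : Subgroup Y) : Set Y)).relIndex
      (Subgroup.normalizer ((Subgroup.zpowers x : Subgroup Y) : Set Y)) ∣ 10 := by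
    have h1 : (Subgroup.normalizerMonoidHom (Subgroup.zpowers x)).ker.index =
        Nat.card (Subgroup.normalizerMonoidHom (Subgroup.zpowers x)).range := Subgroup.index_ker _
    rw [Subgroup.normalizerMonoidHom_ker] at h1
    have h2 : Nat.card (Subgroup.normalizerMonoidHom (Subgroup.zpowers x)).range ∣
        Nat.card (MulAut ↥(Subgroup.zpowers x)) := Subgroup.card_subgroup_dvd_card _
    rw [IsCyclic.card_mulAut, hUcard, Nat.totient_prime (by norm_num)] at h2
    change ((Subgroup.centralizer ((Subgroup.zpowers x : Subgroup Y) : Set Y)).subgroupOf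
      (Subgroup.normalizer ((Subgroup.zpowers x : Subgroup Y) : Set Y))).index ∣ 10
    rw [h1]; exact h2
  have hcN : Nat.card (Subgroup.normalizer ((Subgroup.zpowers x : Subgroup Y) : Set Y)) =
      (Subgroup.centralizer ((Subgroup.zpowers x : Subgroup Y) : Set Y)).relIndex
        (Subgroup.normalizer ((Subgroup.zpowers x : Subgroup Y) : Set Y)) *
        Nat.card (Subgroup.centralizer ((Subgroup.zpowers x : Subgroup Y) : Set Y)) :=
    card_eq_relIndex_mul hCN
  rw [cent_card h22 h3 x hx] at hcN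
  obtain ⟨P⟩ : Nonempty (Sylow 3 Y) := inferInstance
  have hY := cardY h22 P
  have hfive : ¬ 5 ∣ Nat.card (Subgroup.normalizer ((Subgroup.zpowers x : Subgroup Y) : Set Y)) := by
    intro hdvd
    obtain ⟨y, hy⟩ := exists_prime_orderOf_dvd_card'
      (G := ↥(Subgroup.normalizer ((Subgroup.zpowers x : Subgroup Y) : Set Y))) 5 hdvd
    exact no_five h22 h3 x hx (y : Y) (by rw [Subgroup.orderOf_coe, hy]) y.2
  have hone : (Subgroup.centralizer ((Subgroup.zpowers x : Subgroup Y) : Set Y)).relIndex
      (Subgroup.normalizer ((Subgroup.zpowers x : Subgroup Y) : Set Y)) ≠ 1 := by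
    intro hr
    obtain ⟨R, hR⟩ := exists_sylow_eq (p := 11) (Subgroup.zpowers x) 1
      (by rw [hUcard]; norm_num)
      (by rw [show (11 : ℕ) ^ (1 + 1) = 121 by norm_num]; exact not_121 h22 h3)
    have hle : Subgroup.normalizer ((R : Subgroup Y) : Set Y) ≤
        Subgroup.centralizer ((R : Subgroup Y) : Set Y) := by
      rw [hR, ← Subgroup.relIndex_eq_one]; exact hr
    have hK := MonoidHom.ker_transferSylow_isComplement' R hle
    have hKc := hK.card_mul_card
    have hRc : Nat.card ↥(R : Subgroup Y) = 11 := by rw [hR]; exact hUcard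
    rw [hRc] at hKc
    have hn : (MonoidHom.transferSylow R hle).ker.Normal := inferInstance
    have hpos := Nat.card_pos (α := Y)
    have hposN : 0 < Nat.card (Subgroup.normalizer ((P : Subgroup Y) : Set Y)) := Nat.card_pos
    rcases hn.eq_bot_or_eq_top with hb | ht
    · rw [hb, Subgroup.card_bot] at hKc; omega
    · rw [ht, Subgroup.card_top] at hKc; omega
  have hle10 := Nat.le_of_dvd (by norm_num) hr10
  generalize (Subgroup.centralizer ((Subgroup.zpowers x : Subgroup Y) : Set Y)).relIndex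
      (Subgroup.normalizer ((Subgroup.zpowers x : Subgroup Y) : Set Y)) = r at *
  interval_cases r <;> omega

include h22 h3 in
theorem norm_P_mod (P : Sylow 3 Y) :
    Nat.card (Subgroup.normalizer ((P : Subgroup Y) : Set Y)) % 11 = 1 := by
  obtain ⟨x, hx⟩ := exists_eleven h22
  obtain ⟨R, hR⟩ := exists_sylow_eq (p := 11) (Subgroup.zpowers x) 1
    (by rw [Nat.card_zpowers, hx]; norm_num)
    (by rw [show (11 : ℕ) ^ (1 + 1) = 121 by norm_num]; exact not_121 h22 h3)
  have h1 := card_sylow_modEq_one 11 Y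
  rw [card_eq_index R, hR] at h1
  have h2 := Subgroup.card_mul_index
    (Subgroup.normalizer ((Subgroup.zpowers x : Subgroup Y) : Set Y))
  rw [norm_card h22 h3 x hx, cardY h22 P] at h2
  have h4 : (Subgroup.normalizer ((Subgroup.zpowers x : Subgroup Y) : Set Y)).index =
      Nat.card (Subgroup.normalizer ((P : Subgroup Y) : Set Y)) := by omega
  rw [h4] at h1
  exact h1

include h22 h3 in
theorem norm_eq_two_cent (P : Sylow 3 Y) :
    Nat.card (Subgroup.normalizer ((P : Subgroup Y) : Set Y)) =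
      2 * Nat.card (Subgroup.centralizer ((P : Subgroup Y) : Set Y)) := by
  have hcyc : IsCyclic ↥(P : Subgroup Y) := isCyclic_of_prime_card (h3 P)
  have hCN : Subgroup.centralizer ((P : Subgroup Y) : Set Y) ≤
      Subgroup.normalizer ((P : Subgroup Y) : Set Y) := Subgroup.centralizer_le_normalizer _
  have hr2 : (Subgroup.centralizer ((P : Subgroup Y) : Set Y)).relIndex
      (Subgroup.normalizer ((P : Subgroup Y) : Set Y)) ∣ 2 := by
    have h1 : (Subgroup.normalizerMonoidHom (P : Subgroup Y)).ker.index =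
        Nat.card (Subgroup.normalizerMonoidHom (P : Subgroup Y)).range := Subgroup.index_ker _
    rw [Subgroup.normalizerMonoidHom_ker] at h1
    have h2 : Nat.card (Subgroup.normalizerMonoidHom (P : Subgroup Y)).range ∣
        Nat.card (MulAut ↥(P : Subgroup Y)) := Subgroup.card_subgroup_dvd_card _
    rw [IsCyclic.card_mulAut, h3 P, Nat.totient_prime (by norm_num)] at h2
    change ((Subgroup.centralizer ((P : Subgroup Y) : Set Y)).subgroupOf
      (Subgroup.normalizer ((P : Subgroup Y) : Set Y))).index ∣ 2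
    rw [h1]; exact h2
  have hcN := card_eq_relIndex_mul hCN
  rcases (Nat.dvd_prime Nat.prime_two).mp hr2 with hr | hr
  · exfalso
    have hle : Subgroup.normalizer ((P : Subgroup Y) : Set Y) ≤
        Subgroup.centralizer ((P : Subgroup Y) : Set Y) := Subgroup.relIndex_eq_one.mp hr
    have hK := MonoidHom.ker_transferSylow_isComplement' P hle
    have hKc := hK.card_mul_card
    rw [h3 P] at hKc
    have hY := cardY h22 P
    have hn : (MonoidHom.transferSylow P hle).ker.Normal := inferInstance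
    have hpos := Nat.card_pos (α := Y)
    have hposN : 0 < Nat.card (Subgroup.normalizer ((P : Subgroup Y) : Set Y)) := Nat.card_pos
    rcases hn.eq_bot_or_eq_top with hb | ht
    · rw [hb, Subgroup.card_bot] at hKc; omega
    · rw [ht, Subgroup.card_top] at hKc; omega
  · rw [hcN, hr]

end part3

end Cfsg.Agent.H70.N22
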