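import Mathlib
import Cfsg.Agent.H70.N22c

set_option autoImplicit false
set_option linter.unusedSectionVars false
open scoped Pointwise
open Classical

noncomputable section

namespace Cfsg.Agent.H70.N22

open Cfsg.Agent.H70.N15 (sylow_eq_of_le card_eq_relIndex_mul smul_eq_iff card_eq_index
  inf_normalizer_le exists_sylow_eq index_two_of_hom)

section part4

attribute [local instance] instFintypeSylowThree factThree factEleven factTwo factFive factSeven

variable {Y : Type*} [Group Y] [Finite Y]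

omit [Finite Y] in
theorem pow_card_sub (H : Subgroup Y) [Finite H] (h : Y) (hh : h ∈ H) : h ^ Nat.card H = 1 := by
  have := pow_card_eq_one' (G := ↥H) (x := ⟨h, hh⟩)
  exact congrArg Subtype.val this

theorem exists_sub_of_dvd (C : Subgroup Y) (p n : ℕ) [Fact p.Prime] (h : p ^ n ∣ Nat.card C) :
    ∃ H : Subgroup Y, H ≤ C ∧ Nat.card H = p ^ n := by
  obtain ⟨K, hK⟩ := Sylow.exists_subgroup_card_pow_prime p h
  refine ⟨K.map C.subtype, Subgroup.map_subtype_le K, ?_⟩
  rw [Subgroup.card_map_of_injective (Subgroup.subtype_injective C), hK]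

omit [Finite Y] in
theorem exists_ne_one_of_card (H : Subgroup Y) (h : 1 < Nat.card H) : ∃ g ∈ H, g ≠ 1 := by
  by_contra hcon
  push Not at hcon
  have : H = ⊥ := (Subgroup.eq_bot_iff_forall H).mpr hcon
  rw [this, Subgroup.card_bot] at h
  omega

theorem mem_zpowers_three (τ v : Y) (hτ : orderOf τ = 3) (hv : v ∈ Subgroup.zpowers τ) :
    v = 1 ∨ v = τ ∨ v = τ ^ 2 := by
  rw [← mem_powers_iff_mem_zpowers] at hv
  obtain ⟨n, rfl⟩ := hv
  have hn : τ ^ n = τ ^ (n % 3) := by rw [← hτ, pow_mod_orderOf]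
  have hlt : n % 3 < 3 := Nat.mod_lt _ (by norm_num)
  change τ ^ n = 1 ∨ τ ^ n = τ ∨ τ ^ n = τ ^ 2
  rw [hn]
  generalize n % 3 = m at hlt
  interval_cases m <;> simp

omit [Finite Y] in
/-- if the fixed points of every nontrivial element of `H` lie in the invariant set `F`,
then `|H|` divides the size of the complement of `F` -/
theorem card_dvd_compl {Ω : Type*} [MulAction Y Ω] [Fintype Ω] (H : Subgroup Y) [Finite H]
    (F : Finset Ω) (hF : ∀ h ∈ H, h ≠ 1 → ∀ a, h • a = a → a ∈ F)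
    (hinv : ∀ h ∈ H, ∀ a ∈ F, h • a ∈ F) : Nat.card H ∣ Fintype.card Ω - F.card := by
  have h1 := card_dvd_of_free H (Finset.univ \ F)
    (by
      intro h hh a ha
      rw [Finset.mem_sdiff] at ha ⊢
      refine ⟨Finset.mem_univ _, fun hmem => ha.2 ?_⟩
      have := hinv h⁻¹ (H.inv_mem hh) _ hmem
      rwa [inv_smul_smul] at this)
    (by
      intro h hh a ha hfix
      by_contra hne
      exact (Finset.mem_sdiff.mp ha).2 (hF h hh hne a hfix))
  rwa [Finset.card_univ_sdiff] at h1

variable [IsSimpleGroup Y]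
variable (h22 : Nat.card (Sylow 3 Y) = 22)
variable (h3 : ∀ P : Sylow 3 Y, Nat.card (P : Subgroup Y) = 3)

include h3 in
/-- an invariant set containing the fixed point of τ has size ≡ 1 mod 3 -/
theorem card_mod3_of_inv (τ : Y) (hτ : orderOf τ = 3) (Q : Sylow 3 Y) (hQ : τ ∈ (Q : Subgroup Y))
    (A : Finset (Sylow 3 Y)) (hinv : ∀ a ∈ A, τ • a ∈ A) (hQA : Q ∈ A) : A.card % 3 = 1 := by
  have h1 := card_modEq_fixElt (p := 3) τ 1 (by rw [pow_one, ← hτ]; exact pow_orderOf_eq_one τ)
    A hinv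
  have h2 : A.filter (fun a => τ • a = a) = {Q} := by
    ext a
    rw [Finset.mem_filter, Finset.mem_singleton, fix_order3 h3 τ hτ Q a hQ]
    constructor
    · exact fun h => h.2
    · rintro rfl; exact ⟨hQA, rfl⟩
  rw [h2, Finset.card_singleton] at h1
  exact h1

include h22 h3 in
theorem fix7 (g τ : Y) (hτ : orderOf τ = 3) (hc : g * τ = τ * g) (hg1 : g ≠ 1) (k : ℕ)
    (hg : g ^ 7 ^ k = 1) : (fixF g).card = 1 := by
  have h1 := nf_mod3 h3 g τ hτ hc
  have h2 := nf_lt h22 g hg1
  have h4 := nf_mod h22 g 7 k hg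
  omega

include h22 h3 in
theorem fix5 (g τ : Y) (hτ : orderOf τ = 3) (hc : g * τ = τ * g) (hg1 : g ≠ 1) (k : ℕ)
    (hg : g ^ 5 ^ k = 1) : (fixF g).card = 7 := by
  have h1 := nf_mod3 h3 g τ hτ hc
  have h2 := nf_lt h22 g hg1
  have h4 := nf_mod h22 g 5 k hg
  omega

include h22 h3 in
theorem fix2 (t τ : Y) (hτ : orderOf τ = 3) (hc : t * τ = τ * t) (ht1 : t ≠ 1)
    (ht : t ^ 2 = 1) : (fixF t).card = 10 := by
  have h1 := nf_mod3 h3 t τ hτ hc
  have h2 := nf_lt h22 t ht1
  have h4 := nf_invol h22 t ht ht1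
  omega

include h22 h3 in
theorem fix2elt (t τ : Y) (hτ : orderOf τ = 3) (hc : t * τ = τ * t) (ht1 : t ≠ 1) (k : ℕ)
    (ht : t ^ 2 ^ k = 1) : (fixF t).card ≤ 10 := by
  obtain ⟨j, hjk, hj⟩ := (Nat.dvd_prime_pow Nat.prime_two).mp (orderOf_dvd_of_pow_eq_one ht)
  rcases j with _ | j
  · rw [pow_zero, orderOf_eq_one_iff] at hj; exact absurd hj ht1
  · have hu2 : (t ^ 2 ^ j) ^ 2 = 1 := by
      rw [← pow_mul, ← pow_succ, ← hj]; exact pow_orderOf_eq_one t
    have hu1 : t ^ 2 ^ j ≠ 1 := by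
      apply pow_ne_one_of_lt_orderOf (by positivity)
      rw [hj]; exact Nat.pow_lt_pow_right (by norm_num) (by omega)
    have hcu : t ^ 2 ^ j * τ = τ * t ^ 2 ^ j := (Commute.pow_left (show Commute t τ from hc) _).eq
    have h10 := fix2 h22 h3 (t ^ 2 ^ j) τ hτ hcu hu1 hu2
    have hsub : fixF t ⊆ fixF (t ^ 2 ^ j) := by
      intro a ha
      rw [mem_fixF] at ha ⊢
      exact pow_smul_fix t a ha _ (Subgroup.pow_mem _ (Subgroup.mem_zpowers t) _)
    have := Finset.card_le_card hsub
    omega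

omit [IsSimpleGroup Y] in
theorem cent_comm (P : Sylow 3 Y) (σ : Y) (hσP : σ ∈ (P : Subgroup Y)) (g : Y)
    (hg : g ∈ Subgroup.centralizer ((P : Subgroup Y) : Set Y)) : g * σ = σ * g :=
  (Subgroup.mem_centralizer_iff.mp hg σ hσP).symm

omit [IsSimpleGroup Y] in
theorem cent_fix (P : Sylow 3 Y) (g : Y)
    (hg : g ∈ Subgroup.centralizer ((P : Subgroup Y) : Set Y)) : g • P = P :=
  (smul_eq_iff g P).mpr (Subgroup.centralizer_le_normalizer _ hg)

include h22 h3 in
theorem prime_dvd_cent (P : Sylow 3 Y) (q : ℕ) (hq : q.Prime)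
    (hdvd : q ∣ Nat.card (Subgroup.centralizer ((P : Subgroup Y) : Set Y))) :
    q = 2 ∨ q = 3 ∨ q = 5 ∨ q = 7 := by
  obtain ⟨σ, hσ, hσP⟩ := exists_gen h3 P
  have : Fact q.Prime := ⟨hq⟩
  obtain ⟨g, hg⟩ := exists_prime_orderOf_dvd_card'
    (G := ↥(Subgroup.centralizer ((P : Subgroup Y) : Set Y))) q hdvd
  have hg' : orderOf (g : Y) = q := by rw [Subgroup.orderOf_coe, hg]
  have hg1 : (g : Y) ≠ 1 := by
    intro h
    rw [h, orderOf_one] at hg'
    exact hq.one_lt.ne hg'
  have hc : (g : Y) * σ = σ * (g : Y) :=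
    cent_comm P σ (by rw [hσP]; exact Subgroup.mem_zpowers σ) g g.2
  have h1 := nf_mod3 h3 (g : Y) σ hσ hc
  have h2 := nf_lt h22 (g : Y) hg1
  have h4 := nf_mod h22 (g : Y) q 1 (by rw [pow_one, ← hg']; exact pow_orderOf_eq_one _)
  have h5 : q ∣ 22 - (fixF (g : Y)).card := (Nat.modEq_iff_dvd' (by omega)).mp h4
  have h6 : q ≤ 21 := by
    have := Nat.le_of_dvd (by omega) h5
    omega
  have hq2 := hq.two_le
  clear hg' h4 this hg
  generalize (fixF (g : Y)).card = n at *
  interval_cases q <;> first | omega | (exfalso; revert hq; norm_num)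

include h3 in
theorem not_9 (P : Sylow 3 Y) :
    ¬ 9 ∣ Nat.card (Subgroup.centralizer ((P : Subgroup Y) : Set Y)) := by
  intro hdvd
  have h1 : 9 ∣ Nat.card Y := hdvd.trans (Subgroup.card_subgroup_dvd_card _)
  have h2 := Subgroup.card_mul_index (P : Subgroup Y)
  rw [h3 P] at h2
  have h4 := P.not_dvd_index
  omega

include h22 h3 in
theorem not_49 (P : Sylow 3 Y) :
    ¬ 49 ∣ Nat.card (Subgroup.centralizer ((P : Subgroup Y) : Set Y)) := by
  intro hdvd
  obtain ⟨σ, hσ, hσP⟩ := exists_gen h3 P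
  have hσmem : σ ∈ (P : Subgroup Y) := by rw [hσP]; exact Subgroup.mem_zpowers σ
  obtain ⟨H, hHC, hHcard⟩ := exists_sub_of_dvd
    (Subgroup.centralizer ((P : Subgroup Y) : Set Y)) 7 2 (by norm_num; exact hdvd)
  have hdiv := card_dvd_compl H ({P} : Finset (Sylow 3 Y))
    (by
      intro h hh hne a ha
      have hc := cent_comm P σ hσmem h (hHC hh)
      have h1 := fix7 h22 h3 h σ hσ hc hne 2 (by rw [← hHcard]; exact pow_card_sub H h hh)
      obtain ⟨b, hb⟩ := Finset.card_eq_one.mp h1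
      have hP : P ∈ fixF h := (mem_fixF h P).mpr (cent_fix P h (hHC hh))
      have ha' : a ∈ fixF h := (mem_fixF h a).mpr ha
      rw [hb, Finset.mem_singleton] at hP ha'
      rw [Finset.mem_singleton, ha', hP])
    (by
      intro h hh a ha
      rw [Finset.mem_singleton] at ha ⊢
      rw [ha]; exact cent_fix P h (hHC hh))
  rw [hHcard, ← Nat.card_eq_fintype_card, h22, Finset.card_singleton] at hdiv
  norm_num at hdiv

include h22 h3 in
theorem not_25 (P : Sylow 3 Y) :
    ¬ 25 ∣ Nat.card (Subgroup.centralizer ((P : Subgroup Y) : Set Y)) := by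
  intro hdvd
  obtain ⟨σ, hσ, hσP⟩ := exists_gen h3 P
  have hσmem : σ ∈ (P : Subgroup Y) := by rw [hσP]; exact Subgroup.mem_zpowers σ
  obtain ⟨H, hHC, hHcard⟩ := exists_sub_of_dvd
    (Subgroup.centralizer ((P : Subgroup Y) : Set Y)) 5 2 (by norm_num; exact hdvd)
  have hH : IsPGroup 5 H := IsPGroup.of_card hHcard
  obtain ⟨Φ, hΦ⟩ : ∃ Φ : Finset (Sylow 3 Y),
      Φ = (Finset.univ : Finset (Sylow 3 Y)).filter (fun a => ∀ h ∈ H, h • a = a) := ⟨_, rfl⟩
  have hm5 := card_modEq_fixH H hH (Finset.univ : Finset (Sylow 3 Y))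
    (fun _ _ _ _ => Finset.mem_univ _)
  rw [card_univ22 h22, ← hΦ] at hm5
  have hm3 : Φ.card % 3 = 1 := by
    apply card_mod3_of_inv h3 σ hσ P hσmem
    · intro a ha
      rw [hΦ, Finset.mem_filter] at ha ⊢
      refine ⟨Finset.mem_univ _, fun h hh => ?_⟩
      rw [← mul_smul, cent_comm P σ hσmem h (hHC hh), mul_smul, ha.2 h hh]
    · rw [hΦ, Finset.mem_filter]
      exact ⟨Finset.mem_univ _, fun h hh => cent_fix P h (hHC hh)⟩
  have h7 : ∀ h ∈ H, h ≠ 1 → (fixF h).card = 7 := by
    intro h hh hne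
    exact fix5 h22 h3 h σ hσ (cent_comm P σ hσmem h (hHC hh)) hne 2
      (by rw [← hHcard]; exact pow_card_sub H h hh)
  have hsub : ∀ h ∈ H, Φ ⊆ fixF h := by
    intro h hh a ha
    rw [hΦ, Finset.mem_filter] at ha
    exact (mem_fixF h a).mpr (ha.2 h hh)
  obtain ⟨h0, hh0, hne0⟩ := exists_ne_one_of_card H (by rw [hHcard]; norm_num)
  have hle : Φ.card ≤ 7 := by
    rw [← h7 h0 hh0 hne0]; exact Finset.card_le_card (hsub h0 hh0)
  have hΦ7 : Φ.card = 7 := by
    have : 22 % 5 = Φ.card % 5 := hm5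
    omega
  have hdiv := card_dvd_compl H Φ
    (by
      intro h hh hne a ha
      have heq : Φ = fixF h :=
        Finset.eq_of_subset_of_card_le (hsub h hh) (by rw [h7 h hh hne, hΦ7])
      rw [heq]; exact (mem_fixF h a).mpr ha)
    (by
      intro h hh a ha
      have := ha
      rw [hΦ, Finset.mem_filter] at this
      rw [this.2 h hh]; exact ha)
  rw [hHcard, ← Nat.card_eq_fintype_card, h22, hΦ7] at hdiv
  norm_num at hdiv

include h22 h3 in
theorem not_16 (P : Sylow 3 Y) :
    ¬ 16 ∣ Nat.card (Subgroup.centralizer ((P : Subgroup Y) : Set Y)) := by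
  intro hdvd
  obtain ⟨σ, hσ, hσP⟩ := exists_gen h3 P
  have hσmem : σ ∈ (P : Subgroup Y) := by rw [hσP]; exact Subgroup.mem_zpowers σ
  obtain ⟨T, hTC, hTcard⟩ := exists_sub_of_dvd
    (Subgroup.centralizer ((P : Subgroup Y) : Set Y)) 2 4 (by norm_num; exact hdvd)
  have hT : IsPGroup 2 T := IsPGroup.of_card hTcard
  have hTcard' : Nat.card ↥T = 16 := by rw [hTcard]; norm_num
  have hcomm : ∀ t ∈ T, t * σ = σ * t := fun t ht => cent_comm P σ hσmem t (hTC ht)
  have hfixP : ∀ t ∈ T, t • P = P := fun t ht => cent_fix P t (hTC ht)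
  have hpow : ∀ t ∈ T, t ^ 2 ^ 4 = 1 := fun t ht => by
    rw [← hTcard]; exact pow_card_sub T t ht
  have hle10 : ∀ t ∈ T, t ≠ 1 → (fixF t).card ≤ 10 := fun t ht hne =>
    fix2elt h22 h3 t σ hσ (hcomm t ht) hne 4 (hpow t ht)
  -- a central involution
  obtain ⟨z, hzT, hz2, hz1, hzc⟩ : ∃ z ∈ T, z ^ 2 = 1 ∧ z ≠ 1 ∧ ∀ t ∈ T, t * z = z * t := by
    have hnt : Nontrivial ↥T := by
      rw [← Finite.one_lt_card_iff_nontrivial, hTcard']; norm_num
    have hcn : Nontrivial ↥(Subgroup.center ↥T) := hT.center_nontrivial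
    have hcp : IsPGroup 2 ↥(Subgroup.center ↥T) := hT.to_subgroup _
    obtain ⟨n, hn0, hn⟩ := hcp.nontrivial_iff_card.mp hcn
    obtain ⟨w, hw⟩ := exists_prime_orderOf_dvd_card' (G := ↥(Subgroup.center ↥T)) 2
      (by rw [hn]; exact dvd_pow_self 2 hn0.ne')
    have hord : orderOf ((w : ↥T) : Y) = 2 := by
      rw [Subgroup.orderOf_coe, Subgroup.orderOf_coe, hw]
    refine ⟨((w : ↥T) : Y), (w : ↥T).2, ?_, ?_, ?_⟩
    · rw [← hord]; exact pow_orderOf_eq_one _
    · intro h
      rw [h, orderOf_one] at hord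
      omega
    · intro t ht
      have := Subgroup.mem_center_iff.mp w.2 ⟨t, ht⟩
      exact congrArg Subtype.val this
  have hFcard : (fixF z).card = 10 := fix2 h22 h3 z σ hσ (hcomm z hzT) hz1 hz2
  have hFinv : ∀ t ∈ T, ∀ a ∈ fixF z, t • a ∈ fixF z := by
    intro t ht a ha
    rw [mem_fixF] at ha ⊢
    rw [← mul_smul, ← hzc t ht, mul_smul, ha]
  have hFσ : ∀ a ∈ fixF z, σ • a ∈ fixF z := by
    intro a ha
    rw [mem_fixF] at ha ⊢
    rw [← mul_smul, hcomm z hzT, mul_smul, ha]
  have hPF : P ∈ fixF z := (mem_fixF z P).mpr (hfixP z hzT)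
  -- for any subgroup `T1 ≤ T`, the set of `T1`-fixed points in `F` has 4 or 10 elements
  have hkey : ∀ T1 : Subgroup Y, T1 ≤ T →
      ((fixF z).filter (fun a => ∀ t ∈ T1, t • a = a)).card = 4 ∨
      ((fixF z).filter (fun a => ∀ t ∈ T1, t • a = a)).card = 10 := by
    intro T1 hT1
    have hT1p : IsPGroup 2 T1 := hT.to_le hT1
    have hm2 := card_modEq_fixH T1 hT1p (fixF z) (fun t ht a ha => hFinv t (hT1 ht) a ha)
    rw [hFcard] at hm2
    have hm3 : ((fixF z).filter (fun a => ∀ t ∈ T1, t • a = a)).card % 3 = 1 := by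
      apply card_mod3_of_inv h3 σ hσ P hσmem
      · intro a ha
        rw [Finset.mem_filter] at ha ⊢
        refine ⟨hFσ a ha.1, fun t ht => ?_⟩
        rw [← mul_smul, hcomm t (hT1 ht), mul_smul, ha.2 t ht]
      · rw [Finset.mem_filter]
        exact ⟨hPF, fun t ht => hfixP t (hT1 ht)⟩
    have hle : ((fixF z).filter (fun a => ∀ t ∈ T1, t • a = a)).card ≤ 10 := by
      rw [← hFcard]; exact Finset.card_le_card (Finset.filter_subset _ _)
    have : 10 % 2 = ((fixF z).filter (fun a => ∀ t ∈ T1, t • a = a)).card % 2 := hm2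
    omega
  -- a subgroup of order at least 8 fixing `F` pointwise
  obtain ⟨T1, hT1, hT1card, hT1fix⟩ : ∃ T1 : Subgroup Y, T1 ≤ T ∧ 8 ≤ Nat.card T1 ∧
      ∀ t ∈ T1, ∀ a ∈ fixF z, t • a = a := by
    rcases hkey T le_rfl with h4 | h10
    · have hsplit := Finset.card_filter_add_card_filter_not (s := fixF z)
        (fun a => ∀ t ∈ T, t • a = a)
      rw [h4, hFcard] at hsplit
      have hex : ∃ γ ∈ (fixF z).filter (fun a => ¬ ∀ t ∈ T, t • a = a),
          ¬ 4 ∣ (MulAction.stabilizer ↥T γ).index := by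
        by_contra hcon0
        have hcon : ∀ γ ∈ (fixF z).filter (fun a => ¬ ∀ t ∈ T, t • a = a),
            4 ∣ (MulAction.stabilizer ↥T γ).index := by
          intro γ hγ
          by_contra h
          exact hcon0 ⟨γ, hγ, h⟩
        have hd := odl T 4 ((fixF z).filter (fun a => ¬ ∀ t ∈ T, t • a = a))
          (by
            intro t ht a ha
            rw [Finset.mem_filter] at ha ⊢
            refine ⟨hFinv t ht a ha.1, fun hfix => ha.2 ?_⟩
            intro g hg
            have h1 := hfix (t * g * t⁻¹) (T.mul_mem (T.mul_mem ht hg) (T.inv_mem ht))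
            rw [mul_smul, mul_smul, inv_smul_smul] at h1
            exact smul_left_cancel t h1)
          hcon
        obtain ⟨c, hc⟩ := hd
        rw [hc] at hsplit
        omega
      obtain ⟨γ, hγ, hγidx⟩ := hex
      rw [Finset.mem_filter] at hγ
      obtain ⟨S, hS⟩ : ∃ S : Subgroup ↥T, S = MulAction.stabilizer ↥T γ := ⟨_, rfl⟩
      rw [← hS] at hγidx
      have hSidx := Subgroup.card_mul_index S
      rw [hTcard'] at hSidx
      have hScard : 8 ≤ Nat.card S := by
        have hdvd' : S.index ∣ 16 := ⟨Nat.card S, by rw [mul_comm]; exact hSidx.symm⟩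
        have hle : S.index ≤ 16 := Nat.le_of_dvd (by norm_num) hdvd'
        generalize S.index = i at *
        interval_cases i <;> omega
      have hγfix : ∀ t ∈ S.map T.subtype, t • γ = γ := by
        intro t ht
        obtain ⟨s, hs, rfl⟩ := Subgroup.mem_map.mp ht
        rw [hS] at hs
        exact MulAction.mem_stabilizer_iff.mp hs
      have hk := hkey (S.map T.subtype) (Subgroup.map_subtype_le S)
      have hsub : insert γ ((fixF z).filter (fun a => ∀ t ∈ T, t • a = a)) ⊆
          (fixF z).filter (fun a => ∀ t ∈ S.map T.subtype, t • a = a) := by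
        intro a ha
        rw [Finset.mem_insert] at ha
        rw [Finset.mem_filter]
        rcases ha with rfl | ha
        · exact ⟨hγ.1, hγfix⟩
        · rw [Finset.mem_filter] at ha
          exact ⟨ha.1, fun t ht => ha.2 t (Subgroup.map_subtype_le S ht)⟩
      have hcard5 : 5 ≤ ((fixF z).filter (fun a => ∀ t ∈ S.map T.subtype, t • a = a)).card := by
        have := Finset.card_le_card hsub
        rw [Finset.card_insert_of_notMem (by
          intro hmem
          rw [Finset.mem_filter] at hmem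
          exact hγ.2 hmem.2), h4] at this
        exact this
      have h10' : ((fixF z).filter (fun a => ∀ t ∈ S.map T.subtype, t • a = a)).card = 10 := by
        omega
      have heq : (fixF z).filter (fun a => ∀ t ∈ S.map T.subtype, t • a = a) = fixF z :=
        Finset.eq_of_subset_of_card_le (Finset.filter_subset _ _) (by rw [h10', hFcard])
      refine ⟨S.map T.subtype, Subgroup.map_subtype_le S, ?_, ?_⟩
      · rw [Subgroup.card_map_of_injective (Subgroup.subtype_injective T)]; exact hScard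
      · intro t ht a ha
        rw [← heq, Finset.mem_filter] at ha
        exact ha.2 t ht
    · refine ⟨T, le_rfl, by rw [hTcard']; norm_num, ?_⟩
      have heq : (fixF z).filter (fun a => ∀ t ∈ T, t • a = a) = fixF z :=
        Finset.eq_of_subset_of_card_le (Finset.filter_subset _ _) (by rw [h10, hFcard])
      intro t ht a ha
      rw [← heq, Finset.mem_filter] at ha
      exact ha.2 t ht
  have hdiv := card_dvd_compl T1 (fixF z)
    (by
      intro t ht hne a ha
      have hsub : fixF z ⊆ fixF t := fun b hb => (mem_fixF t b).mpr (hT1fix t ht b hb)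
      have heq : fixF z = fixF t :=
        Finset.eq_of_subset_of_card_le hsub (by rw [hFcard]; exact hle10 t (hT1 ht) hne)
      rw [heq]; exact (mem_fixF t a).mpr ha)
    (by
      intro t ht a ha
      rw [hT1fix t ht a ha]; exact ha)
  rw [← Nat.card_eq_fintype_card, h22, hFcard] at hdiv
  have hd16 : Nat.card T1 ∣ 16 := by
    have := Subgroup.card_dvd_of_le hT1
    rwa [hTcard'] at this
  have hle16 := Nat.le_of_dvd (by norm_num) hd16
  generalize Nat.card T1 = m at *
  interval_cases m <;> omega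

end part4

end Cfsg.Agent.H70.N22
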