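import Mathlib
import Cfsg.Agent.H70.N22d

set_option autoImplicit false
set_option linter.unusedSectionVars false
open scoped Pointwise
open Classical

noncomputable section

namespace Cfsg.Agent.H70.N22

open Cfsg.Agent.H70.N15 (sylow_eq_of_le card_eq_relIndex_mul smul_eq_iff card_eq_index
  inf_normalizer_le exists_sylow_eq index_two_of_hom)

section part5

attribute [local instance] instFintypeSylowThree factThree factEleven factTwo factFive factSeven

theorem fact_le (c q k : ℕ) (hq : q.Prime) (hc : c ≠ 0) (h : ¬ q ^ (k + 1) ∣ c)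
    (h840 : q ^ k ∣ 840) : c.factorization q ≤ (840 : ℕ).factorization q := by
  have h1 : c.factorization q ≤ k := by
    by_contra hcon
    push Not at hcon
    exact h ((hq.pow_dvd_iff_le_factorization hc).mpr hcon)
  exact h1.trans ((hq.pow_dvd_iff_le_factorization (by norm_num)).mp h840)

variable {Y : Type*} [Group Y] [Finite Y]
variable [IsSimpleGroup Y]
variable (h22 : Nat.card (Sylow 3 Y) = 22)
variable (h3 : ∀ P : Sylow 3 Y, Nat.card (P : Subgroup Y) = 3)

include h22 h3 in
theorem cent_dvd_840 (P : Sylow 3 Y) :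
    Nat.card (Subgroup.centralizer ((P : Subgroup Y) : Set Y)) ∣ 840 := by
  have hpos : Nat.card (Subgroup.centralizer ((P : Subgroup Y) : Set Y)) ≠ 0 := Nat.card_pos.ne'
  have h16 := not_16 h22 h3 P
  have h9 := not_9 h3 P
  have h25 := not_25 h22 h3 P
  have h49 := not_49 h22 h3 P
  have hpr := prime_dvd_cent h22 h3 P
  generalize Nat.card (Subgroup.centralizer ((P : Subgroup Y) : Set Y)) = c at *
  rw [← Nat.factorization_le_iff_dvd hpos (by norm_num)]
  refine Finsupp.le_def.mpr (fun q => ?_)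
  by_cases hq : q.Prime
  · by_cases hdvd : q ∣ c
    · rcases hpr q hq hdvd with rfl | rfl | rfl | rfl
      · exact fact_le c 2 3 hq hpos (by norm_num; exact h16) (by norm_num)
      · exact fact_le c 3 1 hq hpos (by norm_num; exact h9) (by norm_num)
      · exact fact_le c 5 1 hq hpos (by norm_num; exact h25) (by norm_num)
      · exact fact_le c 7 1 hq hpos (by norm_num; exact h49) (by norm_num)
    · rw [Nat.factorization_eq_zero_of_not_dvd hdvd]; exact Nat.zero_le _
  · rw [Nat.factorization_eq_zero_of_not_prime _ hq]; exact Nat.zero_le _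

include h22 h3 in
theorem cent_cases (P : Sylow 3 Y) :
    Nat.card (Subgroup.centralizer ((P : Subgroup Y) : Set Y)) = 6 ∨
    Nat.card (Subgroup.centralizer ((P : Subgroup Y) : Set Y)) = 105 := by
  have h840 := cent_dvd_840 h22 h3 P
  have h3dvd : 3 ∣ Nat.card (Subgroup.centralizer ((P : Subgroup Y) : Set Y)) := by
    have hcyc : IsCyclic ↥(P : Subgroup Y) := isCyclic_of_prime_card (h3 P)
    have hPC : (P : Subgroup Y) ≤ Subgroup.centralizer ((P : Subgroup Y) : Set Y) :=
      Subgroup.le_centralizer_iff_isMulCommutative.mpr IsCyclic.isMulCommutative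
    have := Subgroup.card_dvd_of_le hPC
    rwa [h3 P] at this
  have hmod := norm_P_mod h22 h3 P
  rw [norm_eq_two_cent h22 h3 P] at hmod
  generalize Nat.card (Subgroup.centralizer ((P : Subgroup Y) : Set Y)) = c at *
  obtain ⟨h, rfl⟩ := h3dvd
  have h280 : h ∣ 280 := Nat.dvd_of_mul_dvd_mul_left (by norm_num : 0 < 3) h840
  have hh : h ≤ 280 := Nat.le_of_dvd (by norm_num) h280
  clear h840
  interval_cases h <;> omega

include h22 h3 in
theorem not_105 (P : Sylow 3 Y) :
    Nat.card (Subgroup.centralizer ((P : Subgroup Y) : Set Y)) ≠ 105 := by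
  intro hc
  obtain ⟨σ, hσ, hσP⟩ := exists_gen h3 P
  have hσmem : σ ∈ (P : Subgroup Y) := by rw [hσP]; exact Subgroup.mem_zpowers σ
  have hN : Nat.card (Subgroup.normalizer ((P : Subgroup Y) : Set Y)) = 210 := by
    rw [norm_eq_two_cent h22 h3 P, hc]
  have hY : Nat.card Y = 4620 := by rw [cardY h22 P, hN]
  obtain ⟨y, hy⟩ := exists_prime_orderOf_dvd_card'
    (G := ↥(Subgroup.centralizer ((P : Subgroup Y) : Set Y))) 7 (by rw [hc]; norm_num)
  have hy7 : orderOf (y : Y) = 7 := by rw [Subgroup.orderOf_coe, hy]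
  have hyc : (y : Y) * σ = σ * (y : Y) := cent_comm P σ hσmem y y.2
  have hy1 : (y : Y) ≠ 1 := by
    intro h; rw [h, orderOf_one] at hy7; omega
  have hfixw : ∀ w ∈ Subgroup.zpowers (y : Y), w ≠ 1 → ∀ a : Sylow 3 Y, w • a = a → a = P := by
    intro w hw hne a ha
    have hwC : w ∈ Subgroup.centralizer ((P : Subgroup Y) : Set Y) :=
      (Subgroup.zpowers_le.mpr y.2) hw
    have hw7 : w ^ 7 ^ 1 = 1 := by
      have := pow_card_sub (Subgroup.zpowers (y : Y)) w hw
      rwa [Nat.card_zpowers, hy7] at this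
    have h1 := fix7 h22 h3 w σ hσ (cent_comm P σ hσmem w hwC) hne 1 hw7
    obtain ⟨b, hb⟩ := Finset.card_eq_one.mp h1
    have hP : P ∈ fixF w := (mem_fixF w P).mpr (cent_fix P w hwC)
    have ha' : a ∈ fixF w := (mem_fixF w a).mpr ha
    rw [hb, Finset.mem_singleton] at hP ha'
    rw [ha', hP]
  have hNle : Subgroup.normalizer ((Subgroup.zpowers (y : Y) : Subgroup Y) : Set Y) ≤
      Subgroup.normalizer ((P : Subgroup Y) : Set Y) := by
    intro g hg
    rw [← smul_eq_iff]
    rw [Subgroup.mem_normalizer_iff] at hg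
    have hw := (hg (y : Y)).mp (Subgroup.mem_zpowers _)
    apply hfixw (g * (y : Y) * g⁻¹) hw
    · intro h
      apply hy1
      have : (y : Y) = g⁻¹ * (g * (y : Y) * g⁻¹) * g := by group
      rw [this, h]; group
    · rw [mul_smul, mul_smul, inv_smul_smul, cent_fix P (y : Y) y.2]
  obtain ⟨N7, hN7⟩ : ∃ N7 : Subgroup Y,
      N7 = Subgroup.normalizer ((Subgroup.zpowers (y : Y) : Subgroup Y) : Set Y) := ⟨_, rfl⟩
  rw [← hN7] at hNle
  have h210 : Nat.card N7 ∣ 210 := by
    have := Subgroup.card_dvd_of_le hNle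
    rwa [hN] at this
  have h7 : 7 ∣ Nat.card N7 := by
    have := Subgroup.card_dvd_of_le
      (show Subgroup.zpowers (y : Y) ≤ N7 from by rw [hN7]; exact Subgroup.le_normalizer)
    rwa [Nat.card_zpowers, hy7] at this
  have hσN7 : σ ∈ N7 := by
    rw [hN7]
    exact Subgroup.centralizer_le_normalizer _ (mem_cent_zpowers (y : Y) σ hyc.symm)
  have h3' : 3 ∣ Nat.card N7 := by
    have := orderOf_dvd_natCard (⟨σ, hσN7⟩ : ↥N7)
    rwa [Subgroup.orderOf_mk, hσ] at this
  have h21 : 21 ∣ Nat.card N7 := Nat.Coprime.mul_dvd_of_dvd_of_dvd (by norm_num) h3' h7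
  obtain ⟨R, hR⟩ := exists_sylow_eq (p := 7) (Subgroup.zpowers (y : Y)) 1
    (by rw [Nat.card_zpowers, hy7]; norm_num)
    (by rw [hY]; norm_num)
  have hmod := card_sylow_modEq_one 7 Y
  rw [card_eq_index R, hR, ← hN7] at hmod
  have hidx := Subgroup.card_mul_index N7
  rw [hY] at hidx
  have hN7card : Nat.card N7 = 210 := by
    obtain ⟨m, hm⟩ := h21
    rw [hm] at hidx h210 ⊢
    have hm10 : m ∣ 10 := Nat.dvd_of_mul_dvd_mul_left (by norm_num : 0 < 21) h210
    have hle := Nat.le_of_dvd (by norm_num) hm10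
    have hmod' : N7.index % 7 = 1 := hmod
    clear h210 hmod hm
    generalize N7.index = i at *
    interval_cases m <;> omega
  obtain ⟨v, hv⟩ := exists_prime_orderOf_dvd_card' (G := ↥N7) 5 (by rw [hN7card]; norm_num)
  have hv5 : orderOf (v : Y) = 5 := by rw [Subgroup.orderOf_coe, hv]
  have hv1 : (v : Y) ≠ 1 := by
    intro h; rw [h, orderOf_one] at hv5; omega
  have hvP : (v : Y) • P = P := (smul_eq_iff _ P).mpr (hNle v.2)
  have hvc : (v : Y) * σ = σ * (v : Y) :=
    commute_of_fix_odd h3 (v : Y) (by rw [hv5]; decide) P hvP σ hσ hσmem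
  have hv7 : (fixF (v : Y)).card = 7 :=
    fix5 h22 h3 (v : Y) σ hσ hvc hv1 1 (by rw [pow_one, ← hv5]; exact pow_orderOf_eq_one _)
  have hvy : (v : Y) * (y : Y) = (y : Y) * (v : Y) := by
    apply commute_of_normalizes 7 hy7
    · have hvN := hN7.le v.2
      rw [Subgroup.mem_normalizer_iff] at hvN
      exact (hvN (y : Y)).mp (Subgroup.mem_zpowers _)
    · rw [hv5]; decide
  have h1 := card_modEq_fixElt (p := 7) (y : Y) 1
    (by rw [pow_one, ← hy7]; exact pow_orderOf_eq_one _) (fixF (v : Y))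
    (by
      intro a ha
      rw [mem_fixF] at ha ⊢
      rw [← mul_smul, hvy, mul_smul, ha])
  have h2 : (fixF (v : Y)).filter (fun a => (y : Y) • a = a) = {P} := by
    ext a
    rw [Finset.mem_filter, Finset.mem_singleton, mem_fixF]
    constructor
    · rintro ⟨_, ha⟩
      exact hfixw (y : Y) (Subgroup.mem_zpowers _) hy1 a ha
    · rintro rfl
      exact ⟨hvP, cent_fix a (y : Y) y.2⟩
  rw [h2, Finset.card_singleton, hv7] at h1
  exact absurd h1 (by decide)

include h22 h3 in
theorem cent_six (P : Sylow 3 Y) :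
    Nat.card (Subgroup.centralizer ((P : Subgroup Y) : Set Y)) = 6 := by
  rcases cent_cases h22 h3 P with h | h
  · exact h
  · exact absurd h (not_105 h22 h3 P)

include h22 h3 in
theorem invol_unique (Q : Sylow 3 Y) (d d' : Y)
    (hd : d ∈ Subgroup.centralizer ((Q : Subgroup Y) : Set Y))
    (hd' : d' ∈ Subgroup.centralizer ((Q : Subgroup Y) : Set Y))
    (hd2 : d ^ 2 = 1) (hd1 : d ≠ 1) (hd'2 : d' ^ 2 = 1) (hd'1 : d' ≠ 1) : d = d' := by
  have hcyc : IsCyclic ↥(Q : Subgroup Y) := isCyclic_of_prime_card (h3 Q)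
  have hQC : (Q : Subgroup Y) ≤ Subgroup.centralizer ((Q : Subgroup Y) : Set Y) :=
    Subgroup.le_centralizer_iff_isMulCommutative.mpr IsCyclic.isMulCommutative
  have hrel := card_eq_relIndex_mul hQC
  rw [cent_six h22 h3 Q, h3 Q] at hrel
  have hidx : ((Q : Subgroup Y).subgroupOf
      (Subgroup.centralizer ((Q : Subgroup Y) : Set Y))).index = 2 := by
    change (Q : Subgroup Y).relIndex _ = 2
    omega
  have hnot : ∀ e : Y, e ^ 2 = 1 → e ≠ 1 → e ∉ (Q : Subgroup Y) := by
    intro e he2 he1 hmem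
    have h3e := pow_card_sub (Q : Subgroup Y) e hmem
    rw [h3 Q] at h3e
    apply he1
    calc e = e ^ 3 * (e ^ 2)⁻¹ := by group
      _ = 1 := by rw [h3e, he2]; group
  have hmul := Subgroup.mul_mem_iff_of_index_two hidx
    (a := (⟨d, hd⟩ : ↥(Subgroup.centralizer ((Q : Subgroup Y) : Set Y)))) (b := ⟨d', hd'⟩)
  rw [Subgroup.mem_subgroupOf, Subgroup.mem_subgroupOf, Subgroup.mem_subgroupOf] at hmul
  have hw : d * d' ∈ (Q : Subgroup Y) :=
    hmul.mpr ⟨fun h => absurd h (hnot d hd2 hd1), fun h => absurd h (hnot d' hd'2 hd'1)⟩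
  have hcw : (d * d') * d = d * (d * d') := Subgroup.mem_centralizer_iff.mp hd (d * d') hw
  have hcomm : d' * d = d * d' := by
    have : d * (d' * d) = d * (d * d') := by rw [← mul_assoc]; exact hcw
    exact mul_left_cancel this
  have hw2 : (d * d') ^ 2 = 1 := by
    rw [pow_two]
    calc d * d' * (d * d') = d * (d' * d) * d' := by group
      _ = d * (d * d') * d' := by rw [hcomm]
      _ = d ^ 2 * d' ^ 2 := by simp only [pow_two, mul_assoc]
      _ = 1 := by rw [hd2, hd'2, one_mul]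
  have hw3 := pow_card_sub (Q : Subgroup Y) (d * d') hw
  rw [h3 Q] at hw3
  have hw1 : d * d' = 1 := by
    calc d * d' = (d * d') ^ 3 * ((d * d') ^ 2)⁻¹ := by group
      _ = 1 := by rw [hw3, hw2]; group
  have hdinv : d⁻¹ = d := by
    rw [inv_eq_iff_mul_eq_one, ← pow_two]; exact hd2
  rw [eq_inv_of_mul_eq_one_right hw1]
  exact hdinv.symm

include h22 h3 in
theorem invol_cent (d : Y) (hcard : (fixF d).card = 10) (Q : Sylow 3 Y)
    (hQ : d • Q = Q) : d ∈ Subgroup.centralizer ((Q : Subgroup Y) : Set Y) := by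
  obtain ⟨τ, hτ, hτQ⟩ := exists_gen h3 Q
  have hτmem : τ ∈ (Q : Subgroup Y) := by rw [hτQ]; exact Subgroup.mem_zpowers τ
  have hdN : d ∈ Subgroup.normalizer ((Q : Subgroup Y) : Set Y) := (smul_eq_iff d Q).mp hQ
  have hconj : d * τ * d⁻¹ ∈ Subgroup.zpowers τ := by
    rw [← hτQ]
    exact (Subgroup.mem_normalizer_iff.mp hdN τ).mp hτmem
  have hτ1 : τ ≠ 1 := by
    intro h; rw [h, orderOf_one] at hτ; omega
  have hτ3 : τ ^ 3 = 1 := by rw [← hτ]; exact pow_orderOf_eq_one τ
  rcases mem_zpowers_three τ _ hτ hconj with h | h | h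
  · exfalso; apply hτ1
    have : τ = d⁻¹ * (d * τ * d⁻¹) * d := by group
    rw [this, h]; group
  · rw [hτQ]
    apply mem_cent_zpowers
    calc d * τ = (d * τ * d⁻¹) * d := by group
      _ = τ * d := by rw [h]
  · exfalso
    have hpow : ∀ k : ℕ, d * τ ^ k * d⁻¹ = (τ ^ 2) ^ k := by
      intro k
      rw [← h, conj_pow]
    have hbound := trans_bound τ 3 ((fixF d).erase Q) (by
      intro k hk0 hk3 a ha hmem
      rw [Finset.mem_erase, mem_fixF] at ha hmem
      have h1 : d • (τ ^ k • a) = (τ ^ 2) ^ k • a := by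
        have h0 : d⁻¹ • a = a := by rw [inv_smul_eq_iff, ha.2]
        rw [← hpow k, mul_smul, mul_smul, h0]
      rw [hmem.2] at h1
      have h2 : τ ^ k • a = a := by
        have hkk : (τ ^ 2) ^ k = τ ^ k * τ ^ k := by
          rw [← pow_mul, ← pow_add]; congr 1; omega
        rw [hkk, mul_smul] at h1
        exact (smul_left_cancel _ h1).symm
      have h4 : τ • a = a := by
        interval_cases k
        · rwa [pow_one] at h2
        · calc τ • a = τ • (τ ^ 2 • a) := by rw [h2]
            _ = τ ^ 3 • a := by rw [← mul_smul]; congr 1; group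
            _ = a := by rw [hτ3, one_smul]
      exact ha.1 ((fix_order3 h3 τ hτ Q a hτmem).mp h4))
    rw [← Nat.card_eq_fintype_card, h22, Finset.card_erase_of_mem ((mem_fixF d Q).mpr hQ),
      hcard] at hbound
    omega

include h22 h3 in
theorem simple_case : False := by
  have hex : ∀ Q : Sylow 3 Y, ∃ d : Y,
      d ∈ Subgroup.centralizer ((Q : Subgroup Y) : Set Y) ∧ d ^ 2 = 1 ∧ d ≠ 1 := by
    intro Q
    obtain ⟨w, hw⟩ := exists_prime_orderOf_dvd_card'
      (G := ↥(Subgroup.centralizer ((Q : Subgroup Y) : Set Y))) 2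
      (by rw [cent_six h22 h3 Q]; norm_num)
    have hord : orderOf (w : Y) = 2 := by rw [Subgroup.orderOf_coe, hw]
    refine ⟨(w : Y), w.2, ?_, ?_⟩
    · rw [← hord]; exact pow_orderOf_eq_one _
    · intro h; rw [h, orderOf_one] at hord; omega
  choose d hdC hd2 hd1 using hex
  have hcard : ∀ Q, (fixF (d Q)).card = 10 := by
    intro Q
    obtain ⟨τ, hτ, hτQ⟩ := exists_gen h3 Q
    have hτmem : τ ∈ (Q : Subgroup Y) := by rw [hτQ]; exact Subgroup.mem_zpowers τ
    exact fix2 h22 h3 (d Q) τ hτ (cent_comm Q τ hτmem (d Q) (hdC Q)) (hd1 Q) (hd2 Q)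
  have hfib : ∀ Q Q' : Sylow 3 Y, d Q' = d Q ↔ Q' ∈ fixF (d Q) := by
    intro Q Q'
    rw [mem_fixF]
    constructor
    · intro h
      rw [← h]; exact cent_fix Q' (d Q') (hdC Q')
    · intro h
      have hc := invol_cent h22 h3 (d Q) (hcard Q) Q' h
      exact invol_unique h22 h3 Q' (d Q') (d Q) (hdC Q') hc (hd2 Q') (hd1 Q') (hd2 Q) (hd1 Q)
  have hsum := Finset.card_eq_sum_card_fiberwise (f := d)
    (s := (Finset.univ : Finset (Sylow 3 Y))) (t := Finset.univ.image d) (by
      intro a _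
      exact Finset.mem_coe.mpr (Finset.mem_image_of_mem d (Finset.mem_univ a)))
  have hconst : ∀ b ∈ Finset.univ.image d,
      ((Finset.univ : Finset (Sylow 3 Y)).filter (fun a => d a = b)).card = 10 := by
    intro b hb
    obtain ⟨Q, _, rfl⟩ := Finset.mem_image.mp hb
    rw [← hcard Q]
    congr 1
    ext Q'
    rw [Finset.mem_filter, hfib Q Q']
    simp
  rw [Finset.sum_const_nat hconst, card_univ22 h22] at hsum
  omega

end part5

end Cfsg.Agent.H70.N22
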