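import Mathlib
import Cfsg.Agent.H70.N15a
import Cfsg.Agent.H70.N15b

set_option autoImplicit false

namespace Cfsg.Agent.H70.N35

open Cfsg.Agent.H70.N15

theorem card_eq_mul35 {G : Type*} [Group G] [Finite G] (h35 : Nat.card (Sylow 17 G) = 35)
    (P Q : Sylow 17 G) (hne : P ≠ Q) :
    Nat.card (P : Subgroup G) = 17 * Nat.card ↥((P : Subgroup G) ⊓ (Q : Subgroup G)) := by
  have : Fact (Nat.Prime 17) := ⟨by norm_num⟩
  have hcard : Nat.card (P : Subgroup G) = ((P : Subgroup G) ⊓ Q).relIndex P *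
      Nat.card ↥((P : Subgroup G) ⊓ (Q : Subgroup G)) := card_eq_relIndex_mul inf_le_left
  have hstab : MulAction.stabilizer ↥(P : Subgroup G) Q =
      (Subgroup.normalizer ((Q : Subgroup G) : Set G)).subgroupOf P := by
    ext g
    rw [MulAction.mem_stabilizer_iff, Subgroup.mem_subgroupOf, ← smul_eq_iff]
    rfl
  have e : Subgroup.normalizer ((Q : Subgroup G) : Set G) ⊓ (P : Subgroup G) =
      (P : Subgroup G) ⊓ Q :=
    le_antisymm (le_inf inf_le_right (by rw [inf_comm]; exact inf_normalizer_le P Q))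
      (le_inf (inf_le_right.trans Subgroup.le_normalizer) inf_le_left)
  have hidx : (MulAction.stabilizer ↥(P : Subgroup G) Q).index =
      ((P : Subgroup G) ⊓ Q).relIndex P := by
    rw [hstab, ← e, Subgroup.inf_relIndex_right]
    rfl
  have horb : (MulAction.stabilizer ↥(P : Subgroup G) Q).index ≤ 35 := by
    rw [MulAction.index_stabilizer, ← h35]
    exact Set.ncard_le_card _
  rw [hidx] at horb
  obtain ⟨n, hn⟩ := IsPGroup.iff_card.mp P.isPGroup'
  have hrdvd : ((P : Subgroup G) ⊓ Q).relIndex P ∣ 17 ^ n := by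
    rw [← hn]; exact Subgroup.relIndex_dvd_card _ _
  obtain ⟨j, hj, hrj⟩ := (Nat.dvd_prime_pow (by norm_num)).mp hrdvd
  have hr1 : ((P : Subgroup G) ⊓ Q).relIndex P ≠ 1 := by
    intro h1
    rw [Subgroup.relIndex_eq_one] at h1
    exact hne (sylow_eq_of_le P Q (h1.trans inf_le_right))
  have hj1 : j = 1 := by
    rcases j with _ | _ | j
    · rw [pow_zero] at hrj; exact absurd hrj hr1
    · rfl
    · exfalso
      have h49 : 17 ^ 2 ≤ 17 ^ (j + 1 + 1) := Nat.pow_le_pow_right (by norm_num) (by omega)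
      omega
  rw [hcard, hrj, hj1, pow_one]

theorem card_containing_modEq35 {G : Type*} [Group G] [Finite G] (X : Subgroup G)
    (hX : IsPGroup 17 X) :
    Nat.card (Sylow 17 G) ≡ Nat.card {R : Sylow 17 G // X ≤ (R : Subgroup G)} [MOD 17] := by
  have : Fact (Nat.Prime 17) := ⟨by norm_num⟩
  have h := hX.card_modEq_card_fixedPoints (Sylow 17 G)
  have e : (MulAction.fixedPoints ↥X (Sylow 17 G)) = {R : Sylow 17 G | X ≤ (R : Subgroup G)} := by
    ext R
    exact hX.sylow_mem_fixedPoints_iff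
  rw [e] at h
  exact h

theorem part1_35 {G : Type*} [Group G] [Finite G] (h35 : Nat.card (Sylow 17 G) = 35) :
    ∃ O : Subgroup G, ∀ P Q : Sylow 17 G, P ≠ Q →
      ((P : Subgroup G) ⊓ (Q : Subgroup G) = O ∧ Nat.card (P : Subgroup G) = 17 * Nat.card O) := by
  classical
  have : Fact (Nat.Prime 17) := ⟨by norm_num⟩
  letI : Fintype (Sylow 17 G) := Fintype.ofFinite _
  have hcardΩ : Fintype.card (Sylow 17 G) = 35 := by rw [← Nat.card_eq_fintype_card, h35]
  have hsame : ∀ P Q : Sylow 17 G, Nat.card (P : Subgroup G) = Nat.card (Q : Subgroup G) := by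
    intro P Q; rw [Sylow.card_eq_multiplicity, Sylow.card_eq_multiplicity]
  let T : Subgroup G → Finset (Sylow 17 G) := fun X =>
    Finset.univ.filter (fun R : Sylow 17 G => X ≤ (R : Subgroup G))
  have hTmem : ∀ (X : Subgroup G) (R : Sylow 17 G), R ∈ T X ↔ X ≤ (R : Subgroup G) := by
    intro X R
    simp only [T, Finset.mem_filter, Finset.mem_univ, true_and]
  have hT : ∀ P Q : Sylow 17 G, P ≠ Q →
      (T ((P : Subgroup G) ⊓ Q)).card = 18 ∨ (T ((P : Subgroup G) ⊓ Q)).card = 35 := by
    intro P Q hne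
    have hX : IsPGroup 17 ↥((P : Subgroup G) ⊓ (Q : Subgroup G)) := P.isPGroup'.to_le inf_le_left
    have h1 := card_containing_modEq35 _ hX
    rw [h35, Nat.card_eq_fintype_card, Fintype.card_subtype] at h1
    have h2 : (T ((P : Subgroup G) ⊓ Q)).card ≤ 35 := by
      rw [← hcardΩ]; exact Finset.card_le_univ _
    have h3 : 2 ≤ (T ((P : Subgroup G) ⊓ Q)).card := by
      have hsub : ({P, Q} : Finset (Sylow 17 G)) ⊆ T ((P : Subgroup G) ⊓ Q) := by
        intro R hR
        simp only [Finset.mem_insert, Finset.mem_singleton] at hR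
        rw [hTmem]
        rcases hR with rfl | rfl
        · exact inf_le_left
        · exact inf_le_right
      have := Finset.card_le_card hsub
      rwa [Finset.card_pair hne] at this
    have h4 : 35 % 17 = (T ((P : Subgroup G) ⊓ Q)).card % 17 := h1
    omega
  have hinfcard : ∀ P Q : Sylow 17 G, P ≠ Q → ∀ P' Q' : Sylow 17 G, P' ≠ Q' →
      Nat.card ↥((P : Subgroup G) ⊓ (Q : Subgroup G)) =
        Nat.card ↥((P' : Subgroup G) ⊓ (Q' : Subgroup G)) := by
    intro P Q hne P' Q' hne'
    have h1 := card_eq_mul35 h35 P Q hne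
    have h2 := card_eq_mul35 h35 P' Q' hne'
    have h3 := hsame P P'
    omega
  by_cases hex : ∃ P0 Q0 : Sylow 17 G, P0 ≠ Q0 ∧ (T ((P0 : Subgroup G) ⊓ Q0)).card = 35
  · obtain ⟨P0, Q0, hne0, hc⟩ := hex
    have hall : ∀ R : Sylow 17 G, (P0 : Subgroup G) ⊓ Q0 ≤ R := by
      intro R
      have hu : T ((P0 : Subgroup G) ⊓ Q0) = Finset.univ := by
        rw [← Finset.card_eq_iff_eq_univ, hc, hcardΩ]
      have hR : R ∈ T ((P0 : Subgroup G) ⊓ Q0) := by rw [hu]; exact Finset.mem_univ R
      exact (hTmem _ _).mp hR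
    refine ⟨(P0 : Subgroup G) ⊓ Q0, fun P Q hne => ⟨?_, ?_⟩⟩
    · symm
      apply Subgroup.eq_of_le_of_card_ge (le_inf (hall P) (hall Q))
      exact (hinfcard P Q hne P0 Q0 hne0).le
    · rw [card_eq_mul35 h35 P Q hne, hinfcard P Q hne P0 Q0 hne0]
  · exfalso
    push Not at hex
    have hT8 : ∀ P Q : Sylow 17 G, P ≠ Q → (T ((P : Subgroup G) ⊓ Q)).card = 18 := by
      intro P Q hne
      rcases hT P Q hne with h | h
      · exact h
      · exact absurd h (hex P Q hne)
    let D : Finset (Sylow 17 G × Sylow 17 G) := (Finset.univ : Finset (Sylow 17 G)).offDiag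
    have hDmem : ∀ x : Sylow 17 G × Sylow 17 G, x ∈ D ↔ x.1 ≠ x.2 := by
      intro x
      simp only [D, Finset.mem_offDiag, Finset.mem_univ, true_and]
    have hD : D.card = 1190 := by
      simp only [D, Finset.offDiag_card, Finset.card_univ, hcardΩ]
    let f : Sylow 17 G × Sylow 17 G → Subgroup G :=
      fun x => (x.1 : Subgroup G) ⊓ (x.2 : Subgroup G)
    have hfib := Finset.card_eq_sum_card_fiberwise (f := f) (s := D) (t := D.image f)
      (fun x hx => Finset.mem_coe.mpr (Finset.mem_image_of_mem f (Finset.mem_coe.mp hx)))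
    have hterm : ∀ b ∈ D.image f, (D.filter (fun a => f a = b)).card = 306 := by
      intro b hb
      obtain ⟨⟨P0, Q0⟩, hmem, rfl⟩ := Finset.mem_image.mp hb
      have hne0 : P0 ≠ Q0 := (hDmem _).mp hmem
      have heq : D.filter (fun a => f a = f (P0, Q0)) =
          (T ((P0 : Subgroup G) ⊓ Q0)).offDiag := by
        ext ⟨P, Q⟩
        rw [Finset.mem_filter, hDmem, Finset.mem_offDiag, hTmem, hTmem]
        constructor
        · rintro ⟨hne, heq⟩
          have heq' : (P : Subgroup G) ⊓ Q = (P0 : Subgroup G) ⊓ Q0 := heq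
          refine ⟨?_, ?_, hne⟩
          · rw [← heq']; exact inf_le_left
          · rw [← heq']; exact inf_le_right
        · rintro ⟨h1, h2, hne⟩
          refine ⟨hne, ?_⟩
          change (P : Subgroup G) ⊓ Q = (P0 : Subgroup G) ⊓ Q0
          symm
          apply Subgroup.eq_of_le_of_card_ge (le_inf h1 h2)
          exact (hinfcard P Q hne P0 Q0 hne0).le
      rw [heq, Finset.offDiag_card, hT8 P0 Q0 hne0]
    rw [Finset.sum_congr rfl hterm, Finset.sum_const, smul_eq_mul, hD] at hfib
    omega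

theorem idx2_35 {Z : Type*} [Group Z] [Finite Z] (L : Subgroup Z) (hL : L.index = 2)
    (P : Sylow 17 Z)
    (hP : (Subgroup.normalizer ((P : Subgroup Z) : Set Z)).index = 35) :
    ∃ hPL : (P : Subgroup Z) ≤ L,
      (Subgroup.normalizer (((P.subtype hPL : Sylow 17 ↥L) : Subgroup ↥L) : Set ↥L)).index = 35 := by
  have : Fact (Nat.Prime 17) := ⟨by norm_num⟩
  have : L.Normal := Subgroup.normal_of_index_eq_two hL
  have hPL : (P : Subgroup Z) ≤ L := by
    rw [← Subgroup.relIndex_eq_one]
    have h1 : L.relIndex (P : Subgroup Z) ∣ 2 := hL ▸ Subgroup.relIndex_dvd_index_of_normal L P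
    have h2 : L.relIndex (P : Subgroup Z) ∣ Nat.card (P : Subgroup Z) :=
      Subgroup.relIndex_dvd_card L P
    obtain ⟨k, hk⟩ := IsPGroup.iff_card.mp P.isPGroup'
    rw [hk] at h2
    have h3 : Nat.Coprime 2 (17 ^ k) := Nat.Coprime.pow_right k (by norm_num)
    exact Nat.Coprime.eq_one_of_dvd (Nat.Coprime.coprime_dvd_left h1 h3) h2
  refine ⟨hPL, ?_⟩
  rw [Sylow.coe_subtype, ← Subgroup.subgroupOf_normalizer_eq hPL]
  have e1 : (Subgroup.normalizer ((P : Subgroup Z) : Set Z)).relIndex L * 2 =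
      (Subgroup.normalizer ((P : Subgroup Z) : Set Z) ⊓ L).index := by
    rw [← hL, ← Subgroup.inf_relIndex_right (Subgroup.normalizer ((P : Subgroup Z) : Set Z)) L]
    exact Subgroup.relIndex_mul_index inf_le_right
  have e2 : L.relIndex (Subgroup.normalizer ((P : Subgroup Z) : Set Z)) * 35 =
      (Subgroup.normalizer ((P : Subgroup Z) : Set Z) ⊓ L).index := by
    rw [← hP, ← Subgroup.inf_relIndex_left (Subgroup.normalizer ((P : Subgroup Z) : Set Z)) L]
    exact Subgroup.relIndex_mul_index inf_le_left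
  have e3 : L.relIndex (Subgroup.normalizer ((P : Subgroup Z) : Set Z)) ∣ 2 :=
    hL ▸ Subgroup.relIndex_dvd_index_of_normal L _
  have e4 := (Nat.dvd_prime Nat.prime_two).mp e3
  change (Subgroup.normalizer ((P : Subgroup Z) : Set Z)).relIndex L = 35
  omega

theorem small17 {Z : Type*} [Group Z] [Finite Z] (P : Sylow 17 Z)
    (hP17 : Nat.card (P : Subgroup Z) = 17)
    (hP : (Subgroup.normalizer ((P : Subgroup Z) : Set Z)).index = 35) (j : ℕ)
    (hN : Nat.card (Subgroup.normalizer ((P : Subgroup Z) : Set Z)) = 17 * 2 ^ j)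
    (hinv : ∀ x ∈ Subgroup.centralizer ((P : Subgroup Z) : Set Z), orderOf x ≠ 2) : False := by
  have hp17 : Fact (Nat.Prime 17) := ⟨by norm_num⟩
  have hp5 : Fact (Nat.Prime 5) := ⟨by norm_num⟩
  have hp2 : Fact (Nat.Prime 2) := ⟨Nat.prime_two⟩
  have h2j : 0 < 2 ^ j := pow_pos (by norm_num) j
  have hZ : Nat.card Z = 595 * 2 ^ j := by
    have h1 := Subgroup.card_mul_index (Subgroup.normalizer ((P : Subgroup Z) : Set Z))
    rw [hP, hN] at h1
    omega
  obtain ⟨S'⟩ : Nonempty (Sylow 2 ↥(Subgroup.normalizer ((P : Subgroup Z) : Set Z))) :=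
    inferInstance
  have hS' : Nat.card (S' : Subgroup ↥(Subgroup.normalizer ((P : Subgroup Z) : Set Z))) = 2 ^ j :=
    sylow_card S' j 17 (by rw [hN]; ring) (by norm_num)
  have hcycP : IsCyclic ↥(P : Subgroup Z) := isCyclic_of_prime_card hP17
  have hcycU : IsCyclic (ZMod (Nat.card ↥(P : Subgroup Z)))ˣ := by
    rw [hP17]; exact ZMod.isCyclic_units_prime (by norm_num)
  have hcycAut : IsCyclic (MulAut ↥(P : Subgroup Z)) :=
    (IsCyclic.mulAutMulEquiv ↥(P : Subgroup Z)).isCyclic.mpr hcycU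
  have hinj : Function.Injective ((Subgroup.normalizerMonoidHom (P : Subgroup Z)).comp
      (S' : Subgroup ↥(Subgroup.normalizer ((P : Subgroup Z) : Set Z))).subtype) := by
    rw [injective_iff_map_eq_one]
    intro s hs
    by_contra hs1
    obtain ⟨k, hk⟩ := (IsPGroup.iff_orderOf.mp S'.isPGroup') s
    have hk0 : k ≠ 0 := by
      rintro rfl
      rw [pow_zero, orderOf_eq_one_iff] at hk
      exact hs1 hk
    obtain ⟨k', rfl⟩ := Nat.exists_eq_succ_of_ne_zero hk0
    have ho : orderOf (s ^ 2 ^ k') = 2 := by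
      rw [orderOf_pow_of_dvd (pow_pos (by norm_num) k').ne' (by rw [hk]; exact pow_dvd_pow 2 (Nat.le_succ k')),
        hk, pow_succ, Nat.mul_div_cancel_left _ (pow_pos (by norm_num) k')]
    have hker : ((Subgroup.normalizerMonoidHom (P : Subgroup Z)).comp
        (S' : Subgroup ↥(Subgroup.normalizer ((P : Subgroup Z) : Set Z))).subtype) (s ^ 2 ^ k') = 1 := by
      rw [map_pow, hs, one_pow]
    have hmem : (((s ^ 2 ^ k' : ↥(S' : Subgroup ↥(Subgroup.normalizer ((P : Subgroup Z) : Set Z)))) :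
        ↥(Subgroup.normalizer ((P : Subgroup Z) : Set Z))) : Z) ∈
        Subgroup.centralizer ((P : Subgroup Z) : Set Z) := by
      have h1 : ((s ^ 2 ^ k' : ↥(S' : Subgroup ↥(Subgroup.normalizer ((P : Subgroup Z) : Set Z)))) :
          ↥(Subgroup.normalizer ((P : Subgroup Z) : Set Z))) ∈
          (Subgroup.normalizerMonoidHom (P : Subgroup Z)).ker := hker
      rw [Subgroup.normalizerMonoidHom_ker, Subgroup.mem_subgroupOf] at h1
      exact h1
    refine hinv _ hmem ?_
    rw [Subgroup.orderOf_coe, Subgroup.orderOf_coe, ho]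
  have hcycS' : IsCyclic ↥(S' : Subgroup ↥(Subgroup.normalizer ((P : Subgroup Z) : Set Z))) :=
    isCyclic_of_injective _ hinj
  have hsubinj : Function.Injective
      (Subgroup.normalizer ((P : Subgroup Z) : Set Z)).subtype := Subgroup.subtype_injective _
  have hcycS : IsCyclic ↥((S' : Subgroup ↥(Subgroup.normalizer ((P : Subgroup Z) : Set Z))).map
      (Subgroup.normalizer ((P : Subgroup Z) : Set Z)).subtype) :=
    ((Subgroup.equivMapOfInjective _ _ hsubinj).isCyclic).mp hcycS'
  have hScard : Nat.card ↥((S' : Subgroup ↥(Subgroup.normalizer ((P : Subgroup Z) : Set Z))).map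
      (Subgroup.normalizer ((P : Subgroup Z) : Set Z)).subtype) = 2 ^ j := by
    rw [Subgroup.card_map_of_injective hsubinj, hS']
  obtain ⟨PS, hPS⟩ := exists_sylow_eq (p := 2) _ j hScard (by
    rw [hZ, pow_succ, mul_comm 595]
    intro h
    have h1 := (Nat.mul_dvd_mul_iff_left h2j).mp h
    omega)
  have hPScard : Nat.card (PS : Subgroup Z) = 2 ^ j := by rw [hPS]; exact hScard
  have hcycPS : IsCyclic ↥(PS : Subgroup Z) := by rw [hPS]; exact hcycS
  have hPSC : (PS : Subgroup Z) ≤ Subgroup.centralizer ((PS : Subgroup Z) : Set Z) :=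
    Subgroup.le_centralizer_iff_isMulCommutative.mpr IsCyclic.isMulCommutative
  have hPSidx : (PS : Subgroup Z).index = 595 := by
    have h1 := Subgroup.card_mul_index (PS : Subgroup Z)
    rw [hPScard, hZ, mul_comm] at h1
    exact Nat.eq_of_mul_eq_mul_right h2j h1
  have hle : Subgroup.normalizer ((PS : Subgroup Z) : Set Z) ≤
      Subgroup.centralizer ((PS : Subgroup Z) : Set Z) := by
    rw [← Subgroup.relIndex_eq_one]
    have h1 : (Subgroup.normalizerMonoidHom (PS : Subgroup Z)).ker.index =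
        Nat.card (Subgroup.normalizerMonoidHom (PS : Subgroup Z)).range := Subgroup.index_ker _
    rw [Subgroup.normalizerMonoidHom_ker] at h1
    have h2 : Nat.card (Subgroup.normalizerMonoidHom (PS : Subgroup Z)).range ∣
        Nat.card (MulAut ↥(PS : Subgroup Z)) := Subgroup.card_subgroup_dvd_card _
    rw [IsCyclic.card_mulAut, hPScard] at h2
    have h3 : (2 ^ j).totient ∣ 2 ^ j := by
      rcases j with _ | j
      · simp
      · rw [Nat.totient_prime_pow_succ Nat.prime_two]
        exact ⟨2, by rw [pow_succ]; norm_num⟩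
    have h4 : (Subgroup.centralizer ((PS : Subgroup Z) : Set Z)).relIndex
        (Subgroup.normalizer ((PS : Subgroup Z) : Set Z)) ∣ 2 ^ j := by
      change ((Subgroup.centralizer ((PS : Subgroup Z) : Set Z)).subgroupOf
        (Subgroup.normalizer ((PS : Subgroup Z) : Set Z))).index ∣ 2 ^ j
      rw [h1]; exact h2.trans h3
    have h5 : (Subgroup.centralizer ((PS : Subgroup Z) : Set Z)).relIndex
        (Subgroup.normalizer ((PS : Subgroup Z) : Set Z)) ∣ 595 := by
      have h6 := Subgroup.relIndex_dvd_of_le_left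
        (Subgroup.normalizer ((PS : Subgroup Z) : Set Z)) hPSC
      have h7 : (PS : Subgroup Z).relIndex (Subgroup.normalizer ((PS : Subgroup Z) : Set Z)) ∣
          (PS : Subgroup Z).index :=
        Dvd.intro _ (Subgroup.relIndex_mul_index Subgroup.le_normalizer)
      rw [hPSidx] at h7
      exact h6.trans h7
    have h8 : Nat.Coprime (2 ^ j) 595 := Nat.Coprime.pow_left j (by norm_num)
    exact Nat.Coprime.eq_one_of_dvd (Nat.Coprime.coprime_dvd_left h4 h8) h5
  have hK := MonoidHom.ker_transferSylow_isComplement' PS hle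
  have hKcard : Nat.card (MonoidHom.transferSylow PS hle).ker = 595 := by
    have h1 := hK.card_mul_card
    rw [hPScard, hZ] at h1
    exact Nat.eq_of_mul_eq_mul_right h2j h1
  have hKidx : (MonoidHom.transferSylow PS hle).ker.index = 2 ^ j := by
    have h1 := Subgroup.card_mul_index (MonoidHom.transferSylow PS hle).ker
    rw [hKcard, hZ] at h1
    exact Nat.eq_of_mul_eq_mul_left (by norm_num) h1
  have hPK : (P : Subgroup Z) ≤ (MonoidHom.transferSylow PS hle).ker := by
    rw [← Subgroup.relIndex_eq_one]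
    have h1 : (MonoidHom.transferSylow PS hle).ker.relIndex (P : Subgroup Z) ∣ 2 ^ j :=
      hKidx ▸ Subgroup.relIndex_dvd_index_of_normal _ _
    have h2 : (MonoidHom.transferSylow PS hle).ker.relIndex (P : Subgroup Z) ∣ 17 := by
      have h2' := Subgroup.relIndex_dvd_card (MonoidHom.transferSylow PS hle).ker (P : Subgroup Z)
      rwa [hP17] at h2'
    have h3 : Nat.Coprime (2 ^ j) 17 := Nat.Coprime.pow_left j (by norm_num)
    exact Nat.Coprime.eq_one_of_dvd (Nat.Coprime.coprime_dvd_left h1 h3) h2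
  obtain ⟨Q⟩ : Nonempty (Sylow 5 Z) := inferInstance
  have hn5 : ¬ 5 ∣ 2 ^ j := by
    intro h
    have h1 := Nat.Prime.dvd_of_dvd_pow (by norm_num : Nat.Prime 5) h
    omega
  have cQ : Nat.card (Q : Subgroup Z) = 5 := by
    have h1 := sylow_card Q 1 (119 * 2 ^ j) (by rw [hZ]; ring) (by
      intro h
      rcases (Nat.Prime.dvd_mul (by norm_num : Nat.Prime 5)).mp h with h | h
      · omega
      · exact hn5 h)
    simpa using h1
  have hQK : (Q : Subgroup Z) ≤ (MonoidHom.transferSylow PS hle).ker := by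
    rw [← Subgroup.relIndex_eq_one]
    have h1 : (MonoidHom.transferSylow PS hle).ker.relIndex (Q : Subgroup Z) ∣ 2 ^ j :=
      hKidx ▸ Subgroup.relIndex_dvd_index_of_normal _ _
    have h2 : (MonoidHom.transferSylow PS hle).ker.relIndex (Q : Subgroup Z) ∣ 5 := by
      have h2' := Subgroup.relIndex_dvd_card (MonoidHom.transferSylow PS hle).ker (Q : Subgroup Z)
      rwa [cQ] at h2'
    have h3 : Nat.Coprime (2 ^ j) 5 := Nat.Coprime.pow_left j (by norm_num)
    exact Nat.Coprime.eq_one_of_dvd (Nat.Coprime.coprime_dvd_left h1 h3) h2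
  have hKQ := LN Q (MonoidHom.transferSylow PS hle).ker hQK 119 (by rw [hKcard, cQ]) (by
    intro k hk h5
    have hk' := Nat.le_of_dvd (by norm_num) hk
    interval_cases k <;> omega)
  have hPQ : (P : Subgroup Z) ≤ Subgroup.normalizer ((Q : Subgroup Z) : Set Z) := hPK.trans hKQ
  have hprod := Cfsg.Agent.S4023.card_sup_mul_card_inf (P : Subgroup Z) (Q : Subgroup Z) hPQ
  have hinf : (P : Subgroup Z) ⊓ (Q : Subgroup Z) = ⊥ :=
    (Subgroup.disjoint_of_coprime_natCard (by rw [hP17, cQ]; norm_num)).eq_bot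
  rw [hinf, Subgroup.card_bot, mul_one, hP17, cQ] at hprod
  have hle2 := LN P ((P : Subgroup Z) ⊔ (Q : Subgroup Z)) le_sup_left 5 (by rw [hprod, hP17]) (by
    intro k hk h17
    have hk' := Nat.le_of_dvd (by norm_num) hk
    interval_cases k <;> omega)
  have hdvd := Subgroup.card_dvd_of_le (le_sup_right.trans hle2)
  rw [cQ, hN] at hdvd
  rcases (Nat.Prime.dvd_mul (by norm_num : Nat.Prime 5)).mp hdvd with h | h
  · omega
  · exact hn5 h

theorem main_lemma35 {Y Ω : Type*} [Group Y] [Finite Y] [MulAction Y Ω] [Finite Ω]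
    (hΩ : Nat.card Ω = 35)
    (hfaith : ∀ y : Y, (∀ ω : Ω, y • ω = ω) → y = 1)
    (htrans : ∀ a b : Ω, ∃ y : Y, y • a = b)
    (h49 : ¬ 289 ∣ Nat.card Y)
    (U : Subgroup Y) (hU : Nat.card U = 17) (ω0 : Ω)
    (hfix : ∀ u ∈ U, u • ω0 = ω0)
    (hsemi : ∀ u ∈ U, u ≠ 1 → ∀ ω : Ω, u • ω = ω → ω = ω0)
    (hnorm : ∀ y : Y, y • ω0 = ω0 → ∀ u ∈ U, y * u * y⁻¹ ∈ U) : False := by
  classical
  have hp7 : Fact (Nat.Prime 17) := ⟨by norm_num⟩
  have hUne : ∃ u ∈ U, u ≠ 1 := by
    have h1 : 1 < Nat.card U := by rw [hU]; norm_num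
    rw [Subgroup.one_lt_card_iff_ne_bot, Subgroup.ne_bot_iff_exists_ne_one] at h1
    obtain ⟨a, ha⟩ := h1
    exact ⟨a, a.2, fun h => ha (Subtype.ext h)⟩
  have hstab : MulAction.stabilizer Y ω0 = Subgroup.normalizer (U : Set Y) := by
    ext y
    rw [MulAction.mem_stabilizer_iff, Subgroup.mem_normalizer_iff]
    constructor
    · intro hy u
      constructor
      · exact hnorm y hy u
      · intro hu
        have hy' : y⁻¹ • ω0 = ω0 := by
          rw [inv_smul_eq_iff, hy]
        have h1 := hnorm y⁻¹ hy' _ hu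
        have e : y⁻¹ * (y * u * y⁻¹) * y⁻¹⁻¹ = u := by group
        rwa [e] at h1
    · intro hy
      obtain ⟨u, hu, hu1⟩ := hUne
      have hu' : y * u * y⁻¹ ∈ U := (hy u).mp hu
      have hu1' : y * u * y⁻¹ ≠ 1 := by
        intro h
        apply hu1
        have e : u = y⁻¹ * (y * u * y⁻¹) * y := by group
        rw [e, h]; group
      apply hsemi _ hu' hu1'
      rw [mul_smul, mul_smul, inv_smul_smul, hfix u hu]
  have hidx : (Subgroup.normalizer (U : Set Y)).index = 35 := by
    rw [← hstab, MulAction.index_stabilizer, ← hΩ, ← Set.ncard_univ]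
    congr 1
    apply Set.eq_univ_of_forall
    intro b
    obtain ⟨y, hy⟩ := htrans ω0 b
    exact ⟨y, hy⟩
  obtain ⟨PU, hPU⟩ := exists_sylow_eq (p := 17) U 1 (by rw [hU]; norm_num)
    (by norm_num; exact h49)
  have hPUidx : (Subgroup.normalizer ((PU : Subgroup Y) : Set Y)).index = 35 := by
    rw [hPU]; exact hidx
  have hcyc : IsCyclic ↥U := isCyclic_of_prime_card hU
  have hUC : U ≤ Subgroup.centralizer (U : Set Y) :=
    Subgroup.le_centralizer_iff_isMulCommutative.mpr IsCyclic.isMulCommutative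
  have hUcomm : ∀ u ∈ U, ∀ v ∈ U, u * v = v * u := fun u hu v hv =>
    Subgroup.mem_centralizer_iff.mp (hUC hv) u hu
  have hCN : Subgroup.centralizer (U : Set Y) ≤ Subgroup.normalizer (U : Set Y) :=
    Subgroup.centralizer_le_normalizer _
  have hCfix : ∀ c ∈ Subgroup.centralizer (U : Set Y), c • ω0 = ω0 := by
    intro c hc
    have h1 := hCN hc
    rw [← hstab, MulAction.mem_stabilizer_iff] at h1
    exact h1
  have hCcomm : ∀ c ∈ Subgroup.centralizer (U : Set Y), ∀ u ∈ U, c * u = u * c :=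
    fun c hc u hu => (Subgroup.mem_centralizer_iff.mp hc u hu).symm
  have hu7 : ∀ u ∈ U, u ^ 17 = 1 := by
    intro u hu
    have h1 := pow_card_eq_one' (x := (⟨u, hu⟩ : ↥U))
    rw [hU] at h1
    have h2 := congrArg Subtype.val h1
    simpa using h2
  have hfree : ∀ u ∈ U, ∀ ω : Ω, ω ≠ ω0 → u • ω = ω → u = 1 := by
    intro u hu ω hω h
    by_contra h1
    exact hω (hsemi u hu h1 ω h)
  have horb_inj : ∀ ω : Ω, ω ≠ ω0 → ∀ u ∈ U, ∀ v ∈ U, u • ω = v • ω → u = v := by
    intro ω hω u hu v hv h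
    have h1 : (v⁻¹ * u) • ω = ω := by rw [mul_smul, h, inv_smul_smul]
    have h2 := hfree _ (U.mul_mem (U.inv_mem hv) hu) ω hω h1
    rw [inv_mul_eq_one] at h2
    exact h2.symm
  have hpowfix : ∀ (d : Y) (a : Ω), d • a = a → d ^ 17 • a = a := by
    intro d a h
    have h1 := (MulAction.stabilizer Y a).pow_mem (MulAction.mem_stabilizer_iff.mpr h) 17
    exact MulAction.mem_stabilizer_iff.mp h1
  have hB1 : ∀ c ∈ Subgroup.centralizer (U : Set Y), ∀ ω1 : Ω, ω1 ≠ ω0 → c • ω1 = ω1 →
      c = 1 := by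
    intro c hc ω1 hω1 hcω1
    by_contra hc1
    have hex : ∃ ω2 : Ω, c • ω2 ≠ ω2 := by
      by_contra hno
      push Not at hno
      exact hc1 (hfaith c hno)
    obtain ⟨ω2, hω2⟩ := hex
    have hω20 : ω2 ≠ ω0 := by
      rintro rfl
      exact hω2 (hCfix c hc)
    have hcfix1 : ∀ u ∈ U, c • (u • ω1) = u • ω1 := by
      intro u hu
      rw [← mul_smul, hCcomm c hc u hu, mul_smul, hcω1]
    have hcfix2 : ∀ u ∈ U, c • (u • ω2) ≠ u • ω2 := by
      intro u hu h
      rw [← mul_smul, hCcomm c hc u hu, mul_smul] at h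
      exact hω2 (smul_left_cancel u h)
    let f : Unit ⊕ (↥U ⊕ ↥U) → Ω := fun x =>
      match x with
      | Sum.inl _ => ω0
      | Sum.inr (Sum.inl u) => (u : Y) • ω1
      | Sum.inr (Sum.inr u) => (u : Y) • ω2
    have hfinj : Function.Injective f := by
      intro x y hxy
      rcases x with _ | u | u <;> rcases y with _ | v | v
      · rfl
      · exfalso
        have h : ω0 = (v : Y) • ω1 := hxy
        have h2 : (v : Y)⁻¹ • ω0 = ω1 := by rw [h, inv_smul_smul]
        rw [hfix _ (U.inv_mem v.2)] at h2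
        exact hω1 h2.symm
      · exfalso
        have h : ω0 = (v : Y) • ω2 := hxy
        have h2 : (v : Y)⁻¹ • ω0 = ω2 := by rw [h, inv_smul_smul]
        rw [hfix _ (U.inv_mem v.2)] at h2
        exact hω20 h2.symm
      · exfalso
        have h : (u : Y) • ω1 = ω0 := hxy
        have h2 : (u : Y)⁻¹ • ω0 = ω1 := by rw [← h, inv_smul_smul]
        rw [hfix _ (U.inv_mem u.2)] at h2
        exact hω1 h2.symm
      · have h : (u : Y) • ω1 = (v : Y) • ω1 := hxy
        have h2 := horb_inj ω1 hω1 u u.2 v v.2 h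
        rw [Subtype.ext h2]
      · exfalso
        have h : (u : Y) • ω1 = (v : Y) • ω2 := hxy
        apply hcfix2 v v.2
        rw [← h]; exact hcfix1 u u.2
      · exfalso
        have h : (u : Y) • ω2 = ω0 := hxy
        have h2 : (u : Y)⁻¹ • ω0 = ω2 := by rw [← h, inv_smul_smul]
        rw [hfix _ (U.inv_mem u.2)] at h2
        exact hω20 h2.symm
      · exfalso
        have h : (u : Y) • ω2 = (v : Y) • ω1 := hxy
        apply hcfix2 u u.2
        rw [h]; exact hcfix1 v v.2
      · have h : (u : Y) • ω2 = (v : Y) • ω2 := hxy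
        have h2 := horb_inj ω2 hω20 u u.2 v v.2 h
        rw [Subtype.ext h2]
    have hfsurj : Function.Surjective f := by
      have hcard : Nat.card Ω ≤ Nat.card (Unit ⊕ (↥U ⊕ ↥U)) := by
        rw [Nat.card_sum, Nat.card_sum, hU, hΩ, Nat.card_unique]
      exact (hfinj.bijective_of_nat_card_le hcard).2
    obtain ⟨x, hx⟩ := hfsurj (c • ω2)
    have hex2 : ∃ u ∈ U, c • ω2 = u • ω2 := by
      rcases x with _ | u | u
      · exfalso
        have h : ω0 = c • ω2 := hx
        have h2 : c⁻¹ • ω0 = ω2 := by rw [h, inv_smul_smul]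
        have h' : c⁻¹ • ω0 = ω0 := by rw [inv_smul_eq_iff, hCfix c hc]
        rw [h'] at h2
        exact hω20 h2.symm
      · exfalso
        have h : (u : Y) • ω1 = c • ω2 := hx
        have h2 := hcfix1 u u.2
        rw [h] at h2
        exact hω2 (smul_left_cancel c h2)
      · exact ⟨u, u.2, hx.symm⟩
    obtain ⟨u, hu, hcu⟩ := hex2
    have hc7 : c ^ 17 = 1 := by
      apply hfaith
      intro ω
      obtain ⟨x, rfl⟩ := hfsurj ω
      rcases x with _ | v | v
      · exact hpowfix c ω0 (hCfix c hc)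
      · exact hpowfix c _ (hcfix1 v v.2)
      · have e1 : c • ((v : Y) • ω2) = u • ((v : Y) • ω2) := by
          calc c • ((v : Y) • ω2) = (c * v) • ω2 := (mul_smul _ _ _).symm
            _ = ((v : Y) * c) • ω2 := by rw [hCcomm c hc v v.2]
            _ = (v : Y) • (c • ω2) := mul_smul _ _ _
            _ = (v : Y) • (u • ω2) := by rw [hcu]
            _ = ((v : Y) * u) • ω2 := (mul_smul _ _ _).symm
            _ = (u * (v : Y)) • ω2 := by rw [hUcomm v v.2 u hu]
            _ = u • ((v : Y) • ω2) := mul_smul _ _ _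
        have hd : (u⁻¹ * c) • ((v : Y) • ω2) = (v : Y) • ω2 := by
          rw [mul_smul, e1, inv_smul_smul]
        have hd7 := hpowfix _ _ hd
        have hcomm : Commute u⁻¹ c := (hCcomm c hc u⁻¹ (U.inv_mem hu)).symm
        rw [hcomm.mul_pow, inv_pow, hu7 u hu, inv_one, one_mul] at hd7
        exact hd7
    have hzp : IsPGroup 17 ↥(Subgroup.zpowers c) := by
      intro g
      refine ⟨1, ?_⟩
      obtain ⟨g, hg⟩ := g
      obtain ⟨i, rfl⟩ := Subgroup.mem_zpowers_iff.mp hg
      apply Subtype.ext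
      simp only [pow_one, Subgroup.coe_pow, Subgroup.coe_one]
      rw [← zpow_natCast, ← zpow_mul, mul_comm, zpow_mul, zpow_natCast, hc7, one_zpow]
    have hzle : Subgroup.zpowers c ≤ Subgroup.normalizer ((PU : Subgroup Y) : Set Y) := by
      rw [Subgroup.zpowers_le, hPU]; exact hCN hc
    have hcU : c ∈ U := by
      have h1 : PU ∈ MulAction.fixedPoints ↥(Subgroup.zpowers c) (Sylow 17 Y) :=
        (Subgroup.sylow_mem_fixedPoints_iff _).mpr hzle
      have h2 := hzp.sylow_mem_fixedPoints_iff.mp h1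
      rw [hPU] at h2
      exact h2 (Subgroup.mem_zpowers c)
    exact hω1 (hsemi c hcU hc1 ω1 hcω1)
  have hnt : Nontrivial Ω := by
    rw [← Finite.one_lt_card_iff_nontrivial, hΩ]; norm_num
  obtain ⟨ω1, hω1⟩ := exists_ne ω0
  have hCle : Nat.card (Subgroup.centralizer (U : Set Y)) ≤ 34 := by
    let g : Unit ⊕ ↥(Subgroup.centralizer (U : Set Y)) → Ω := fun x =>
      match x with
      | Sum.inl _ => ω0
      | Sum.inr c => (c : Y) • ω1
    have hg : Function.Injective g := by
      intro x y hxy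
      rcases x with _ | c <;> rcases y with _ | d
      · rfl
      · exfalso
        have h : ω0 = (d : Y) • ω1 := hxy
        have h2 : (d : Y)⁻¹ • ω0 = ω1 := by rw [h, inv_smul_smul]
        rw [hCfix _ (Subgroup.inv_mem _ d.2)] at h2
        exact hω1 h2.symm
      · exfalso
        have h : (c : Y) • ω1 = ω0 := hxy
        have h2 : (c : Y)⁻¹ • ω0 = ω1 := by rw [← h, inv_smul_smul]
        rw [hCfix _ (Subgroup.inv_mem _ c.2)] at h2
        exact hω1 h2.symm
      · have h : (c : Y) • ω1 = (d : Y) • ω1 := hxy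
        have h1 : ((d : Y)⁻¹ * c) • ω1 = ω1 := by rw [mul_smul, h, inv_smul_smul]
        have h2 := hB1 _ (Subgroup.mul_mem _ (Subgroup.inv_mem _ d.2) c.2) ω1 hω1 h1
        rw [inv_mul_eq_one] at h2
        rw [Subtype.ext h2.symm]
    have h3 := Nat.card_le_card_of_injective g hg
    rw [Nat.card_sum, Nat.card_unique, hΩ] at h3
    omega
  have hCdvd : 17 ∣ Nat.card (Subgroup.centralizer (U : Set Y)) := by
    rw [← hU]; exact Subgroup.card_dvd_of_le hUC
  have hCpos : 0 < Nat.card (Subgroup.centralizer (U : Set Y)) := Nat.card_pos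
  have hC : Nat.card (Subgroup.centralizer (U : Set Y)) = 17 ∨
      Nat.card (Subgroup.centralizer (U : Set Y)) = 34 := by
    obtain ⟨k, hk⟩ := hCdvd
    omega
  have hr6 : (Subgroup.centralizer (U : Set Y)).relIndex (Subgroup.normalizer (U : Set Y)) ∣ 16 := by
    have h1 : (Subgroup.normalizerMonoidHom U).ker.index =
        Nat.card (Subgroup.normalizerMonoidHom U).range := Subgroup.index_ker _
    rw [Subgroup.normalizerMonoidHom_ker] at h1
    have h2 : Nat.card (Subgroup.normalizerMonoidHom U).range ∣ Nat.card (MulAut ↥U) :=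
      Subgroup.card_subgroup_dvd_card _
    rw [IsCyclic.card_mulAut, hU, Nat.totient_prime (by norm_num)] at h2
    change ((Subgroup.centralizer (U : Set Y)).subgroupOf
      (Subgroup.normalizer (U : Set Y))).index ∣ 16
    rw [h1]; exact h2
  have hcN : Nat.card (Subgroup.normalizer (U : Set Y)) =
      (Subgroup.centralizer (U : Set Y)).relIndex (Subgroup.normalizer (U : Set Y)) *
        Nat.card (Subgroup.centralizer (U : Set Y)) := card_eq_relIndex_mul hCN
  have hcY : Nat.card (Subgroup.normalizer (U : Set Y)) * 35 = Nat.card Y := by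
    rw [← hidx]; exact Subgroup.card_mul_index _
  have hcN16 : ∃ j, (Subgroup.centralizer (U : Set Y)).relIndex
      (Subgroup.normalizer (U : Set Y)) = 2 ^ j := by
    have h1 : (Subgroup.centralizer (U : Set Y)).relIndex
        (Subgroup.normalizer (U : Set Y)) ∣ 2 ^ 4 := by norm_num; exact hr6
    obtain ⟨j, _, hj⟩ := (Nat.dvd_prime_pow Nat.prime_two).mp h1
    exact ⟨j, hj⟩
  obtain ⟨j, hj⟩ := hcN16
  rcases hC with hC7 | hC14
  · refine small17 PU (by rw [hPU]; exact hU) hPUidx j (by rw [hPU, hcN, hC7, hj]; ring) ?_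
    intro x hx h2
    rw [hPU] at hx
    have h1 := Subgroup.orderOf_dvd_natCard _ hx
    rw [hC7, h2] at h1
    omega
  · have hp2 : Fact (Nat.Prime 2) := ⟨Nat.prime_two⟩
    letI : Fintype Ω := Fintype.ofFinite Ω
    have hsignall : ∀ y ∈ Subgroup.centralizer (U : Set Y), orderOf y = 2 →
        Equiv.Perm.sign (MulAction.toPermHom Y Ω y) = -1 := by
      intro y hy ht
      have ht1 : y ≠ 1 := by
        intro h; rw [h, orderOf_one] at ht; omega
      have ht2 : y ^ 2 = 1 := by rw [← ht]; exact pow_orderOf_eq_one _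
      have hsup : ∀ ω : Ω, y • ω = ω ↔ ω = ω0 := by
        intro ω
        constructor
        · intro h
          by_contra hne
          exact ht1 (hB1 _ hy ω hne h)
        · rintro rfl; exact hCfix _ hy
      have hτ2 : orderOf (MulAction.toPermHom Y Ω y) = 2 := by
        apply orderOf_eq_prime
        · rw [← map_pow, ht2, map_one]
        · intro h
          have h1 : (MulAction.toPermHom Y Ω y) ω1 = (1 : Equiv.Perm Ω) ω1 := by rw [h]
          rw [MulAction.toPermHom_apply, MulAction.toPerm_apply, Equiv.Perm.one_apply, hsup] at h1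
          exact hω1 h1
      have hsupp : (MulAction.toPermHom Y Ω y).support.card = 2 * 17 := by
        have h1 : (MulAction.toPermHom Y Ω y).support = Finset.univ.erase ω0 := by
          ext ω
          rw [Equiv.Perm.mem_support, MulAction.toPermHom_apply, MulAction.toPerm_apply,
            Finset.mem_erase, Ne, hsup]
          simp
        rw [h1, Finset.card_erase_of_mem (Finset.mem_univ _), Finset.card_univ,
          ← Nat.card_eq_fintype_card, hΩ]
      exact sign_inv _ hτ2 17 ⟨8, by norm_num⟩ hsupp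
    obtain ⟨x, hx⟩ := exists_prime_orderOf_dvd_card'
      (G := ↥(Subgroup.centralizer (U : Set Y))) 2 (by rw [hC14]; norm_num)
    have ht : orderOf (x : Y) = 2 := by rw [Subgroup.orderOf_coe, hx]
    have hsign := hsignall (x : Y) x.2 ht
    have hL := index_two_of_hom (Equiv.Perm.sign.comp (MulAction.toPermHom Y Ω)) (x : Y) hsign
    obtain ⟨hPL, hP'⟩ := idx2_35 _ hL PU hPUidx
    have hcL := Subgroup.card_mul_index (Equiv.Perm.sign.comp (MulAction.toPermHom Y Ω)).ker
    rw [hL, ← hcY, hcN, hC14, hj] at hcL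
    have hcNL := Subgroup.card_mul_index (Subgroup.normalizer
      (((PU.subtype hPL : Sylow 17 ↥(Equiv.Perm.sign.comp (MulAction.toPermHom Y Ω)).ker) :
        Subgroup ↥(Equiv.Perm.sign.comp (MulAction.toPermHom Y Ω)).ker) :
        Set ↥(Equiv.Perm.sign.comp (MulAction.toPermHom Y Ω)).ker))
    rw [hP'] at hcNL
    refine small17 (PU.subtype hPL) ?_ hP' j ?_ ?_
    · rw [Sylow.coe_subtype, Nat.card_congr (Subgroup.subgroupOfEquivOfLe hPL).toEquiv, hPU, hU]
    · omega
    · intro y hy h2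
      have hyC : (y : Y) ∈ Subgroup.centralizer (U : Set Y) := by
        rw [Subgroup.mem_centralizer_iff]
        intro u hu
        have hu' : u ∈ (PU : Subgroup Y) := by rw [hPU]; exact hu
        have h1 := Subgroup.mem_centralizer_iff.mp hy ⟨u, hPL hu'⟩ (by
          change (⟨u, hPL hu'⟩ : ↥(Equiv.Perm.sign.comp (MulAction.toPermHom Y Ω)).ker) ∈
            ((PU.subtype hPL : Sylow 17 ↥(Equiv.Perm.sign.comp (MulAction.toPermHom Y Ω)).ker) :
              Subgroup ↥(Equiv.Perm.sign.comp (MulAction.toPermHom Y Ω)).ker)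
          rw [Sylow.coe_subtype, Subgroup.mem_subgroupOf]
          exact hu')
        exact congrArg Subtype.val h1
      have h3 := hsignall (y : Y) hyC (by rw [Subgroup.orderOf_coe, h2])
      have h4 : (Equiv.Perm.sign.comp (MulAction.toPermHom Y Ω)) (y : Y) = 1 :=
        MonoidHom.mem_ker.mp y.2
      have h5 : (Equiv.Perm.sign.comp (MulAction.toPermHom Y Ω)) (y : Y) = -1 := h3
      rw [h5] at h4
      exact absurd h4 (by decide)

end Cfsg.Agent.H70.N35
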