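import Mathlib

/-! Pure cores of the pieces NCZ-ZC1 and NCZ-ZC2 (helper70 for helper76, S1353/S1354). -/

set_option autoImplicit false

universe u

namespace Cfsg.Agent.H70.NCKill

/-- NCZ-ZC1, pure form: the line `⟨b⟩ = [A, P]`. -/
theorem zc1_core {G : Type u} [Group G] [Finite G] (A A₀ P E : Subgroup G) (r p : ℕ)
    (hr : r.Prime) (hp : p.Prime) (hpr : p ≠ r)
    (hAc : ∀ x ∈ A, ∀ y ∈ A, x * y = y * x) (hAr : ∀ a ∈ A, a ^ r = 1)
    (hAcard : Nat.card A = r ^ 2) (hA₀A : A₀ ≤ A) (hA₀card : Nat.card A₀ = r)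
    (hPcard : Nat.card P = p) (hPE : P ≤ E) (hEA : E ≤ Subgroup.normalizer (A : Set G))
    (hPA₀ : P ≤ Subgroup.centralizer (A₀ : Set G))
    (hPA : ¬ P ≤ Subgroup.centralizer (A : Set G)) :
    ∃ b ∈ A, b ∉ A₀ ∧
      (∀ d ∈ E ⊓ Subgroup.centralizer (P : Set G), d * b * d⁻¹ ∈ Subgroup.zpowers b) ∧
      ∀ g ∈ P, g ≠ 1 → g * b ≠ b * g := by
  classical
  obtain ⟨g0, hg0P, hg0⟩ : ∃ g ∈ P, g ∉ Subgroup.centralizer (A : Set G) := by
    by_contra h
    push Not at h
    exact hPA h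
  obtain ⟨a1, ha1A, ha1⟩ : ∃ a ∈ A, a * g0 ≠ g0 * a := by
    by_contra h
    push Not at h
    exact hg0 (Subgroup.mem_centralizer_iff.mpr h)
  have hg0N : g0 ∈ Subgroup.normalizer (A : Set G) := hEA (hPE hg0P)
  have hconj : ∀ a ∈ A, g0 * a * g0⁻¹ ∈ A := fun a ha =>
    (Subgroup.mem_normalizer_iff.mp hg0N a).mp ha
  set c : G → G := fun a => g0 * a * g0⁻¹ * a⁻¹ with hc
  have hcA : ∀ a ∈ A, c a ∈ A := fun a ha => A.mul_mem (hconj a ha) (A.inv_mem ha)
  have hcmul : ∀ a ∈ A, ∀ a' ∈ A, c (a * a') = c a * c a' := by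
    intro a ha a' ha'
    have h1 := hAc a⁻¹ (A.inv_mem ha) (c a') (hcA a' ha')
    calc c (a * a') = g0 * a * g0⁻¹ * (c a' * a⁻¹) := by simp only [hc]; group
      _ = g0 * a * g0⁻¹ * (a⁻¹ * c a') := by rw [h1]
      _ = c a * c a' := by simp only [hc]; group
  have hc1 : c 1 = 1 := by simp [hc]
  have hcinv : ∀ a ∈ A, c a⁻¹ = (c a)⁻¹ := by
    intro a ha
    have h := hcmul a⁻¹ (A.inv_mem ha) a ha
    rw [inv_mul_cancel, hc1] at h
    exact eq_inv_of_mul_eq_one_left h.symm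
  set b := c a1 with hb
  have hbA : b ∈ A := hcA a1 ha1A
  have hb1 : b ≠ 1 := by
    intro h
    apply ha1
    have h2 : g0 * a1 * g0⁻¹ * a1⁻¹ = 1 := h
    have h3 : g0 * a1 = a1 * g0 := by
      have h4 := congrArg (fun x => x * a1 * g0) h2
      simpa [mul_assoc] using h4
    exact h3.symm
  have hpowP : ∀ g ∈ P, g ^ p = 1 := by
    intro g hg
    have h := pow_card_eq_one' (G := P) (x := ⟨g, hg⟩)
    rw [hPcard] at h
    exact congrArg Subtype.val h
  have hnc : ¬ (g0 * b = b * g0) := by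
    intro hcb
    have hga : g0 * a1 * g0⁻¹ = b * a1 := by simp only [hb, hc]; group
    have hpow : ∀ k : ℕ, g0 ^ k * a1 * (g0 ^ k)⁻¹ = b ^ k * a1 := by
      intro k
      induction k with
      | zero => simp
      | succ k ih =>
        have hbk : g0 * b ^ k = b ^ k * g0 := (show Commute g0 b from hcb).pow_right k
        calc g0 ^ (k + 1) * a1 * (g0 ^ (k + 1))⁻¹
            = g0 * (g0 ^ k * a1 * (g0 ^ k)⁻¹) * g0⁻¹ := by rw [pow_succ']; group
          _ = g0 * (b ^ k * a1) * g0⁻¹ := by rw [ih]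
          _ = (g0 * b ^ k) * a1 * g0⁻¹ := by group
          _ = b ^ k * (g0 * a1 * g0⁻¹) := by rw [hbk]; group
          _ = b ^ (k + 1) * a1 := by rw [hga, pow_succ]; group
    have h1 := hpow p
    rw [hpowP g0 hg0P] at h1
    have hbp : b ^ p = 1 := by simpa using h1.symm
    have hbr : b ^ r = 1 := hAr b hbA
    have hcop : Nat.Coprime p r := (Nat.coprime_primes hp hr).mpr hpr
    have h2 : b ^ Nat.gcd p r = 1 := pow_gcd_eq_one.mpr ⟨hbp, hbr⟩
    rw [hcop.gcd_eq_one, pow_one] at h2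
    exact hb1 h2
  have h4 : ∀ g ∈ P, g ≠ 1 → g * b ≠ b * g := by
    intro g hgP hg1 hgb
    apply hnc
    have hord : orderOf g = p := by
      have h1 : orderOf g ∣ p := orderOf_dvd_of_pow_eq_one (hpowP g hgP)
      rcases (Nat.dvd_prime hp).mp h1 with h | h
      · exact absurd (orderOf_eq_one_iff.mp h) hg1
      · exact h
    have hz : Subgroup.zpowers g = P := by
      apply Subgroup.eq_of_le_of_card_ge (Subgroup.zpowers_le.mpr hgP)
      rw [Nat.card_zpowers, hord, hPcard]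
    have hg0z : g0 ∈ Subgroup.zpowers g := hz ▸ hg0P
    obtain ⟨k, hk⟩ := Subgroup.mem_zpowers_iff.mp hg0z
    rw [← hk]
    exact ((show Commute g b from hgb).zpow_left k).eq
  have hall : ∀ a ∈ A, c a ∈ Subgroup.zpowers b := by
    let T : Subgroup G :=
      { carrier := {a | a ∈ A ∧ c a ∈ Subgroup.zpowers b}
        mul_mem' := by
          rintro a a' ⟨ha, hca⟩ ⟨ha', hca'⟩
          exact ⟨A.mul_mem ha ha', by rw [hcmul a ha a' ha']; exact Subgroup.mul_mem _ hca hca'⟩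
        one_mem' := ⟨A.one_mem, by rw [hc1]; exact Subgroup.one_mem _⟩
        inv_mem' := by
          rintro a ⟨ha, hca⟩
          exact ⟨A.inv_mem ha, by rw [hcinv a ha]; exact Subgroup.inv_mem _ hca⟩ }
    have hA0T : A₀ ≤ T := by
      intro x hx
      refine ⟨hA₀A hx, ?_⟩
      have hgx : g0 * x = x * g0 := (Subgroup.mem_centralizer_iff.mp (hPA₀ hg0P) x hx).symm
      have hcx : c x = 1 := by
        simp only [hc]
        rw [hgx]
        group
      rw [hcx]
      exact Subgroup.one_mem _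
    have ha1T : a1 ∈ T := ⟨ha1A, Subgroup.mem_zpowers b⟩
    have ha1A0 : a1 ∉ A₀ := fun h => ha1 (Subgroup.mem_centralizer_iff.mp (hPA₀ hg0P) a1 h)
    set N : Subgroup G := A₀ ⊔ Subgroup.zpowers a1 with hN
    have hNA : N ≤ A := sup_le hA₀A (Subgroup.zpowers_le.mpr ha1A)
    have hNT : N ≤ T := sup_le hA0T (Subgroup.zpowers_le.mpr ha1T)
    have hNeq : N = A := by
      apply Subgroup.eq_of_le_of_card_ge hNA
      have d1 : Nat.card A₀ ∣ Nat.card N := Subgroup.card_dvd_of_le le_sup_left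
      have d2 : Nat.card N ∣ Nat.card A := Subgroup.card_dvd_of_le hNA
      rw [hA₀card] at d1
      rw [hAcard] at d2 ⊢
      obtain ⟨m, hm, hm2⟩ := (Nat.dvd_prime_pow hr).mp d2
      have hne : Nat.card N ≠ r := by
        intro h
        have h1 : A₀ = N := Subgroup.eq_of_le_of_card_ge le_sup_left (by rw [h, hA₀card])
        exact ha1A0 (h1 ▸ Subgroup.mem_sup_right (Subgroup.mem_zpowers a1))
      interval_cases m
      · rw [hm2, pow_zero] at d1
        have h2 := hr.two_le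
        have h3 := Nat.le_of_dvd one_pos d1
        omega
      · rw [pow_one] at hm2
        exact absurd hm2 hne
      · rw [hm2]
    intro a ha
    exact (hNT (hNeq ▸ ha)).2
  have h3 : ∀ d ∈ E ⊓ Subgroup.centralizer (P : Set G), d * b * d⁻¹ ∈ Subgroup.zpowers b := by
    rintro d ⟨hdE, hdC⟩
    have hdN := hEA hdE
    have hda : d * a1 * d⁻¹ ∈ A := (Subgroup.mem_normalizer_iff.mp hdN a1).mp ha1A
    have hcd : g0 * d = d * g0 := Subgroup.mem_centralizer_iff.mp hdC g0 hg0P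
    have h1 : d * g0 * d⁻¹ = g0 := by rw [← hcd, mul_inv_cancel_right]
    have h2 : d * b * d⁻¹ = c (d * a1 * d⁻¹) := by
      have h5 : d * (g0 * a1 * g0⁻¹ * a1⁻¹) * d⁻¹ =
          (d * g0 * d⁻¹) * (d * a1 * d⁻¹) * (d * g0 * d⁻¹)⁻¹ * (d * a1 * d⁻¹)⁻¹ := by group
      simp only [hb, hc]
      rw [h5, h1]
    rw [h2]
    exact hall _ hda
  exact ⟨b, hbA, fun h => hnc (Subgroup.mem_centralizer_iff.mp (hPA₀ hg0P) b h).symm, h3, h4⟩

/-- NCZ-ZC2, pure form: the centre of a nontrivial nilpotent subgroup `S` normalized by `M`. -/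
theorem zc2_core {G : Type u} [Group G] (M S : Subgroup G) (hS : S ≠ ⊥)
    (hnil : Group.IsNilpotent S) (hMS : M ≤ Subgroup.normalizer (S : Set G)) :
    ∃ V : Subgroup G, V ≠ ⊥ ∧ V ≤ S ∧ (∀ x ∈ V, ∀ y ∈ V, x * y = y * x) ∧
      M ≤ Subgroup.normalizer (V : Set G) := by
  classical
  set V : Subgroup G := (Subgroup.center S).map S.subtype with hV
  have hmem : ∀ v : G, v ∈ V ↔ v ∈ S ∧ ∀ s ∈ S, s * v = v * s := by
    intro v
    constructor
    · rintro ⟨z, hz, rfl⟩
      refine ⟨z.2, fun s hs => ?_⟩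
      have h := Subgroup.mem_center_iff.mp hz ⟨s, hs⟩
      exact congrArg Subtype.val h
    · rintro ⟨hv, hcomm⟩
      refine ⟨⟨v, hv⟩, ?_, rfl⟩
      rw [SetLike.mem_coe, Subgroup.mem_center_iff]
      intro s
      exact Subtype.ext (hcomm s s.2)
  refine ⟨V, ?_, ?_, ?_, ?_⟩
  · intro hbot
    have : Nontrivial S := (Subgroup.nontrivial_iff_ne_bot S).mpr hS
    apply Group.IsNilpotent.center_ne_bot S
    rw [hV] at hbot
    exact (Subgroup.map_eq_bot_iff_of_injective _ (Subgroup.subtype_injective S)).mp hbot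
  · exact fun v hv => ((hmem v).mp hv).1
  · intro x hx y hy
    exact ((hmem y).mp hy).2 x ((hmem x).mp hx).1
  · intro m hm
    have key : ∀ n ∈ Subgroup.normalizer (S : Set G), ∀ v ∈ V, n * v * n⁻¹ ∈ V := by
      intro n hn v hv
      obtain ⟨hvS, hvc⟩ := (hmem v).mp hv
      rw [hmem]
      refine ⟨(Subgroup.mem_normalizer_iff.mp hn v).mp hvS, fun s hs => ?_⟩
      have hs' : n⁻¹ * s * n ∈ S := by
        have h := (Subgroup.mem_normalizer_iff.mp (Subgroup.inv_mem _ hn) s).mp hs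
        simpa using h
      have h1 := hvc _ hs'
      calc s * (n * v * n⁻¹) = n * (n⁻¹ * s * n * v) * n⁻¹ := by group
        _ = n * (v * (n⁻¹ * s * n)) * n⁻¹ := by rw [h1]
        _ = n * v * n⁻¹ * s := by group
    rw [Subgroup.mem_normalizer_iff]
    intro v
    constructor
    · exact key m (hMS hm) v
    · intro h
      have h2 := key m⁻¹ (Subgroup.inv_mem _ (hMS hm)) _ h
      simpa [mul_assoc] using h2

end Cfsg.Agent.H70.NCKill
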