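import Mathlib
import Cfsg.Agent.H33.O2.Defs

/-!
# S2072-ORD: the orders of the stabilisers of one and of two vertices in a rank 3 group of the
graph with parameters `(100, 22, 0, 6)`
-/

set_option autoImplicit false

namespace Cfsg.Agent.H70.O2

open Cfsg.Agent.H22.SRG Cfsg.Agent.H33.O2

/-- orbit-stabiliser, with `Nat.card` -/
theorem card_orbit_mul_card_stab {G X : Type*} [Group G] [MulAction G X] (x : X) :
    Nat.card G = Nat.card ↥(MulAction.orbit G x) * Nat.card ↥(MulAction.stabilizer G x) := by
  rw [Subgroup.card_eq_card_quotient_mul_card_subgroup (MulAction.stabilizer G x),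
    Nat.card_congr (MulAction.orbitEquivQuotientStabilizer G x)]

section

variable {H V : Type} [Group H] [Fintype V] {Γ : SimpleGraph V}

/-- the action of `H` on the vertices -/
@[reducible] def act (ρ : H →* (Γ ≃g Γ)) : MulAction H V where
  smul h v := ρ h v
  one_smul v := by
    change ρ 1 v = v
    rw [map_one]; rfl
  mul_smul g h v := by
    change ρ (g * h) v = ρ g (ρ h v)
    rw [map_mul]; rfl

theorem card_inf_eq (A B : Subgroup H) :
    Nat.card ↥(B.subgroupOf A) = Nat.card ↥(A ⊓ B) := by
  have h1 : B.subgroupOf A = (A ⊓ B).subgroupOf A := by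
    rw [inf_comm, Subgroup.inf_subgroupOf_right]
  rw [h1]
  exact Nat.card_congr (Subgroup.subgroupOfEquivOfLe (inf_le_left : A ⊓ B ≤ A)).toEquiv

/-- the orbit equation for the stabiliser of `x` and a second vertex `z` -/
theorem card_St_eq (ρ : H →* (Γ ≃g Γ)) (x z : V) :
    Nat.card ↥(St ρ x) =
      {w | ∃ k : H, ρ k x = x ∧ ρ k z = w}.ncard * Nat.card ↥(St ρ x ⊓ St ρ z) := by
  let _ := act ρ
  have h1 := card_orbit_mul_card_stab (G := ↥(St ρ x)) z
  have h2 : MulAction.stabilizer ↥(St ρ x) z = (St ρ z).subgroupOf (St ρ x) := by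
    ext k
    rw [MulAction.mem_stabilizer_iff, Subgroup.mem_subgroupOf, mem_St]
    rfl
  have h3 : MulAction.orbit ↥(St ρ x) z = {w | ∃ k : H, ρ k x = x ∧ ρ k z = w} := by
    ext w
    constructor
    · rintro ⟨k, hk⟩
      exact ⟨k.1, k.2, hk⟩
    · rintro ⟨k, hkx, hk⟩
      exact ⟨⟨k, hkx⟩, hk⟩
  rw [h2, card_inf_eq, h3, Nat.card_coe_set_eq] at h1
  exact h1

theorem card_St (ρ : H →* (Γ ≃g Γ)) (x : V) (htr : ∀ y : V, ∃ h : H, ρ h x = y) :
    Nat.card H = Fintype.card V * Nat.card ↥(St ρ x) := by
  let _ := act ρ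
  have h1 := card_orbit_mul_card_stab (G := H) x
  have h2 : MulAction.stabilizer H x = St ρ x := by
    ext k
    rw [MulAction.mem_stabilizer_iff, mem_St]
    rfl
  have h3 : MulAction.orbit H x = Set.univ := by
    ext w
    constructor
    · intro _; trivial
    · intro _
      obtain ⟨h, hh⟩ := htr w
      exact ⟨h, hh⟩
  rw [h2, h3, Nat.card_coe_set_eq, Set.ncard_univ, Nat.card_eq_fintype_card (α := V)] at h1
  exact h1

/-- ORD -/
theorem ord : StOrd := by
  intro H V _ _ Γ ρ hR
  classical
  have hS : ∀ x, Nat.card ↥(St ρ x) = 443520 := by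
    intro x
    have h1 := card_St ρ x (hR.trans x)
    rw [hR.card, hR.hyp.card] at h1
    omega
  refine ⟨hS, ?_, ?_⟩
  · intro x z hxz
    have h1 := card_St_eq ρ x z
    have h2 : {w | ∃ k : H, ρ k x = x ∧ ρ k z = w} = ((nb Γ x : Finset V) : Set V) := by
      ext w
      simp only [Set.mem_ofPred_eq, Finset.mem_coe, mem_nb]
      constructor
      · rintro ⟨k, hkx, hk⟩
        have := (ρ k).map_rel_iff.2 hxz
        rw [hkx, hk] at this
        exact this
      · intro hw
        exact hR.tadj x z w hxz hw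
    rw [h2, Set.ncard_coe_finset, hR.hyp.deg, hS] at h1
    omega
  · intro x z hne hxz
    have h1 := card_St_eq ρ x z
    have h2 : {w | ∃ k : H, ρ k x = x ∧ ρ k z = w} =
        (((insert x (nb Γ x))ᶜ : Finset V) : Set V) := by
      ext w
      simp only [Set.mem_ofPred_eq, Finset.mem_coe, Finset.mem_compl, Finset.mem_insert, mem_nb,
        not_or]
      constructor
      · rintro ⟨k, hkx, hk⟩
        constructor
        · intro hwx
          apply hne
          have : ρ k z = ρ k x := by rw [hk, hkx, hwx]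
          exact ((ρ k).injective this).symm
        · intro hw
          apply hxz
          rw [← hkx, ← hk] at hw
          exact (ρ k).map_rel_iff.1 hw
      · rintro ⟨hw1, hw2⟩
        exact hR.tnadj x z w hne (fun h => hw1 h.symm) hxz hw2
    have h3 : x ∉ nb Γ x := by
      rw [mem_nb]
      exact Γ.loopless.irrefl x
    rw [h2, Set.ncard_coe_finset, Finset.card_compl, Finset.card_insert_of_notMem h3,
      hR.hyp.deg, hR.hyp.card, hS] at h1
    omega

example : Cfsg.Agent.H33.O2.StOrd := ord

end

end Cfsg.Agent.H70.O2
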