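import Mathlib
import Cfsg.Agent.H33.O2.Defs
import Cfsg.Agent.H70.O2Ord

/-!
# S2072-FIX: the fixed vertices of the elements of order 11 and 7 in a rank 3 group of the
graph with parameters `(100, 22, 0, 6)`
-/

set_option autoImplicit false

namespace Cfsg.Agent.H70.O2

open Cfsg.Agent.H22.SRG Cfsg.Agent.H33.O2

/-- a group of prime power order acting on a finite set of cardinality prime to `p` has a fixed
point -/
theorem exists_fixed_of_pgroup {P X : Type*} [Group P] [MulAction P X] [Finite X] {p : ℕ}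
    [Fact p.Prime] (hP : IsPGroup p P) (hX : ¬ p ∣ Nat.card X) : ∃ x : X, ∀ g : P, g • x = x := by
  by_contra hne
  push Not at hne
  have h := hP.card_modEq_card_fixedPoints X
  have hemp : IsEmpty ↥(MulAction.fixedPoints P X) := by
    constructor
    rintro ⟨a, ha⟩
    obtain ⟨g, hg⟩ := hne a
    exact hg (ha g)
  have h0 : Nat.card ↥(MulAction.fixedPoints P X) = 0 := Nat.card_of_isEmpty
  rw [h0] at h
  exact hX ((Nat.modEq_zero_iff_dvd).1 h)

section

variable {H V : Type} [Group H] [Fintype V] {Γ : SimpleGraph V}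

/-- an element of prime order `p` not dividing the number of vertices fixes a vertex -/
theorem exists_fixed_vertex (ρ : H →* (Γ ≃g Γ)) (g : H) (p : ℕ) [Fact p.Prime]
    (hg : orderOf g = p) (hV : ¬ p ∣ Fintype.card V) : ∃ x, ρ g x = x := by
  let _ := act ρ
  have hP : IsPGroup p ↥(Subgroup.zpowers g) := by
    apply IsPGroup.of_card (n := 1)
    rw [Nat.card_zpowers, hg, pow_one]
  have hV' : ¬ p ∣ Nat.card V := by
    rw [Nat.card_eq_fintype_card]
    exact hV
  obtain ⟨x, hx⟩ := exists_fixed_of_pgroup hP hV'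
  exact ⟨x, hx ⟨g, Subgroup.mem_zpowers g⟩⟩

/-- an element fixing two vertices has order dividing the order of their stabiliser -/
theorem orderOf_dvd_card_inf (ρ : H →* (Γ ≃g Γ)) (g : H) (x y : V) (hx : ρ g x = x)
    (hy : ρ g y = y) : orderOf g ∣ Nat.card ↥(St ρ x ⊓ St ρ y) :=
  Subgroup.orderOf_dvd_natCard _ (Subgroup.mem_inf.2 ⟨hx, hy⟩)

/-- FIX -/
theorem fix : StFix := by
  intro H V _ _ Γ ρ hR hO
  obtain ⟨-, hO2, hO3⟩ := hO
  constructor
  · intro g hg
    haveI : Fact (Nat.Prime 11) := ⟨by norm_num⟩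
    obtain ⟨x, hx⟩ := exists_fixed_vertex ρ g 11 hg (by rw [hR.hyp.card]; norm_num)
    refine ⟨x, hx, ?_⟩
    intro y hy
    by_contra hne
    have hd := orderOf_dvd_card_inf ρ g x y hx hy
    rw [hg] at hd
    by_cases hadj : Γ.Adj x y
    · rw [hO2 x y hadj] at hd
      omega
    · rw [hO3 x y (fun h => hne h.symm) hadj] at hd
      omega
  · intro g hg x y z hx hy hz
    by_contra hne
    push Not at hne
    obtain ⟨hxy, hxz, hyz⟩ := hne
    have key : ∀ a b : V, ρ g a = a → ρ g b = b → a ≠ b → Γ.Adj a b := by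
      intro a b ha hb hab
      by_contra hadj
      have hd := orderOf_dvd_card_inf ρ g a b ha hb
      rw [hg, hO3 a b hab hadj] at hd
      omega
    exact hR.hyp.tri x y z (key x y hx hy hxy) (key x z hx hz hxz) (key y z hy hz hyz)

example : Cfsg.Agent.H33.O2.StFix := fix

end

end Cfsg.Agent.H70.O2
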