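import Mathlib

/-!
# S5514-INV (helper70, piece for helper10): two class functions of a permutation representation.
-/

set_option autoImplicit false

namespace Cfsg.Agent.H70.O7Inv

theorem perm_inv_apply_self {X : Type*} (f : Equiv.Perm X) (x : X) : f⁻¹ (f x) = x :=
  f.symm_apply_apply x

theorem conj_inv_apply {G X : Type*} [Group G] (ρ : G →* Equiv.Perm X) (g h : G) (x : X) :
    (ρ (h * g * h⁻¹))⁻¹ (ρ h x) = ρ h ((ρ g)⁻¹ x) := by
  rw [map_mul, map_mul, map_inv, mul_inv_rev, mul_inv_rev, inv_inv]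
  simp only [Equiv.Perm.mul_apply, perm_inv_apply_self]

theorem card_fixed_conj {G X : Type*} [Group G] [Finite X] (ρ : G →* Equiv.Perm X) (g h : G) :
    Nat.card {x : X // (ρ (h * g * h⁻¹))⁻¹ x = x} = Nat.card {x : X // (ρ g)⁻¹ x = x} := by
  symm
  refine Nat.card_congr ((ρ h).subtypeEquiv ?_)
  intro x
  rw [conj_inv_apply]
  exact (ρ h).injective.eq_iff.symm

theorem card_rel_conj {G X : Type*} [Group G] [Finite X] (ρ : G →* Equiv.Perm X) (H : Subgroup G) (S : X → Prop) (R : X → X → Prop)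
    (hS : ∀ h ∈ H, ∀ x, S x → S (ρ h x))
    (hR : ∀ h ∈ H, ∀ x y, S x → S y → R x y → R (ρ h x) (ρ h y))
    (g h : G) (hg : g ∈ H) (hh : h ∈ H) :
    Nat.card {x : X // S x ∧ R x ((ρ (h * g * h⁻¹))⁻¹ x)} = Nat.card {x : X // S x ∧ R x ((ρ g)⁻¹ x)} := by
  symm
  refine Nat.card_congr ((ρ h).subtypeEquiv ?_)
  intro x
  rw [conj_inv_apply]
  have hSinv : ∀ y, S (ρ h y) → S y := by
    intro y hy
    have h1 := hS h⁻¹ (H.inv_mem hh) _ hy
    rwa [map_inv, perm_inv_apply_self] at h1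
  have hgS : ∀ y, S y → S ((ρ g)⁻¹ y) := by
    intro y hy
    have h1 := hS g⁻¹ (H.inv_mem hg) _ hy
    rwa [map_inv] at h1
  constructor
  · rintro ⟨h1, h2⟩
    exact ⟨hS h hh x h1, hR h hh _ _ h1 (hgS x h1) h2⟩
  · rintro ⟨h1, h2⟩
    have hx : S x := hSinv x h1
    refine ⟨hx, ?_⟩
    have h3 := hR h⁻¹ (H.inv_mem hh) _ _ h1 (hS h hh _ (hgS x hx)) h2
    rwa [map_inv, perm_inv_apply_self, perm_inv_apply_self] at h3

end Cfsg.Agent.H70.O7Inv
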