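import Mathlib

/-!
# S5514-SYL (helper70, piece for helper10): an element of order `p` is conjugate into a subgroup
whose order is the full power of `p`.
-/

set_option autoImplicit false

namespace Cfsg.Agent.H70.O7Syl

open scoped Pointwise

theorem conj_mem_of_sylow_card {G : Type*} [Group G] [Finite G] (p k : ℕ) [Fact p.Prime] (P : Subgroup G)
    (hP : Nat.card P = p ^ k) (hG : ¬ p ^ (k + 1) ∣ Nat.card G) (x : G) (hx : orderOf x = p) :
    ∃ h : G, h * x * h⁻¹ ∈ P := by
  have hp : p.Prime := Fact.out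
  have hPp : IsPGroup p P := IsPGroup.of_card hP
  obtain ⟨Q, hPQ⟩ := hPp.exists_le_sylow
  have hPQeq : P = (Q : Subgroup G) := by
    apply Subgroup.eq_of_le_of_card_ge hPQ
    obtain ⟨m, hm⟩ := IsPGroup.iff_card.1 Q.isPGroup'
    rw [hP, hm]
    have hmk : m ≤ k := by
      by_contra hcon
      push Not at hcon
      apply hG
      have h1 : p ^ (k + 1) ∣ p ^ m := pow_dvd_pow p hcon
      have h2 : p ^ m ∣ Nat.card G := by
        rw [← hm]
        exact Subgroup.card_subgroup_dvd_card _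
      exact h1.trans h2
    exact Nat.pow_le_pow_right hp.pos hmk
  have hxp : IsPGroup p (Subgroup.zpowers x) :=
    IsPGroup.of_card (n := 1) (by rw [Nat.card_zpowers, hx, pow_one])
  obtain ⟨Q', hxQ'⟩ := hxp.exists_le_sylow
  obtain ⟨g, hg⟩ := MulAction.exists_smul_eq G Q' Q
  refine ⟨g, ?_⟩
  rw [hPQeq, ← hg, Sylow.coe_subgroup_smul]
  have h1 : MulAut.conj g • x ∈ MulAut.conj g • (Q' : Subgroup G) :=
    Subgroup.smul_mem_pointwise_smul x _ _ (hxQ' (Subgroup.mem_zpowers x))
  exact h1

end Cfsg.Agent.H70.O7Syl
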