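import Mathlib

/-!
# helper70: piece OUT2 of S2066 -- the outer automorphism group has order 2
-/

set_option autoImplicit false

namespace Cfsg.Agent.H70.Out2

theorem card_out_eq_two {G : Type*} [Group G] (σ : MulAut G)
    (hσ : σ ∉ (MulAut.conj : G →* MulAut G).range)
    (h : ∀ α : MulAut G, α ∈ (MulAut.conj : G →* MulAut G).range ∨
      σ⁻¹ * α ∈ (MulAut.conj : G →* MulAut G).range) :
    Nat.card (MulAut G ⧸ (MulAut.conj : G →* MulAut G).range) = 2 := by
  rw [Nat.card_eq_two_iff]
  refine ⟨((1 : MulAut G) : MulAut G ⧸ (MulAut.conj : G →* MulAut G).range),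
    ((σ : MulAut G) : MulAut G ⧸ (MulAut.conj : G →* MulAut G).range), ?_, ?_⟩
  · intro heq
    rw [QuotientGroup.eq, inv_one, one_mul] at heq
    exact hσ heq
  · rw [Set.eq_univ_iff_forall]
    intro q
    induction q using QuotientGroup.induction_on with
    | H α =>
      rcases h α with hα | hα
      · left
        symm
        rw [QuotientGroup.eq, inv_one, one_mul]
        exact hα
      · right
        rw [Set.mem_singleton_iff]
        symm
        rw [QuotientGroup.eq]
        exact hα

end Cfsg.Agent.H70.Out2
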