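import Cfsg.Agent.H66.SpDefs

/-!
# SP-SYL (helper66's project S2944): a 2-subgroup of `N` lies in a Sylow 2-subgroup of `N`
-/

set_option autoImplicit false
open Cfsg

namespace Cfsg.Agent.H70.Sp

open Cfsg.Agent.H66.Sp

universe u

theorem syl : StSyl.{u} := by
  intro G _ _ P N hP hPN
  have : Fact (Nat.Prime 2) := ⟨Nat.prime_two⟩
  have hP' : IsPGroup 2 ↥(P.subgroupOf N) := by
    apply IsPGroup.of_injective hP (P.subgroupOfEquivOfLe hPN).toMonoidHom
    exact (P.subgroupOfEquivOfLe hPN).injective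
  obtain ⟨Q, hQ⟩ := hP'.exists_le_sylow
  refine ⟨(Q : Subgroup ↥N).map N.subtype, ?_, ?_, ?_, ?_⟩
  · intro x hx
    exact ⟨⟨x, hPN hx⟩, hQ (by rw [Subgroup.mem_subgroupOf]; exact hx), rfl⟩
  · exact Subgroup.map_subtype_le _
  · exact Q.isPGroup'.map N.subtype
  · have e : ((Q : Subgroup ↥N).map N.subtype).subgroupOf N = (Q : Subgroup ↥N) :=
      Subgroup.comap_map_eq_self_of_injective N.subtype_injective _
    rw [Subgroup.relIndex, e]
    have := Q.not_dvd_index
    rw [← Nat.not_even_iff_odd, even_iff_two_dvd]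
    exact this

example : StSyl.{u} := syl

end Cfsg.Agent.H70.Sp
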