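import Mathlib

/-!
# SQ-CNT, abstract core (helper42's project S2945)

`M` a finite abelian group of exponent 2, `x` an automorphism of order 3 whose "projection"
`m ↦ x m * x (x m)` has image `W` of order 4; an elementary abelian 2-group `A₀` acts on `M` and
`x` commutes with its `A₀`-conjugates.  If every `M' ≤ M`, `B' ≤ C_{A₀}(M')` satisfy
`|M'| |B'| ≤ |A₀| |M' ∩ Δ|` (`Δ` a subgroup of `A₀`-fixed points), then `A₀` normalizes `W`.
-/

set_option autoImplicit false

namespace Cfsg.Agent.H70.Sq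

universe u v

variable {M : Type u} [CommGroup M]

/-- the projection attached to an automorphism of order 3 -/
def pr (y : MulAut M) (m : M) : M := y m * y (y m)

theorem pr_mul (y : MulAut M) (m m' : M) : pr y (m * m') = pr y m * pr y m' := by
  unfold pr
  rw [map_mul, map_mul]
  exact mul_mul_mul_comm _ _ _ _

theorem pr_one (y : MulAut M) : pr y 1 = 1 := by simp [pr]

/-- `pr` as a homomorphism -/
def prHom (y : MulAut M) : M →* M where
  toFun := pr y
  map_one' := pr_one y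
  map_mul' := pr_mul y

theorem pr_conj (f y : MulAut M) (m : M) : pr (f * y * f⁻¹) m = f (pr y (f⁻¹ m)) := by
  unfold pr
  simp [MulAut.mul_apply, map_mul]

theorem pr_comm {y y' : MulAut M} (hc : ∀ m, y (y' m) = y' (y m)) (m : M) :
    pr y (pr y' m) = pr y' (pr y m) := by
  unfold pr
  simp only [map_mul, hc]
  ac_rfl

theorem pr_gen1 {y : MulAut M} (h3 : ∀ m, y (y (y m)) = m) (hexp : ∀ m : M, m * m = 1)
    (m : M) : pr y (m * y m) = m * y m := by
  unfold pr
  simp only [map_mul, h3]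
  rw [mul_assoc, ← mul_assoc (y (y m)), hexp, one_mul, mul_comm]

theorem pr_gen2 {y : MulAut M} (h3 : ∀ m, y (y (y m)) = m) (hexp : ∀ m : M, m * m = 1)
    (m : M) : pr y (m * y (y m)) = m * y (y m) := by
  unfold pr
  simp only [map_mul, h3]
  have e : y m * m * (y (y m) * y m) = (y m * y m) * (m * y (y m)) := by ac_rfl
  rw [e, hexp, one_mul]

/-- `y` has order dividing 3 and its projection is onto `E`, identity on `E`. -/
structure Good (y : MulAut M) (E : Subgroup M) : Prop where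
  cube : ∀ m, y (y (y m)) = m
  mem : ∀ m, pr y m ∈ E
  fix : ∀ w ∈ E, pr y w = w

theorem Good.nofix {y : MulAut M} {E : Subgroup M} (h : Good y E) (hexp : ∀ m : M, m * m = 1)
    {w : M} (hw : w ∈ E) (hyw : y w = w) : w = 1 := by
  have h1 := h.fix w hw
  unfold pr at h1
  rw [hyw, hyw, hexp] at h1
  exact h1.symm

theorem Good.inv {y : MulAut M} {E : Subgroup M} (h : Good y E) {w : M} (hw : w ∈ E) :
    y w ∈ E := by
  have e : y w = pr y (y w) := by
    have h1 := congrArg y (h.fix w hw)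
    unfold pr at h1 ⊢
    rw [map_mul] at h1
    exact h1.symm
  rw [e]; exact h.mem _

theorem Good.conj {y : MulAut M} {E : Subgroup M} (h : Good y E) (f : MulAut M) :
    Good (f * y * f⁻¹) (E.map f.toMonoidHom) := by
  refine ⟨?_, ?_, ?_⟩
  · intro m
    simp only [MulAut.mul_apply, MulAut.inv_apply_self, h.cube, MulAut.apply_inv_self]
  · intro m
    rw [pr_conj]
    exact ⟨_, h.mem _, rfl⟩
  · rintro _ ⟨w, hw, rfl⟩
    rw [pr_conj]
    simp only [MulEquiv.coe_toMonoidHom, MulAut.inv_apply_self]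
    rw [h.fix w hw]

theorem pr_eq_of_same {y y' : MulAut M} {E : Subgroup M} (h : Good y E) (h' : Good y' E)
    (hexp : ∀ m : M, m * m = 1) (hc : ∀ m, y (y' m) = y' (y m)) (m : M) :
    pr y' m = pr y m := by
  have h1 : pr y' (m * pr y m) = 1 := by
    have h2 : pr y' (m * pr y m) ∈ E := h'.mem _
    rw [← h.fix _ h2, pr_comm hc, pr_mul, h.fix _ (h.mem m), hexp, pr_one]
  have h3 : m = pr y m * (m * pr y m) := by
    rw [mul_comm m, ← mul_assoc, hexp, one_mul]
  conv_lhs => rw [h3]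
  rw [pr_mul, h1, mul_one, h'.fix _ (h.mem m)]

theorem pr_orth [Finite M] {y y' : MulAut M} {E E' : Subgroup M} (h : Good y E)
    (h' : Good y' E') (hexp : ∀ m : M, m * m = 1) (hc : ∀ m, y (y' m) = y' (y m))
    (hE : Nat.card E = 4) (hE' : Nat.card E' = 4) (hne : E ≠ E') :
    ∀ w ∈ E', pr y w = 1 := by
  have hinv' : ∀ w ∈ E', y w ∈ E' := by
    intro w hw
    have e : pr y' (y w) = y (pr y' w) := by
      unfold pr
      simp only [map_mul, hc]
    rw [h'.fix w hw] at e
    rw [← e]; exact h'.mem _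
  have hdvd : Nat.card ↥(E ⊓ E') ∣ 4 := by
    rw [← hE]; exact Subgroup.card_dvd_of_le inf_le_left
  have hbot : E ⊓ E' = ⊥ := by
    obtain ⟨c, hc'⟩ : ∃ c, c = Nat.card ↥(E ⊓ E') := ⟨_, rfl⟩
    rw [← hc'] at hdvd
    have hle : c ≤ 4 := Nat.le_of_dvd (by norm_num) hdvd
    have hpos : 0 < c := by rw [hc']; exact Nat.card_pos
    interval_cases c
    · exact Subgroup.eq_bot_of_card_eq _ hc'.symm
    · exfalso
      obtain ⟨e, he, -⟩ := (Nat.card_eq_two_iff' (1 : ↥(E ⊓ E'))).mp hc'.symm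
      obtain ⟨e', he', huniq⟩ := (Nat.card_eq_two_iff' (1 : ↥(E ⊓ E'))).mp hc'.symm
      have h1 : (⟨y e'.1, ⟨h.inv e'.2.1, hinv' _ e'.2.2⟩⟩ : ↥(E ⊓ E')) ≠ 1 := by
        intro h2
        apply he'
        have h3 := congrArg Subtype.val h2
        simp only [OneMemClass.coe_one] at h3
        apply Subtype.ext
        simpa using h3
      have h2 := huniq _ h1
      have h3 : y e'.1 = e'.1 := congrArg Subtype.val h2
      apply he'
      apply Subtype.ext
      exact h.nofix hexp e'.2.1 h3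
    · exfalso; norm_num at hdvd
    · exfalso
      apply hne
      have h1 : E ⊓ E' = E :=
        Subgroup.eq_of_le_of_card_ge inf_le_left (by rw [hE, ← hc'])
      have h2 : E ⊓ E' = E' :=
        Subgroup.eq_of_le_of_card_ge inf_le_right (by rw [hE', ← hc'])
      rw [← h1, h2]
  intro w hw
  have h1 : pr y w ∈ E ⊓ E' :=
    ⟨h.mem w, E'.mul_mem (hinv' w hw) (hinv' _ (hinv' w hw))⟩
  rw [hbot] at h1
  exact Subgroup.mem_bot.mp h1

/-- An involutory automorphism of a four-group. -/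
theorem invol_four [Finite M] (t : MulAut M) (W : Subgroup M) (hexp : ∀ m : M, m * m = 1)
    (hW4 : Nat.card W = 4) (hinv : ∀ w ∈ W, t w ∈ W) (htt : ∀ w ∈ W, t (t w) = w)
    (w₀ : M) (hw₀ : w₀ ∈ W) (hne : t w₀ ≠ w₀) :
    ∃ z ∈ W, z ≠ 1 ∧ t z = z ∧ (∀ w ∈ W, t w = w → w = 1 ∨ w = z) ∧
      (∀ w ∈ W, t w ≠ w → t w = w * z) ∧
      Nat.card ↥(W ⊓ MonoidHom.eqLocus t.toMonoidHom (MonoidHom.id M)) = 2 := by
  have hfix : ∀ w ∈ W, t (w * t w) = w * t w := by
    intro w hw
    rw [map_mul, htt w hw, mul_comm]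
  have hne1 : ∀ w ∈ W, t w ≠ w → w * t w ≠ 1 := by
    intro w hw hn h1
    apply hn
    have h2 : w * t w = w * w := by rw [h1, hexp]
    exact mul_left_cancel h2
  have hZmem : ∀ w, w ∈ W ⊓ MonoidHom.eqLocus t.toMonoidHom (MonoidHom.id M) ↔
      w ∈ W ∧ t w = w := by
    intro w
    exact Iff.rfl
  have hzZ : ∀ w ∈ W, w * t w ∈ W ⊓ MonoidHom.eqLocus t.toMonoidHom (MonoidHom.id M) := by
    intro w hw
    exact (hZmem _).mpr ⟨W.mul_mem hw (hinv w hw), hfix w hw⟩
  have hdvd : Nat.card ↥(W ⊓ MonoidHom.eqLocus t.toMonoidHom (MonoidHom.id M)) ∣ 4 := by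
    rw [← hW4]; exact Subgroup.card_dvd_of_le inf_le_left
  have hcard : Nat.card ↥(W ⊓ MonoidHom.eqLocus t.toMonoidHom (MonoidHom.id M)) = 2 := by
    obtain ⟨c, hc'⟩ : ∃ c, c = Nat.card ↥(W ⊓ MonoidHom.eqLocus t.toMonoidHom (MonoidHom.id M)) :=
      ⟨_, rfl⟩
    rw [← hc'] at hdvd ⊢
    have hle : c ≤ 4 := Nat.le_of_dvd (by norm_num) hdvd
    have hpos : 0 < c := by rw [hc']; exact Nat.card_pos
    interval_cases c
    · exfalso
      have h1 := Subgroup.eq_bot_of_card_eq _ hc'.symm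
      have h2 := hzZ w₀ hw₀
      rw [h1] at h2
      exact hne1 w₀ hw₀ hne (Subgroup.mem_bot.mp h2)
    · rfl
    · exfalso; norm_num at hdvd
    · exfalso
      have h1 : W ⊓ MonoidHom.eqLocus t.toMonoidHom (MonoidHom.id M) = W :=
        Subgroup.eq_of_le_of_card_ge inf_le_left (by rw [hW4, ← hc'])
      have h2 : w₀ ∈ W ⊓ MonoidHom.eqLocus t.toMonoidHom (MonoidHom.id M) := by
        rw [h1]; exact hw₀
      exact hne ((hZmem _).mp h2).2
  obtain ⟨e, he, huniq⟩ := (Nat.card_eq_two_iff'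
    (1 : ↥(W ⊓ MonoidHom.eqLocus t.toMonoidHom (MonoidHom.id M)))).mp hcard
  have hall : ∀ w ∈ W ⊓ MonoidHom.eqLocus t.toMonoidHom (MonoidHom.id M), w ≠ 1 → w = e.1 := by
    intro w hw hw1
    have h1 : (⟨w, hw⟩ : ↥(W ⊓ MonoidHom.eqLocus t.toMonoidHom (MonoidHom.id M))) ≠ 1 := by
      intro h2
      exact hw1 (congrArg Subtype.val h2)
    exact congrArg Subtype.val (huniq _ h1)
  have hez : e.1 = w₀ * t w₀ := (hall _ (hzZ w₀ hw₀) (hne1 w₀ hw₀ hne)).symm
  refine ⟨w₀ * t w₀, W.mul_mem hw₀ (hinv w₀ hw₀), hne1 w₀ hw₀ hne, hfix w₀ hw₀, ?_, ?_, hcard⟩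
  · intro w hw htw
    by_cases hw1 : w = 1
    · exact Or.inl hw1
    · right
      rw [← hez]
      exact hall w ((hZmem _).mpr ⟨hw, htw⟩) hw1
  · intro w hw htw
    have h1 : w * t w = w₀ * t w₀ := by
      rw [← hez]
      exact hall _ (hzZ w hw) (hne1 w hw htw)
    rw [← h1, ← mul_assoc, hexp, one_mul]

/-- stabilizer of `W` in `A₀` -/
def stab {A₀ : Type v} [Group A₀] (φ : A₀ →* MulAut M) (W : Subgroup M) : Subgroup A₀ where
  carrier := {a | ∀ w, w ∈ W ↔ φ a w ∈ W}
  one_mem' := by intro w; simp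
  mul_mem' := by
    intro a b ha hb w
    rw [map_mul, MulAut.mul_apply]
    exact (hb w).trans (ha _)
  inv_mem' := by
    intro a ha w
    have h1 := ha ((φ a)⁻¹ w)
    rw [MulAut.apply_inv_self] at h1
    rw [map_inv]
    exact h1.symm

/-- pointwise centralizer of `W` in `A₀` -/
def cent {A₀ : Type v} [Group A₀] (φ : A₀ →* MulAut M) (W : Subgroup M) : Subgroup A₀ where
  carrier := {a | ∀ w ∈ W, φ a w = w}
  one_mem' := by intro w _; simp
  mul_mem' := by
    intro a b ha hb w hw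
    rw [map_mul, MulAut.mul_apply, hb w hw, ha w hw]
  inv_mem' := by
    intro a ha w hw
    rw [map_inv]
    have h2 := congrArg (⇑(φ a)⁻¹) (ha w hw)
    simpa using h2.symm

theorem map_eq_of_mem_stab {A₀ : Type v} [Group A₀] (φ : A₀ →* MulAut M) (W : Subgroup M)
    {a : A₀} (ha : a ∈ stab φ W) : W.map (φ a).toMonoidHom = W := by
  ext w
  constructor
  · rintro ⟨w₀, hw₀, rfl⟩
    exact (ha w₀).mp hw₀
  · intro hw
    refine ⟨(φ a)⁻¹ w, ?_, by simp⟩
    have h1 := ha ((φ a)⁻¹ w)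
    rw [MulAut.apply_inv_self] at h1
    exact h1.mpr hw

theorem core {A₀ : Type v} [CommGroup A₀] [Finite M] [Finite A₀]
    (hexpM : ∀ m : M, m * m = 1) (hexpA : ∀ a : A₀, a * a = 1)
    (φ : A₀ →* MulAut M) (x : MulAut M) (W Δ : Subgroup M)
    (hx : Good x W) (hW4 : Nat.card W = 4)
    (hcomm : ∀ a : A₀, Commute x (φ a * x * (φ a)⁻¹))
    (hΔ : ∀ d ∈ Δ, ∀ a : A₀, φ a d = d)
    (hcnt : ∀ (M' : Subgroup M) (B' : Subgroup A₀), (∀ b ∈ B', ∀ m ∈ M', φ b m = m) →
      Nat.card M' * Nat.card B' ≤ Nat.card A₀ * Nat.card ↥(M' ⊓ Δ)) :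
    ∀ (a : A₀), ∀ w ∈ W, φ a w ∈ W := by
  classical
  have hG : ∀ a : A₀, Good (φ a * x * (φ a)⁻¹) (W.map (φ a).toMonoidHom) :=
    fun a => hx.conj (φ a)
  have hcard : ∀ a : A₀, Nat.card ↥(W.map (φ a).toMonoidHom) = 4 := by
    intro a
    rw [Subgroup.card_map_of_injective (φ a).injective, hW4]
  have hC : ∀ a b : A₀, Commute (φ a * x * (φ a)⁻¹) (φ b * x * (φ b)⁻¹) := by
    intro a b
    have h1 := (Commute.conj_iff (φ a)).mpr (hcomm (a⁻¹ * b))
    have h2 : φ a * (φ (a⁻¹ * b) * x * (φ (a⁻¹ * b))⁻¹) * (φ a)⁻¹ = φ b * x * (φ b)⁻¹ := by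
      rw [map_mul, map_inv]; group
    rw [h2] at h1
    exact h1
  have hc : ∀ (a b : A₀) (m : M), (φ a * x * (φ a)⁻¹) ((φ b * x * (φ b)⁻¹) m) =
      (φ b * x * (φ b)⁻¹) ((φ a * x * (φ a)⁻¹) m) := by
    intro a b m
    exact DFunLike.congr_fun (hC a b).eq m
  have hc0 : ∀ (b : A₀) (m : M), x ((φ b * x * (φ b)⁻¹) m) = (φ b * x * (φ b)⁻¹) (x m) := by
    intro b m
    exact DFunLike.congr_fun (hcomm b).eq m
  have hφc : ∀ (a b : A₀) (m : M), φ a (φ b m) = φ b (φ a m) := by
    intro a b m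
    have h2 : φ a * φ b = φ b * φ a := by rw [← map_mul, ← map_mul, mul_comm]
    exact DFunLike.congr_fun h2 m
  have hB₁B : cent φ W ≤ stab φ W := by
    intro b hb w
    constructor
    · intro hw; rw [hb w hw]; exact hw
    · intro hw
      have h1 := hb _ hw
      have h2 := (φ b).injective h1
      rw [← h2]; exact hw
  let r : A₀ ⧸ stab φ W → A₀ := fun q => q.out
  have hr : ∀ q : A₀ ⧸ stab φ W, ((r q : A₀) : A₀ ⧸ stab φ W) = q :=
    fun q => QuotientGroup.out_eq' q
  have hdist : ∀ q q' : A₀ ⧸ stab φ W, q ≠ q' →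
      W.map (φ (r q)).toMonoidHom ≠ W.map (φ (r q')).toMonoidHom := by
    intro q q' hqq heq
    apply hqq
    have key : (r q)⁻¹ * r q' ∈ stab φ W := by
      intro w
      rw [map_mul, map_inv, MulAut.mul_apply]
      constructor
      · intro hw
        have h1 : φ (r q') w ∈ W.map (φ (r q)).toMonoidHom := by
          rw [heq]; exact ⟨w, hw, rfl⟩
        obtain ⟨w₀, hw₀, h2⟩ := h1
        have h3 : (φ (r q))⁻¹ (φ (r q') w) = w₀ := by
          rw [← h2]; simp
        rw [h3]; exact hw₀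
      · intro hw
        have h1 : φ (r q') w ∈ W.map (φ (r q')).toMonoidHom := by
          rw [← heq]
          refine ⟨_, hw, ?_⟩
          simp
        obtain ⟨w₁, hw₁, h2⟩ := h1
        have h3 : w₁ = w := (φ (r q')).injective h2
        rw [← h3]; exact hw₁
    have h4 := QuotientGroup.eq.mpr key
    rw [hr, hr] at h4
    exact h4
  have hB₁U : ∀ b ∈ cent φ W, ∀ m ∈ (⨆ q : A₀ ⧸ stab φ W, W.map (φ (r q)).toMonoidHom),
      φ b m = m := by
    intro b hb m hm
    have h1 : (⨆ q : A₀ ⧸ stab φ W, W.map (φ (r q)).toMonoidHom) ≤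
        MonoidHom.eqLocus (φ b).toMonoidHom (MonoidHom.id M) := by
      apply iSup_le
      rintro q _ ⟨w, hw, rfl⟩
      show φ b (φ (r q) w) = φ (r q) w
      rw [hφc, hb w hw]
    exact h1 hm
  have hsingle : ∀ (q q' : A₀ ⧸ stab φ W) (m : M), m ∈ W.map (φ (r q)).toMonoidHom →
      pr (φ (r q') * x * (φ (r q'))⁻¹) m = if q' = q then m else 1 := by
    intro q q' m hm
    by_cases hqq : q' = q
    · subst hqq
      rw [if_pos rfl]
      exact (hG _).fix m hm
    · rw [if_neg hqq]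
      exact pr_orth (hG (r q')) (hG (r q)) hexpM (hc _ _) (hcard _) (hcard _)
        (hdist _ _ hqq) m hm
  let Φ : M →* (A₀ ⧸ stab φ W → M) :=
    MonoidHom.pi (fun q => prHom (φ (r q) * x * (φ (r q))⁻¹))
  have hΦ : ∀ m q, Φ m q = pr (φ (r q) * x * (φ (r q))⁻¹) m := fun m q => rfl
  have hsurj : ∀ f : A₀ ⧸ stab φ W → M, (∀ q, f q ∈ W.map (φ (r q)).toMonoidHom) →
      ∃ u ∈ (⨆ q : A₀ ⧸ stab φ W, W.map (φ (r q)).toMonoidHom), Φ u = f := by
    intro f hf
    have h1 : f ∈ (⨆ q : A₀ ⧸ stab φ W, W.map (φ (r q)).toMonoidHom).map Φ := by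
      apply Subgroup.pi_mem_of_mulSingle_mem
      intro q
      refine ⟨f q, le_iSup (fun q => W.map (φ (r q)).toMonoidHom) q (hf q), ?_⟩
      funext q'
      rw [hΦ, hsingle q q' (f q) (hf q)]
      by_cases hqq : q' = q
      · subst hqq; rw [if_pos rfl, Pi.mulSingle_eq_same]
      · rw [if_neg hqq, Pi.mulSingle_eq_of_ne hqq]
    exact h1
  have hcardU : 4 ^ Nat.card (A₀ ⧸ stab φ W) ≤
      Nat.card ↥(⨆ q : A₀ ⧸ stab φ W, W.map (φ (r q)).toMonoidHom) := by
    have hch : ∀ g : (A₀ ⧸ stab φ W) → ↥W,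
        ∃ u ∈ (⨆ q : A₀ ⧸ stab φ W, W.map (φ (r q)).toMonoidHom),
          Φ u = fun q => φ (r q) (g q).1 :=
      fun g => hsurj _ (fun q => ⟨_, (g q).2, rfl⟩)
    choose J hJU hJΦ using hch
    have hinj : Function.Injective (fun g : (A₀ ⧸ stab φ W) → ↥W =>
        (⟨J g, hJU g⟩ : ↥(⨆ q : A₀ ⧸ stab φ W, W.map (φ (r q)).toMonoidHom))) := by
      intro g g' hgg
      have h1 : J g = J g' := congrArg Subtype.val hgg
      have h2 : (fun q => φ (r q) (g q).1) = fun q => φ (r q) (g' q).1 := by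
        rw [← hJΦ g, ← hJΦ g', h1]
      funext q
      apply Subtype.ext
      exact (φ (r q)).injective (congrFun h2 q)
    have h3 := Nat.card_le_card_of_injective _ hinj
    rw [Nat.card_fun, hW4] at h3
    exact h3
  have : Fintype (A₀ ⧸ stab φ W) := Fintype.ofFinite _
  have hrecon : ∀ u ∈ (⨆ q : A₀ ⧸ stab φ W, W.map (φ (r q)).toMonoidHom),
      ∏ q : A₀ ⧸ stab φ W, pr (φ (r q) * x * (φ (r q))⁻¹) u = u := by
    intro u hu
    refine Subgroup.iSup_induction (fun q => W.map (φ (r q)).toMonoidHom)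
      (C := fun u => ∏ q : A₀ ⧸ stab φ W, pr (φ (r q) * x * (φ (r q))⁻¹) u = u) hu ?_ ?_ ?_
    · intro q m hm
      rw [Finset.prod_eq_single q]
      · exact (hG _).fix m hm
      · intro q' _ hqq
        rw [hsingle q q' m hm, if_neg hqq]
      · intro h; exact absurd (Finset.mem_univ q) h
    · simp [pr_one]
    · intro a b ha hb
      simp only [pr_mul]
      rw [Finset.prod_mul_distrib, ha, hb]
  have hDinj : ∀ d ∈ (⨆ q : A₀ ⧸ stab φ W, W.map (φ (r q)).toMonoidHom) ⊓ Δ,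
      pr x d = 1 → d = 1 := by
    intro d hd hpd
    rw [← hrecon d hd.1]
    apply Finset.prod_eq_one
    intro q _
    rw [pr_conj]
    have h1 : (φ (r q))⁻¹ d = d := by
      have h2 := congrArg (⇑(φ (r q))⁻¹) (hΔ d hd.2 (r q))
      simpa using h2.symm
    rw [h1, hpd, map_one]
  have hinjD : ∀ d ∈ (⨆ q : A₀ ⧸ stab φ W, W.map (φ (r q)).toMonoidHom) ⊓ Δ,
      ∀ d' ∈ (⨆ q : A₀ ⧸ stab φ W, W.map (φ (r q)).toMonoidHom) ⊓ Δ,
      pr x d = pr x d' → d = d' := by
    intro d hd d' hd' hpp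
    have h1 : d * d' = 1 := by
      apply hDinj _ (Subgroup.mul_mem _ hd hd')
      rw [pr_mul, hpp, hexpM]
    have h2 : d * d' = d' * d' := by rw [h1, hexpM]
    exact mul_right_cancel h2
  have hn : Nat.card (A₀ ⧸ stab φ W) = (stab φ W).index := rfl
  rw [hn] at hcardU
  have hcntU := hcnt _ (cent φ W) hB₁U
  have hAcard : Nat.card ↥(stab φ W) * (stab φ W).index = Nat.card A₀ :=
    Subgroup.card_mul_index _
  have hB₁pos : 0 < Nat.card ↥(cent φ W) := Nat.card_pos
  have hfin : 4 ^ (stab φ W).index ≤ 4 * (stab φ W).index := by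
    by_cases hBB : stab φ W ≤ cent φ W
    · have h1 : Nat.card ↥(stab φ W) ≤ Nat.card ↥(cent φ W) := Subgroup.card_le_of_le hBB
      have h2 : Nat.card ↥((⨆ q : A₀ ⧸ stab φ W, W.map (φ (r q)).toMonoidHom) ⊓ Δ) ≤ 4 := by
        rw [← hW4]
        apply Nat.card_le_card_of_injective
          (fun d : ↥((⨆ q : A₀ ⧸ stab φ W, W.map (φ (r q)).toMonoidHom) ⊓ Δ) =>
            (⟨pr x d.1, hx.mem d.1⟩ : ↥W))
        intro d d' hdd
        apply Subtype.ext
        exact hinjD d.1 d.2 d'.1 d'.2 (congrArg Subtype.val hdd)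
      have e1 := Nat.mul_le_mul_right (Nat.card ↥(cent φ W)) hcardU
      have e2 : Nat.card A₀ *
          Nat.card ↥((⨆ q : A₀ ⧸ stab φ W, W.map (φ (r q)).toMonoidHom) ⊓ Δ) ≤
          (Nat.card ↥(cent φ W) * (stab φ W).index) * 4 := by
        rw [← hAcard]
        exact Nat.mul_le_mul (Nat.mul_le_mul_right _ h1) h2
      have e3 : 4 ^ (stab φ W).index * Nat.card ↥(cent φ W) ≤
          (4 * (stab φ W).index) * Nat.card ↥(cent φ W) := by
        calc 4 ^ (stab φ W).index * Nat.card ↥(cent φ W) ≤ _ := e1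
          _ ≤ _ := hcntU
          _ ≤ _ := e2
          _ = (4 * (stab φ W).index) * Nat.card ↥(cent φ W) := by ring
      exact Nat.le_of_mul_le_mul_right e3 hB₁pos
    · obtain ⟨b₀, hb₀B, hb₀⟩ := SetLike.not_le_iff_exists.mp hBB
      have hb₀' : ∃ w₀ ∈ W, φ b₀ w₀ ≠ w₀ := by
        by_contra hcon
        push Not at hcon
        exact hb₀ hcon
      obtain ⟨w₀, hw₀, hne₀⟩ := hb₀'
      have hinvB : ∀ b ∈ stab φ W, ∀ w ∈ W, φ b w ∈ W := fun b hb w hw => (hb w).mp hw
      have httB : ∀ (b : A₀) (w : M), φ b (φ b w) = w := by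
        intro b w
        rw [← MulAut.mul_apply, ← map_mul, hexpA, map_one]; rfl
      obtain ⟨z, hzW, hz1, hzfix, hzall, hzmove, hZcard⟩ :=
        invol_four (φ b₀) W hexpM hW4 (hinvB b₀ hb₀B) (fun w _ => httB b₀ w) w₀ hw₀ hne₀
      have hrel : (cent φ W).relIndex (stab φ W) = 2 := by
        rw [Subgroup.relIndex_eq_two_iff]
        refine ⟨b₀, hb₀B, ?_⟩
        intro b' hb'B
        by_cases hb'1 : b' ∈ cent φ W
        · refine Or.inr ⟨hb'1, ?_⟩
          intro h
          apply hb₀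
          have h5 := (cent φ W).mul_mem ((cent φ W).inv_mem hb'1) h
          rwa [inv_mul_cancel_left] at h5
        · refine Or.inl ⟨?_, hb'1⟩
          have hb'' : ∃ w₁ ∈ W, φ b' w₁ ≠ w₁ := by
            by_contra hcon
            push Not at hcon
            exact hb'1 hcon
          obtain ⟨w₁, hw₁, hne₁⟩ := hb''
          obtain ⟨z', hz'W, hz'1, hz'fix, hz'all, hz'move, -⟩ :=
            invol_four (φ b') W hexpM hW4 (hinvB b' hb'B) (fun w _ => httB b' w) w₁ hw₁ hne₁
          have h1 : φ b' (φ b₀ z') = φ b₀ z' := by rw [← hφc, hz'fix]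
          have h2 : φ b₀ z' = z' := by
            rcases hz'all _ (hinvB b₀ hb₀B z' hz'W) h1 with h3 | h3
            · exfalso; apply hz'1
              apply (φ b₀).injective; rw [h3, map_one]
            · exact h3
          have hzz : z' = z := by
            rcases hzall z' hz'W h2 with h3 | h3
            · exact absurd h3 hz'1
            · exact h3
          rw [hzz] at hz'fix hz'all hz'move
          intro w hw
          show φ (b' * b₀) w = w
          rw [map_mul, MulAut.mul_apply]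
          by_cases hw0 : φ b₀ w = w
          · rw [hw0]
            rcases hzall w hw hw0 with h3 | h3
            · rw [h3, map_one]
            · rw [h3]; exact hz'fix
          · have h4 : φ b₀ w = w * z := hzmove w hw hw0
            have h5 : φ b' w ≠ w := by
              intro h6
              rcases hz'all w hw h6 with h7 | h7
              · apply hw0; rw [h7, map_one]
              · apply hw0; rw [h7]; exact hzfix
            have h6 : φ b' w = w * z := hz'move w hw h5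
            rw [h4, map_mul, h6, hz'fix, mul_assoc, hexpM, mul_one]
      have hb : Nat.card ↥(cent φ W) * 2 = Nat.card ↥(stab φ W) := by
        have h5 := Subgroup.relIndex_mul_relIndex (H := ⊥) (K := cent φ W) (L := stab φ W)
          bot_le hB₁B
        rw [Subgroup.relIndex_bot_left, Subgroup.relIndex_bot_left, hrel] at h5
        exact h5
      have hfixd : ∀ d ∈ (⨆ q : A₀ ⧸ stab φ W, W.map (φ (r q)).toMonoidHom) ⊓ Δ,
          φ b₀ (pr x d) = pr x d := by
        intro d hd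
        have h3 : pr (φ b₀ * x * (φ b₀)⁻¹) d = φ b₀ (pr x d) := by
          rw [pr_conj]
          have h4 : (φ b₀)⁻¹ d = d := by
            have h5 := congrArg (⇑(φ b₀)⁻¹) (hΔ d hd.2 b₀)
            simpa using h5.symm
          rw [h4]
        rw [← h3]
        have hGb : Good (φ b₀ * x * (φ b₀)⁻¹) W := by
          have h6 := hG b₀
          rwa [map_eq_of_mem_stab φ W hb₀B] at h6
        exact pr_eq_of_same hx hGb hexpM (hc0 b₀) d
      have h2 : Nat.card ↥((⨆ q : A₀ ⧸ stab φ W, W.map (φ (r q)).toMonoidHom) ⊓ Δ) ≤ 2 := by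
        rw [← hZcard]
        apply Nat.card_le_card_of_injective
          (fun d : ↥((⨆ q : A₀ ⧸ stab φ W, W.map (φ (r q)).toMonoidHom) ⊓ Δ) =>
            (⟨pr x d.1, ⟨hx.mem d.1, hfixd d.1 d.2⟩⟩ :
              ↥(W ⊓ MonoidHom.eqLocus (φ b₀).toMonoidHom (MonoidHom.id M))))
        intro d d' hdd
        apply Subtype.ext
        exact hinjD d.1 d.2 d'.1 d'.2 (congrArg Subtype.val hdd)
      have e1 := Nat.mul_le_mul_right (Nat.card ↥(cent φ W)) hcardU
      have e2 : Nat.card A₀ *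
          Nat.card ↥((⨆ q : A₀ ⧸ stab φ W, W.map (φ (r q)).toMonoidHom) ⊓ Δ) ≤
          (Nat.card ↥(cent φ W) * 2 * (stab φ W).index) * 2 := by
        rw [← hAcard, hb]
        exact Nat.mul_le_mul_left _ h2
      have e3 : 4 ^ (stab φ W).index * Nat.card ↥(cent φ W) ≤
          (4 * (stab φ W).index) * Nat.card ↥(cent φ W) := by
        calc 4 ^ (stab φ W).index * Nat.card ↥(cent φ W) ≤ _ := e1
          _ ≤ _ := hcntU
          _ ≤ _ := e2
          _ = (4 * (stab φ W).index) * Nat.card ↥(cent φ W) := by ring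
      exact Nat.le_of_mul_le_mul_right e3 hB₁pos
  have hn1 : (stab φ W).index ≤ 1 := by
    by_contra hcon
    push Not at hcon
    have h1 : (stab φ W).index < 2 ^ (stab φ W).index := Nat.lt_two_pow_self
    have h2 : 4 ≤ 2 ^ (stab φ W).index := by
      calc 4 = 2 ^ 2 := by norm_num
        _ ≤ 2 ^ (stab φ W).index := Nat.pow_le_pow_right (by norm_num) hcon
    have h3 : (4 : ℕ) ^ (stab φ W).index = 2 ^ (stab φ W).index * 2 ^ (stab φ W).index := by
      rw [← mul_pow]; norm_num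
    rw [h3] at hfin
    have h4 := Nat.mul_le_mul_right (2 ^ (stab φ W).index) h2
    linarith
  have htop : stab φ W = ⊤ := by
    apply Subgroup.index_eq_one.mp
    have hpos : (stab φ W).index ≠ 0 := Subgroup.index_ne_zero_of_finite
    omega
  intro a w hw
  have ha : a ∈ stab φ W := by rw [htop]; trivial
  exact (ha w).mp hw

end Cfsg.Agent.H70.Sq
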