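import Cfsg.Agent.H42.SqDefs
import Cfsg.Agent.H70.SqCore

/-!
# SQ-CNT (helper42's project S2945): the counting argument

`A` an elementary abelian 2-group normalizing the elementary abelian 2-group `V`; `K` acts on `V`
as a group of order 3 with `W = [V, K]` of order 4 and commutes modulo `C_G(V)` with its
`A`-conjugates; `|V' B'| ≤ |A|` for `V' ≤ V`, `B' ≤ C_A(V')`.  Then `A` normalizes `W`.
Reduction to `Cfsg.Agent.H70.Sq.core` (file `SqCore`).
-/

set_option autoImplicit false
open Cfsg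
open scoped IsMulCommutative commutatorElement

namespace Cfsg.Agent.H70.Sq

open Cfsg.Agent.H42.Sq

universe u

variable {G : Type u} [Group G]

/-- conjugation action of the normalizer of `V` on `V` -/
def conjV (V : Subgroup G) : ↥(Subgroup.normalizer (V : Set G)) →* MulAut ↥V where
  toFun g :=
    { toFun := fun v => ⟨g.1 * v.1 * g.1⁻¹, (Subgroup.mem_normalizer_iff.mp g.2 v.1).mp v.2⟩
      invFun := fun v => ⟨g.1⁻¹ * v.1 * g.1, by
        have h := (Subgroup.mem_normalizer_iff.mp g.2 (g.1⁻¹ * v.1 * g.1))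
        rw [h]
        have e : g.1 * (g.1⁻¹ * v.1 * g.1) * g.1⁻¹ = v.1 := by group
        rw [e]; exact v.2⟩
      left_inv := fun v => by apply Subtype.ext; simp only; group
      right_inv := fun v => by apply Subtype.ext; simp only; group
      map_mul' := fun v w => by apply Subtype.ext; simp only [Subgroup.coe_mul]; group }
  map_one' := by
    apply MulEquiv.ext
    intro v
    apply Subtype.ext
    show (1 : G) * v.1 * (1 : G)⁻¹ = v.1
    group
  map_mul' := fun g h => by
    apply MulEquiv.ext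
    intro v
    apply Subtype.ext
    show (g.1 * h.1) * v.1 * (g.1 * h.1)⁻¹ = g.1 * (h.1 * v.1 * h.1⁻¹) * g.1⁻¹
    group

theorem conjV_eq_one_iff (V : Subgroup G) (g : ↥(Subgroup.normalizer (V : Set G))) :
    conjV V g = 1 ↔ g.1 ∈ Subgroup.centralizer (V : Set G) := by
  rw [Subgroup.mem_centralizer_iff]
  constructor
  · intro h v hv
    have h1 := DFunLike.congr_fun h ⟨v, hv⟩
    have h2 : g.1 * v * g.1⁻¹ = v := congrArg Subtype.val h1
    calc v * g.1 = (g.1 * v * g.1⁻¹) * g.1 := by rw [h2]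
      _ = g.1 * v := by group
  · intro h
    apply MulEquiv.ext
    intro v
    apply Subtype.ext
    show g.1 * v.1 * g.1⁻¹ = v.1
    rw [← h v.1 v.2]; group

theorem cnt : StCnt.{u} := by
  intro G _ _ V K O A hV hA hAV hKV hOK hOC hidx hW4 hcomm hcnt
  have := hV.1
  have := hA.1
  have hexpM : ∀ m : ↥V, m * m = 1 := by
    intro m; apply Subtype.ext
    have h1 := hV.2 m.1 m.2
    simpa [pow_two] using h1
  have hexpA : ∀ a : ↥A, a * a = 1 := by
    intro a; apply Subtype.ext
    have h1 := hA.2 a.1 a.2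
    simpa [pow_two] using h1
  have hWV : ⁅V, K⁆ ≤ V := by
    rw [Subgroup.commutator_le]
    intro v hv k' hk'
    have h1 : k' * v⁻¹ * k'⁻¹ ∈ V :=
      (Subgroup.mem_normalizer_iff.mp (hKV hk') v⁻¹).mp (V.inv_mem hv)
    have e : ⁅v, k'⁆ = v * (k' * v⁻¹ * k'⁻¹) := by rw [commutatorElement_def]; group
    rw [e]; exact V.mul_mem hv h1
  let ψ : ↥K →* MulAut ↥V := (conjV V).comp (Subgroup.inclusion hKV)
  have hker : ψ.ker = (Subgroup.centralizer (V : Set G)).subgroupOf K := by
    ext k'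
    rw [MonoidHom.mem_ker, Subgroup.mem_subgroupOf]
    exact conjV_eq_one_iff V (Subgroup.inclusion hKV k')
  have hKC : ¬ K ≤ Subgroup.centralizer (V : Set G) := by
    intro hle
    have h1 : ⁅V, K⁆ = ⊥ := by
      rw [eq_bot_iff, Subgroup.commutator_le]
      intro v hv k' hk'
      rw [Subgroup.mem_bot, commutatorElement_eq_one_iff_commute]
      exact (Subgroup.mem_centralizer_iff.mp (hle hk') v hv)
    rw [h1, Subgroup.card_bot] at hW4
    norm_num at hW4
  have hrange : Nat.card ψ.range = 3 := by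
    rw [← Subgroup.index_ker, hker]
    change (Subgroup.centralizer (V : Set G)).relIndex K = 3
    rw [← Subgroup.inf_relIndex_right]
    have h1 := Subgroup.relIndex_mul_relIndex (H := O)
      (K := Subgroup.centralizer (V : Set G) ⊓ K) (L := K) (le_inf hOC hOK) inf_le_right
    rw [hidx] at h1
    have h2 : (Subgroup.centralizer (V : Set G) ⊓ K).relIndex K ∣ 3 := Dvd.intro_left _ h1
    rcases (Nat.dvd_prime Nat.prime_three).mp h2 with h3 | h3
    · exfalso
      apply hKC
      exact (Subgroup.relIndex_eq_one.mp h3).trans inf_le_left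
    · exact h3
  obtain ⟨k, hkK, hkC⟩ := SetLike.not_le_iff_exists.mp hKC
  obtain ⟨x, hxdef⟩ : ∃ x : MulAut ↥V, x = ψ ⟨k, hkK⟩ := ⟨_, rfl⟩
  have hxv : ∀ v : ↥V, ((x v : ↥V) : G) = k * v.1 * k⁻¹ := by
    intro v; rw [hxdef]; rfl
  have hx1 : x ≠ 1 := by
    intro h
    apply hkC
    rw [hxdef] at h
    exact (conjV_eq_one_iff V (Subgroup.inclusion hKV ⟨k, hkK⟩)).mp h
  have hxr : x ∈ ψ.range := by rw [hxdef]; exact ⟨⟨k, hkK⟩, rfl⟩
  have hx3 : x ^ 3 = 1 := by
    have h1 : (⟨x, hxr⟩ : ↥ψ.range) ^ Nat.card ↥ψ.range = 1 := pow_card_eq_one'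
    rw [hrange] at h1
    exact congrArg Subtype.val h1
  have hord : orderOf x = 3 := by
    have h1 : orderOf x ∣ 3 := orderOf_dvd_of_pow_eq_one hx3
    rcases (Nat.dvd_prime Nat.prime_three).mp h1 with h2 | h2
    · exact absurd (orderOf_eq_one_iff.mp h2) hx1
    · exact h2
  have hzp : Subgroup.zpowers x = ψ.range := by
    apply Subgroup.eq_of_le_of_card_ge
    · rw [Subgroup.zpowers_le]; exact hxr
    · rw [hrange, Nat.card_zpowers, hord]
  have htri : ∀ k' : ↥K, ψ k' = 1 ∨ ψ k' = x ∨ ψ k' = x * x := by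
    intro k'
    have h1 : ψ k' ∈ Subgroup.zpowers x := by rw [hzp]; exact ⟨k', rfl⟩
    obtain ⟨i, hi⟩ := Subgroup.mem_zpowers_iff.mp h1
    have h2 := zpow_mod_orderOf x i
    rw [hord] at h2
    rw [← hi, ← h2]
    have h3 : i % ((3 : ℕ) : ℤ) = 0 ∨ i % ((3 : ℕ) : ℤ) = 1 ∨ i % ((3 : ℕ) : ℤ) = 2 := by omega
    rcases h3 with h3 | h3 | h3
    · left; rw [h3, zpow_zero]
    · right; left; rw [h3, zpow_one]
    · right; right; rw [h3]; exact zpow_two x
  have hcube : ∀ m : ↥V, x (x (x m)) = m := by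
    intro m
    have e : x ^ 3 = x * x * x := by rw [pow_succ, pow_two]
    rw [e] at hx3
    exact DFunLike.congr_fun hx3 m
  have hGood : Good x ((⁅V, K⁆).subgroupOf V) := by
    refine ⟨hcube, ?_, ?_⟩
    · intro m
      rw [Subgroup.mem_subgroupOf]
      have e : ((pr x m : ↥V) : G) = ⁅(x m).1, k⁆ := by
        have h1 : ((x m : ↥V) : G)⁻¹ = (x m).1 := by
          have h2 := congrArg Subtype.val (hexpM (x m))
          simp only [Subgroup.coe_mul, OneMemClass.coe_one] at h2
          exact inv_eq_of_mul_eq_one_left h2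
        show (x m).1 * (x (x m)).1 = _
        rw [commutatorElement_def, hxv (x m), h1]
        group
      rw [e]
      exact Subgroup.commutator_mem_commutator (x m).2 hkK
    · intro w hw
      rw [Subgroup.mem_subgroupOf] at hw
      have key : ∀ g ∈ ⁅V, K⁆, ∀ hg : g ∈ V, pr x ⟨g, hg⟩ = ⟨g, hg⟩ := by
        intro g hg
        rw [Subgroup.commutator_def] at hg
        induction hg using Subgroup.closure_induction with
        | mem g hgS =>
          obtain ⟨v, hv, k', hk', rfl⟩ := hgS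
          intro hg
          have e : (⟨⁅v, k'⁆, hg⟩ : ↥V) = ⟨v, hv⟩ * ψ ⟨k', hk'⟩ ⟨v, hv⟩ := by
            apply Subtype.ext
            show ⁅v, k'⁆ = v * (k' * v * k'⁻¹)
            have h1 : v⁻¹ = v := by
              have h2 := congrArg Subtype.val (hexpM ⟨v, hv⟩)
              exact inv_eq_of_mul_eq_one_left h2
            rw [commutatorElement_def]
            conv_lhs => rw [h1]
            group
          rw [e]
          rcases htri ⟨k', hk'⟩ with h | h | h
          · rw [h]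
            show pr x ((⟨v, hv⟩ : ↥V) * ⟨v, hv⟩) = (⟨v, hv⟩ : ↥V) * ⟨v, hv⟩
            rw [hexpM, pr_one]
          · rw [h]; exact pr_gen1 hcube hexpM _
          · rw [h]; exact pr_gen2 hcube hexpM _
        | one => intro hg; exact pr_one x
        | mul a b ha hb iha ihb =>
          intro hg
          have haV : a ∈ V := hWV (by rw [Subgroup.commutator_def]; exact ha)
          have hbV : b ∈ V := hWV (by rw [Subgroup.commutator_def]; exact hb)
          have e : (⟨a * b, hg⟩ : ↥V) = ⟨a, haV⟩ * ⟨b, hbV⟩ := rfl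
          rw [e, pr_mul, iha haV, ihb hbV]
        | inv a ha iha =>
          intro hg
          have haV : a ∈ V := hWV (by rw [Subgroup.commutator_def]; exact ha)
          have e : (⟨a⁻¹, hg⟩ : ↥V) = (⟨a, haV⟩ : ↥V)⁻¹ := rfl
          rw [e]
          have h1 : pr x (⟨a, haV⟩ : ↥V)⁻¹ = (pr x ⟨a, haV⟩)⁻¹ := map_inv (prHom x) _
          rw [h1, iha haV]
      exact key w.1 hw w.2
  let φ : ↥A →* MulAut ↥V := (conjV V).comp (Subgroup.inclusion hAV)
  have hcomm' : ∀ a : ↥A, Commute x (φ a * x * (φ a)⁻¹) := by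
    intro a
    rw [← commutatorElement_eq_one_iff_commute]
    have e1 : x = conjV V ⟨k, hKV hkK⟩ := hxdef
    have e2 : φ a = conjV V ⟨a.1, hAV a.2⟩ := rfl
    rw [e1, e2, ← map_inv, ← map_mul, ← map_mul, ← map_commutatorElement, conjV_eq_one_iff]
    apply hcomm a.1 a.2
    exact Subgroup.commutator_mem_commutator hkK ⟨k, hkK, rfl⟩
  have hΔ : ∀ d ∈ A.subgroupOf V, ∀ a : ↥A, φ a d = d := by
    intro d hd a
    rw [Subgroup.mem_subgroupOf] at hd
    apply Subtype.ext
    show a.1 * d.1 * a.1⁻¹ = d.1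
    have h1 := congrArg Subtype.val (mul_comm a (⟨d.1, hd⟩ : ↥A))
    simp only [Subgroup.coe_mul] at h1
    rw [h1]; group
  have hcnt' : ∀ (M' : Subgroup ↥V) (B' : Subgroup ↥A), (∀ b ∈ B', ∀ m ∈ M', φ b m = m) →
      Nat.card M' * Nat.card B' ≤ Nat.card ↥A * Nat.card ↥(M' ⊓ A.subgroupOf V) := by
    intro M' B' hfix
    have hV'V : M'.map V.subtype ≤ V := Subgroup.map_subtype_le _
    have hB''A : B'.map A.subtype ≤ A := Subgroup.map_subtype_le _
    have hcen : B'.map A.subtype ≤ Subgroup.centralizer ((M'.map V.subtype : Subgroup G) : Set G) := by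
      rintro _ ⟨b, hb, rfl⟩
      rw [Subgroup.mem_centralizer_iff]
      rintro _ ⟨m, hm, rfl⟩
      have h2 : b.1 * m.1 * b.1⁻¹ = m.1 := congrArg Subtype.val (hfix b hb m hm)
      show m.1 * b.1 = b.1 * m.1
      calc m.1 * b.1 = (b.1 * m.1 * b.1⁻¹) * b.1 := by rw [h2]
        _ = b.1 * m.1 := by group
    have h0 := hcnt _ _ hV'V hB''A hcen
    have hcV : Nat.card ↥(M'.map V.subtype) = Nat.card ↥M' := Subgroup.card_subtype _ _
    have hcB : Nat.card ↥(B'.map A.subtype) = Nat.card ↥B' := Subgroup.card_subtype _ _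
    have hprod : Nat.card ↥(M'.map V.subtype) * Nat.card ↥(B'.map A.subtype) ≤
        Nat.card ↥(M'.map V.subtype ⊔ B'.map A.subtype) *
          Nat.card ↥(M'.map V.subtype ⊓ B'.map A.subtype) := by
      have h1 := Subgroup.relIndex_mul_relIndex (H := ⊥) (K := M'.map V.subtype)
        (L := M'.map V.subtype ⊔ B'.map A.subtype) bot_le le_sup_left
      rw [Subgroup.relIndex_bot_left, Subgroup.relIndex_bot_left] at h1
      have h2 := Subgroup.relIndex_mul_relIndex (H := ⊥)
        (K := M'.map V.subtype ⊓ B'.map A.subtype) (L := B'.map A.subtype) bot_le inf_le_right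
      rw [Subgroup.relIndex_bot_left, Subgroup.relIndex_bot_left,
        Subgroup.inf_relIndex_right] at h2
      have hne : (M'.map V.subtype).relIndex (M'.map V.subtype ⊔ B'.map A.subtype) ≠ 0 := by
        intro h
        rw [h, mul_zero] at h1
        exact (Nat.card_pos (α := ↥(M'.map V.subtype ⊔ B'.map A.subtype))).ne h1
      have h3 : (M'.map V.subtype).relIndex (B'.map A.subtype) ≤
          (M'.map V.subtype).relIndex (M'.map V.subtype ⊔ B'.map A.subtype) :=
        Subgroup.relIndex_le_of_le_right le_sup_right hne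
      calc Nat.card ↥(M'.map V.subtype) * Nat.card ↥(B'.map A.subtype)
          = Nat.card ↥(M'.map V.subtype) * (Nat.card ↥(M'.map V.subtype ⊓ B'.map A.subtype) *
              (M'.map V.subtype).relIndex (B'.map A.subtype)) := by rw [h2]
        _ ≤ Nat.card ↥(M'.map V.subtype) * (Nat.card ↥(M'.map V.subtype ⊓ B'.map A.subtype) *
              (M'.map V.subtype).relIndex (M'.map V.subtype ⊔ B'.map A.subtype)) :=
            Nat.mul_le_mul_left _ (Nat.mul_le_mul_left _ h3)
        _ = (Nat.card ↥(M'.map V.subtype) *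
              (M'.map V.subtype).relIndex (M'.map V.subtype ⊔ B'.map A.subtype)) *
              Nat.card ↥(M'.map V.subtype ⊓ B'.map A.subtype) := by ring
        _ = _ := by rw [h1]
    have hinf : Nat.card ↥(M'.map V.subtype ⊓ B'.map A.subtype) ≤
        Nat.card ↥(M' ⊓ A.subgroupOf V) := by
      have h1 : M'.map V.subtype ⊓ B'.map A.subtype ≤ (M' ⊓ A.subgroupOf V).map V.subtype := by
        rintro g ⟨hgV, hgB⟩
        obtain ⟨m, hm, rfl⟩ := hgV
        exact ⟨m, ⟨hm, Subgroup.mem_subgroupOf.mpr (hB''A hgB)⟩, rfl⟩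
      have h2 := Subgroup.card_le_of_le h1
      rwa [Subgroup.card_subtype] at h2
    calc Nat.card ↥M' * Nat.card ↥B'
        = Nat.card ↥(M'.map V.subtype) * Nat.card ↥(B'.map A.subtype) := by rw [hcV, hcB]
      _ ≤ _ := hprod
      _ ≤ Nat.card ↥A * Nat.card ↥(M' ⊓ A.subgroupOf V) := Nat.mul_le_mul h0 hinf
  have hW4' : Nat.card ↥((⁅V, K⁆).subgroupOf V) = 4 := by
    rw [Nat.card_congr (Subgroup.subgroupOfEquivOfLe hWV).toEquiv, hW4]
  have hfinal := core hexpM hexpA φ x ((⁅V, K⁆).subgroupOf V) (A.subgroupOf V) hGood hW4'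
    hcomm' hΔ hcnt'
  intro a ha
  rw [Subgroup.mem_normalizer_iff]
  intro h
  constructor
  · intro hh
    have h1 := hfinal ⟨a, ha⟩ ⟨h, hWV hh⟩ (Subgroup.mem_subgroupOf.mpr hh)
    exact Subgroup.mem_subgroupOf.mp h1
  · intro hh
    have h1 := hfinal ⟨a⁻¹, A.inv_mem ha⟩ ⟨a * h * a⁻¹, hWV hh⟩ (Subgroup.mem_subgroupOf.mpr hh)
    have h3 : a⁻¹ * (a * h * a⁻¹) * a⁻¹⁻¹ ∈ ⁅V, K⁆ := Subgroup.mem_subgroupOf.mp h1
    have e : a⁻¹ * (a * h * a⁻¹) * a⁻¹⁻¹ = h := by group
    rwa [e] at h3

example : StCnt.{u} := cnt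

end Cfsg.Agent.H70.Sq
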