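import Mathlib
import Cfsg.Agent.H97.SuRDefs

/-!
# S2282-SQ: for `k = 2` in characteristic 2, the square of `d(J) e^U(e_l, S)` is a non-trivial
upper unipotent element `e^U(c', S')` with `c' ≠ 0`
-/

set_option autoImplicit false

namespace Cfsg.Agent.H70.SuR

open Matrix Cfsg.Agent.H45.U Cfsg.Agent.H97.SuR

variable {F : Type*} [Field F]

/-- S2282-SQ -/
theorem sq_upper (σ : F →+* F) (h2 : (2 : F) = 0) (S : Matrix (Fin 2) (Fin 2) F) :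
    ∃ (c' : Matrix (Fin 2) (Fin 1) F) (S' : Matrix (Fin 2) (Fin 2) F), c' ≠ 0 ∧
      dE σ (Cfsg.Agent.H97.SpR.uniSL 2 (1 : F)) (cE F 2) S *
        dE σ (Cfsg.Agent.H97.SpR.uniSL 2 (1 : F)) (cE F 2) S = eU σ c' S' := by
  obtain ⟨A, hA⟩ : ∃ A : Matrix (Fin 2) (Fin 2) F, A = Cfsg.Agent.H97.SpR.uniM 2 (1 : F) :=
    ⟨_, rfl⟩
  have h11' : (1 : F) + 1 = 0 := by rw [one_add_one_eq_two]; exact h2
  have hAA : A * A = 1 := by
    ext i j
    fin_cases i <;> fin_cases j <;>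
      simp [hA, Matrix.mul_apply, Fin.sum_univ_two, Cfsg.Agent.H97.SpR.uniM_apply, h11']
  have hJJ : Cfsg.Agent.H97.SpR.uniSL 2 (1 : F) * Cfsg.Agent.H97.SpR.uniSL 2 (1 : F) = 1 := by
    apply Subtype.ext
    rw [Matrix.SpecialLinearGroup.coe_mul, Cfsg.Agent.H97.SpR.uniSL_coe, ← hA, hAA]
    rfl
  have hJinv : (Cfsg.Agent.H97.SpR.uniSL 2 (1 : F))⁻¹ = Cfsg.Agent.H97.SpR.uniSL 2 (1 : F) :=
    inv_eq_of_mul_eq_one_right hJJ
  have h11 : (1 : Matrix (Fin 1) (Fin 1) F) * 1 = 1 := Matrix.one_mul 1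
  have hct1 : ct σ (1 : Matrix (Fin 1) (Fin 1) F) = 1 := ct_one σ
  have hd : ∀ (c : Matrix (Fin 2) (Fin 1) F) (T : Matrix (Fin 2) (Fin 2) F),
      dU σ A A (1 : Matrix (Fin 1) (Fin 1) F) * eU σ c T = eU σ (A * c * (1 : Matrix (Fin 1) (Fin 1) F)) (A * T * ct σ A) * dU σ A A (1 : Matrix (Fin 1) (Fin 1) F) :=
    fun c T => dU_mul_eU σ A A 1 1 c T hAA h11 hct1
  refine ⟨A * (cE F 2 + A * cE F 2 * (1 : Matrix (Fin 1) (Fin 1) F)) *
      (1 : Matrix (Fin 1) (Fin 1) F),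
    A * (S + A * S * ct σ A - cE F 2 * ct σ (A * cE F 2 * (1 : Matrix (Fin 1) (Fin 1) F))) * ct σ A, ?_, ?_⟩
  · intro h0
    have h00 := congrFun (congrFun h0 0) 0
    simp [hA, Matrix.mul_apply, Fin.sum_univ_two, Cfsg.Agent.H97.SpR.uniM_apply, cE,
      Matrix.add_apply] at h00
    rw [h11', add_zero] at h00
    exact one_ne_zero h00
  · unfold dE
    rw [hJinv, Cfsg.Agent.H97.SpR.uniSL_coe, ← hA]
    calc dU σ A A (1 : Matrix (Fin 1) (Fin 1) F) * eU σ (cE F 2) S * (dU σ A A (1 : Matrix (Fin 1) (Fin 1) F) * eU σ (cE F 2) S)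
        = dU σ A A (1 : Matrix (Fin 1) (Fin 1) F) * eU σ (cE F 2) S *
            (eU σ (A * cE F 2 * (1 : Matrix (Fin 1) (Fin 1) F)) (A * S * ct σ A) * dU σ A A (1 : Matrix (Fin 1) (Fin 1) F)) :=
          congrArg (fun Z => dU σ A A (1 : Matrix (Fin 1) (Fin 1) F) * eU σ (cE F 2) S * Z) (hd (cE F 2) S)
      _ = dU σ A A (1 : Matrix (Fin 1) (Fin 1) F) * (eU σ (cE F 2) S * eU σ (A * cE F 2 * (1 : Matrix (Fin 1) (Fin 1) F)) (A * S * ct σ A)) *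
            dU σ A A (1 : Matrix (Fin 1) (Fin 1) F) := by simp only [Matrix.mul_assoc]
      _ = dU σ A A (1 : Matrix (Fin 1) (Fin 1) F) * eU σ (cE F 2 + A * cE F 2 * (1 : Matrix (Fin 1) (Fin 1) F))
            (S + A * S * ct σ A - cE F 2 * ct σ (A * cE F 2 * (1 : Matrix (Fin 1) (Fin 1) F))) * dU σ A A (1 : Matrix (Fin 1) (Fin 1) F) := by
          rw [eU_mul]
      _ = eU σ (A * (cE F 2 + A * cE F 2 * (1 : Matrix (Fin 1) (Fin 1) F)) * (1 : Matrix (Fin 1) (Fin 1) F))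
            (A * (S + A * S * ct σ A - cE F 2 * ct σ (A * cE F 2 * (1 : Matrix (Fin 1) (Fin 1) F))) * ct σ A) *
            (dU σ A A (1 : Matrix (Fin 1) (Fin 1) F) * dU σ A A (1 : Matrix (Fin 1) (Fin 1) F)) := by
          rw [hd, Matrix.mul_assoc]
      _ = eU σ (A * (cE F 2 + A * cE F 2 * (1 : Matrix (Fin 1) (Fin 1) F)) * (1 : Matrix (Fin 1) (Fin 1) F))
            (A * (S + A * S * ct σ A - cE F 2 * ct σ (A * cE F 2 * (1 : Matrix (Fin 1) (Fin 1) F))) * ct σ A) := by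
          rw [dU_mul_dU, hAA, h11, dU_one, Matrix.mul_one]

example (σ : F →+* F) (h2 : (2 : F) = 0) (S : Matrix (Fin 2) (Fin 2) F) :
    ∃ (c' : Matrix (Fin 2) (Fin 1) F) (S' : Matrix (Fin 2) (Fin 2) F), c' ≠ 0 ∧
      dE σ (Cfsg.Agent.H97.SpR.uniSL 2 (1 : F)) (cE F 2) S *
        dE σ (Cfsg.Agent.H97.SpR.uniSL 2 (1 : F)) (cE F 2) S = eU σ c' S' :=
  sq_upper σ h2 S

end Cfsg.Agent.H70.SuR
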