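import Mathlib
import Cfsg.Agent.H97.SuRDefs

/-!
# S2282-U2: conjugating `d(J) e^U(c, S)` by the Levi element `d(M)`
-/

set_option autoImplicit false

namespace Cfsg.Agent.H70.SuR

open Matrix Cfsg.Agent.H45.U Cfsg.Agent.H97.SuR

variable {F : Type*} [Field F]

/-- the inverse in `SL` of a conjugate `M * g * M'` -/
theorem coe_inv_of_conj {k : ℕ} (M M' : Matrix (Fin k) (Fin k) F)
    (g J₂ : Matrix.SpecialLinearGroup (Fin k) F) (h1 : M * M' = 1) (h2 : M' * M = 1)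
    (hJ : (J₂ : Matrix (Fin k) (Fin k) F) = M * (g : Matrix (Fin k) (Fin k) F) * M') :
    ((J₂⁻¹ : Matrix.SpecialLinearGroup (Fin k) F) : Matrix (Fin k) (Fin k) F) =
      M * ((g⁻¹ : Matrix.SpecialLinearGroup (Fin k) F) : Matrix (Fin k) (Fin k) F) * M' := by
  have e1 : (J₂ : Matrix (Fin k) (Fin k) F) *
      ((J₂⁻¹ : Matrix.SpecialLinearGroup (Fin k) F) : Matrix (Fin k) (Fin k) F) = 1 := by
    rw [← Matrix.SpecialLinearGroup.coe_mul, mul_inv_cancel, Matrix.SpecialLinearGroup.coe_one]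
  have e2 : ((g⁻¹ : Matrix.SpecialLinearGroup (Fin k) F) : Matrix (Fin k) (Fin k) F) *
      (g : Matrix (Fin k) (Fin k) F) = 1 := by
    rw [← Matrix.SpecialLinearGroup.coe_mul, inv_mul_cancel, Matrix.SpecialLinearGroup.coe_one]
  have e3 : M * ((g⁻¹ : Matrix.SpecialLinearGroup (Fin k) F) : Matrix (Fin k) (Fin k) F) * M' *
      (J₂ : Matrix (Fin k) (Fin k) F) = 1 := by
    rw [hJ]
    calc M * ((g⁻¹ : Matrix.SpecialLinearGroup (Fin k) F) : Matrix (Fin k) (Fin k) F) * M' *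
          (M * (g : Matrix (Fin k) (Fin k) F) * M')
        = M * (((g⁻¹ : Matrix.SpecialLinearGroup (Fin k) F) : Matrix (Fin k) (Fin k) F) *
            (M' * M) * (g : Matrix (Fin k) (Fin k) F)) * M' := by
          simp only [Matrix.mul_assoc]
      _ = 1 := by rw [h2, Matrix.mul_one, e2, Matrix.mul_one, h1]
  calc ((J₂⁻¹ : Matrix.SpecialLinearGroup (Fin k) F) : Matrix (Fin k) (Fin k) F)
      = (M * ((g⁻¹ : Matrix.SpecialLinearGroup (Fin k) F) : Matrix (Fin k) (Fin k) F) * M' *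
          (J₂ : Matrix (Fin k) (Fin k) F)) *
          ((J₂⁻¹ : Matrix.SpecialLinearGroup (Fin k) F) : Matrix (Fin k) (Fin k) F) := by
        rw [e3, Matrix.one_mul]
    _ = M * ((g⁻¹ : Matrix.SpecialLinearGroup (Fin k) F) : Matrix (Fin k) (Fin k) F) * M' := by
        rw [Matrix.mul_assoc _ (J₂ : Matrix (Fin k) (Fin k) F), e1, Matrix.mul_one]

/-- S2282-U2 -/
theorem u2_form (σ : F →+* F) {k : ℕ} (M M' : Matrix (Fin k) (Fin k) F)
    (t t' : Matrix (Fin 1) (Fin 1) F) (J₂ : Matrix.SpecialLinearGroup (Fin k) F)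
    (h1 : M * M' = 1) (h2 : M' * M = 1) (ht : t' * t = 1) (htu : ct σ t' = t)
    (hJ : (J₂ : Matrix (Fin k) (Fin k) F) = M * Cfsg.Agent.H97.SpR.uniM k (1 : F) * M')
    (c : Matrix (Fin k) (Fin 1) F) (S : Matrix (Fin k) (Fin k) F) :
    dU σ M M' t * dE σ (Cfsg.Agent.H97.SpR.uniSL k (1 : F)) c S =
      dE σ J₂ (M * c * t') (M * S * ct σ M) * dU σ M M' t := by
  have hinv := coe_inv_of_conj M M' (Cfsg.Agent.H97.SpR.uniSL k (1 : F)) J₂ h1 h2 hJ
  unfold dE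
  rw [Matrix.mul_assoc, ← dU_mul_eU σ M M' t t' c S h2 ht htu, ← Matrix.mul_assoc,
    ← Matrix.mul_assoc, dU_mul_dU, dU_mul_dU, hinv, hJ, Cfsg.Agent.H97.SpR.uniSL_coe]
  congr 2
  · rw [Matrix.mul_assoc, Matrix.mul_assoc, h2, Matrix.mul_one]
  · rw [← Matrix.mul_assoc, ← Matrix.mul_assoc, h2, Matrix.one_mul]
  · rw [Matrix.mul_one, Matrix.one_mul]

example (σ : F →+* F) {k : ℕ} (M M' : Matrix (Fin k) (Fin k) F)
    (t t' : Matrix (Fin 1) (Fin 1) F) (J₂ : Matrix.SpecialLinearGroup (Fin k) F)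
    (h1 : M * M' = 1) (h2 : M' * M = 1) (ht : t' * t = 1) (htu : ct σ t' = t)
    (hJ : (J₂ : Matrix (Fin k) (Fin k) F) = M * Cfsg.Agent.H97.SpR.uniM k (1 : F) * M')
    (c : Matrix (Fin k) (Fin 1) F) (S : Matrix (Fin k) (Fin k) F) :
    dU σ M M' t * dE σ (Cfsg.Agent.H97.SpR.uniSL k (1 : F)) c S =
      dE σ J₂ (M * c * t') (M * S * ct σ M) * dU σ M M' t :=
  u2_form σ M M' t t' J₂ h1 h2 ht htu hJ c S

end Cfsg.Agent.H70.SuR
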