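import Mathlib
import Cfsg.Agent.H17.TgDefs

/-! S1904 piece TG-D1EXPN (helper70 for helper17, parallel take): in case D1, if `A` does not
centralize `Ω₁(Z(X))` then `Z(X)` has exponent 2. -/

set_option autoImplicit false

universe u

namespace Cfsg.Agent.H70.Tg

open Cfsg Cfsg.Agent.H17.Tg
open scoped commutatorElement

private lemma d1n_mulL {X : Type u} [Group X]
    (hc : ∀ a b : X, ⁅a, b⁆ ∈ Subgroup.center X) (a a' b : X) :
    ⁅a * a', b⁆ = ⁅a, b⁆ * ⁅a', b⁆ := by
  have h1 := Subgroup.mem_center_iff.mp (hc a' b) a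
  have h2 := Subgroup.mem_center_iff.mp (hc a' b) ⁅a, b⁆
  calc ⁅a * a', b⁆ = a * ⁅a', b⁆ * a⁻¹ * ⁅a, b⁆ := by
        simp only [commutatorElement_def]; group
    _ = ⁅a', b⁆ * ⁅a, b⁆ := by rw [h1]; group
    _ = ⁅a, b⁆ * ⁅a', b⁆ := h2.symm

private lemma d1n_mulR {X : Type u} [Group X]
    (hc : ∀ a b : X, ⁅a, b⁆ ∈ Subgroup.center X) (a b b' : X) :
    ⁅a, b * b'⁆ = ⁅a, b⁆ * ⁅a, b'⁆ := by
  have h2 := Subgroup.mem_center_iff.mp (hc a b') ⁅a, b⁆
  rw [← commutatorElement_inv (b * b') a, d1n_mulL hc, mul_inv_rev, commutatorElement_inv,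
    commutatorElement_inv]
  exact h2.symm

private lemma d1n_closure {X : Type u} [Group X] (H : Subgroup X)
    (hc : ∀ a b : X, ⁅a, b⁆ ∈ Subgroup.center X) (S : Set X) (hS : Subgroup.closure S = ⊤)
    (h : ∀ s ∈ S, ∀ t ∈ S, ⁅s, t⁆ ∈ H) : ∀ a b : X, ⁅a, b⁆ ∈ H := by
  have hR : ∀ s ∈ S, ∀ b : X, ⁅s, b⁆ ∈ H := by
    intro s hs b
    have hb : b ∈ Subgroup.closure S := hS ▸ Subgroup.mem_top b
    induction hb using Subgroup.closure_induction with
    | mem t ht => exact h s hs t ht
    | one => rw [commutatorElement_one_right]; exact H.one_mem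
    | mul b b' _ _ ihb ihb' => rw [d1n_mulR hc]; exact H.mul_mem ihb ihb'
    | inv b _ ihb =>
      have h1 : ⁅s, b⁻¹⁆ * ⁅s, b⁆ = 1 := by
        rw [← d1n_mulR hc, inv_mul_cancel, commutatorElement_one_right]
      rw [eq_inv_of_mul_eq_one_left h1]
      exact H.inv_mem ihb
  intro a b
  have ha : a ∈ Subgroup.closure S := hS ▸ Subgroup.mem_top a
  induction ha using Subgroup.closure_induction with
  | mem s hs => exact hR s hs b
  | one => rw [commutatorElement_one_left]; exact H.one_mem
  | mul a a' _ _ iha iha' => rw [d1n_mulL hc]; exact H.mul_mem iha iha'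
  | inv a _ iha =>
    have h1 : ⁅a⁻¹, b⁆ * ⁅a, b⁆ = 1 := by
      rw [← d1n_mulL hc, inv_mul_cancel, commutatorElement_one_left]
    rw [eq_inv_of_mul_eq_one_left h1]
    exact H.inv_mem iha

/-- if `X` is generated by `Z(X)` and two elements (class 2), `X'` is cyclic -/
private lemma d1n_two_gen {X : Type u} [Group X]
    (hc : ∀ a b : X, ⁅a, b⁆ ∈ Subgroup.center X) (x y : X)
    (h : Subgroup.center X ⊔ Subgroup.zpowers x ⊔ Subgroup.zpowers y = ⊤) :
    commutator X ≤ Subgroup.zpowers ⁅x, y⁆ := by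
  set S : Set X := (Subgroup.center X : Set X) ∪ {x, y} with hS
  have hgen : Subgroup.closure S = ⊤ := by
    rw [eq_top_iff, ← h]
    apply sup_le
    · apply sup_le
      · exact fun z hz => Subgroup.subset_closure (Or.inl hz)
      · rw [Subgroup.zpowers_le]
        exact Subgroup.subset_closure (Or.inr (Or.inl rfl))
    · rw [Subgroup.zpowers_le]
      exact Subgroup.subset_closure (Or.inr (Or.inr rfl))
  have hall : ∀ a b : X, ⁅a, b⁆ ∈ Subgroup.zpowers ⁅x, y⁆ := by
    apply d1n_closure _ hc S hgen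
    have hzl : ∀ z ∈ Subgroup.center X, ∀ t : X, ⁅z, t⁆ = 1 := by
      intro z hz t
      rw [commutatorElement_eq_one_iff_commute]
      exact (Subgroup.mem_center_iff.mp hz t).symm
    have hzr : ∀ z ∈ Subgroup.center X, ∀ t : X, ⁅t, z⁆ = 1 := by
      intro z hz t
      rw [commutatorElement_eq_one_iff_commute]
      exact (Subgroup.mem_center_iff.mp hz t)
    rintro s (hs | hs | hs) t (ht | ht | ht)
    · rw [hzl s hs]; exact Subgroup.one_mem _
    · rw [hzl s hs]; exact Subgroup.one_mem _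
    · rw [hzl s hs]; exact Subgroup.one_mem _
    · rw [hzr t ht]; exact Subgroup.one_mem _
    · rw [hs, ht, commutatorElement_self]; exact Subgroup.one_mem _
    · rw [hs, Set.mem_singleton_iff.mp ht]; exact Subgroup.mem_zpowers _
    · rw [hzr t ht]; exact Subgroup.one_mem _
    · rw [Set.mem_singleton_iff.mp hs, ht, ← commutatorElement_inv x y]
      exact Subgroup.inv_mem _ (Subgroup.mem_zpowers _)
    · rw [Set.mem_singleton_iff.mp hs, Set.mem_singleton_iff.mp ht, commutatorElement_self]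
      exact Subgroup.one_mem _
  rw [commutator_def, Subgroup.commutator_le]
  intro a _ b _
  exact hall a b

private lemma d1n_closure_comm {X : Type u} [Group X] (S : Set X)
    (hSS : ∀ g ∈ S, ∀ h ∈ S, g * h = h * g) :
    ∀ a ∈ Subgroup.closure S, ∀ b ∈ Subgroup.closure S, a * b = b * a := by
  have hMS : Subgroup.closure S ≤ Subgroup.centralizer S :=
    (Subgroup.closure_le _).mpr
      (fun g hg => Subgroup.mem_centralizer_iff.mpr (fun h hh => hSS h hh g hg))
  intro a ha b hb
  have h1 : Subgroup.closure S ≤ Subgroup.centralizer {a} :=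
    (Subgroup.closure_le _).mpr (fun g hg => Subgroup.mem_centralizer_iff.mpr (fun k hk => by
      rw [Set.mem_singleton_iff] at hk
      subst hk
      exact (Subgroup.mem_centralizer_iff.mp (hMS ha) g hg).symm))
  exact Subgroup.mem_centralizer_iff.mp (h1 hb) a rfl

theorem d1ExpN (hQ : StD1Quot.{u}) (hFour : StFour.{u}) : StD1ExpN.{u} := by
  intro X _ _ A hyp hnab hall hmove
  classical
  obtain ⟨hsq, hcc⟩ := hQ X A hyp hall
  have hc : ∀ a b : X, ⁅a, b⁆ ∈ Subgroup.center X := fun a b => hcc a b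
  let V : Subgroup X :=
    { carrier := {v | v ∈ Subgroup.center X ∧ v ^ 2 = 1}
      mul_mem' := by
        rintro a b ⟨ha, ha2⟩ ⟨hb, hb2⟩
        refine ⟨Subgroup.mul_mem _ ha hb, ?_⟩
        have hcm : Commute a b := Subgroup.mem_center_iff.mp hb a
        rw [hcm.mul_pow, ha2, hb2, one_mul]
      one_mem' := ⟨Subgroup.one_mem _, one_pow 2⟩
      inv_mem' := by
        rintro a ⟨ha, ha2⟩
        exact ⟨Subgroup.inv_mem _ ha, by rw [inv_pow, ha2, inv_one]⟩ }
  have hautZ : ∀ φ : MulAut X, ∀ z ∈ Subgroup.center X, φ z ∈ Subgroup.center X := by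
    intro φ z hz
    rw [Subgroup.mem_center_iff] at hz ⊢
    intro g
    have h2 := congrArg φ (hz (φ⁻¹ g))
    simpa using h2
  have hVinv : AInv A V := by
    intro φ hφ v hv
    exact ⟨hautZ φ v hv.1, by rw [← map_pow, hv.2, map_one]⟩
  have hVle : Nat.card V ≤ 4 := by
    refine hyp.rank (Subgroup.center X) inferInstance ?_ V (fun v hv => hv.1) (fun v hv => hv.2)
    intro a ha b hb
    exact Subgroup.mem_center_iff.mp hb a
  obtain ⟨φ₀, hφ₀, v₀, hv₀, hv₀2, hφv⟩ := hmove
  obtain ⟨hV4, -, -, -, hVsub⟩ := hFour X A hyp.odd V hVinv (fun v hv => hv.2) hVle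
    ⟨φ₀, hφ₀, v₀, ⟨hv₀, hv₀2⟩, hφv⟩
  intro z0 hz0
  by_contra hz02
  -- Claim 1: every element of `V` is a square in `Z`
  have hVS : ∀ v ∈ Subgroup.center X, v ^ 2 = 1 → ∃ z ∈ Subgroup.center X, z ^ 2 = v := by
    let W' : Subgroup X :=
      { carrier := {w | w ∈ Subgroup.center X ∧ w ^ 2 = 1 ∧ ∃ z ∈ Subgroup.center X, z ^ 2 = w}
        mul_mem' := by
          rintro a b ⟨ha, ha2, za, hza, rfl⟩ ⟨hb, hb2, zb, hzb, rfl⟩
          have hcm : Commute (za ^ 2) (zb ^ 2) := Subgroup.mem_center_iff.mp hb _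
          refine ⟨Subgroup.mul_mem _ ha hb, ?_, za * zb, Subgroup.mul_mem _ hza hzb, ?_⟩
          · rw [hcm.mul_pow, ha2, hb2, one_mul]
          · exact (show Commute za zb from Subgroup.mem_center_iff.mp hzb za).mul_pow 2
        one_mem' := ⟨Subgroup.one_mem _, one_pow 2, 1, Subgroup.one_mem _, one_pow 2⟩
        inv_mem' := by
          rintro a ⟨ha, ha2, za, hza, rfl⟩
          exact ⟨Subgroup.inv_mem _ ha, by rw [inv_pow, ha2, inv_one], za⁻¹,
            Subgroup.inv_mem _ hza, inv_pow _ _⟩ }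
    have hW'V : W' ≤ V := fun w hw => ⟨hw.1, hw.2.1⟩
    have hW'inv : AInv A W' := by
      rintro φ hφ w ⟨hw, hw2, zw, hzw, rfl⟩
      exact ⟨hautZ φ _ hw, by rw [← map_pow, hw2, map_one], φ zw, hautZ φ zw hzw,
        (map_pow φ zw 2).symm⟩
    rcases hVsub W' hW'V hW'inv with hbot | htop
    · exfalso
      have hex : ∃ n : ℕ, z0 ^ 2 ^ n = 1 := hyp.pgrp z0
      obtain ⟨m, hm1, hmin⟩ : ∃ m : ℕ, z0 ^ 2 ^ m = 1 ∧ ∀ k < m, z0 ^ 2 ^ k ≠ 1 :=
        ⟨Nat.find hex, Nat.find_spec hex, fun k hk => Nat.find_min hex hk⟩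
      rcases m with _ | _ | m
      · apply hz02
        rw [pow_zero, pow_one] at hm1
        rw [hm1, one_pow]
      · apply hz02
        rw [zero_add, pow_one] at hm1
        exact hm1
      · have hw : z0 ^ 2 ^ (m + 1) ∈ W' := by
          refine ⟨Subgroup.pow_mem _ hz0 _, ?_, z0 ^ 2 ^ m, Subgroup.pow_mem _ hz0 _, ?_⟩
          · rw [← pow_mul, ← pow_succ]; exact hm1
          · rw [← pow_mul, ← pow_succ]
        rw [hbot] at hw
        exact hmin (m + 1) (by omega) (Subgroup.mem_bot.mp hw)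
    · intro v hv hv2
      have h1 : v ∈ W' := htop ▸ (⟨hv, hv2⟩ : v ∈ V)
      exact h1.2.2
  -- Claim 2: an element whose square is a square of `Z` is central
  have hstar : ∀ x : X, (∃ z ∈ Subgroup.center X, x ^ 2 = z ^ 2) → x ∈ Subgroup.center X := by
    rintro x ⟨z, hz, hxz⟩
    by_contra hx
    have hzc : ∀ g : X, g * z = z * g := Subgroup.mem_center_iff.mp hz
    set t := x * z⁻¹ with ht
    have ht2 : t ^ 2 = 1 := by
      have hcm : Commute x z⁻¹ := (show Commute x z from hzc x).inv_right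
      rw [ht, hcm.mul_pow, hxz, inv_pow, mul_inv_cancel]
    have htZ : t ∉ Subgroup.center X := by
      intro h
      apply hx
      have h2 := Subgroup.mul_mem _ h hz
      simpa [ht] using h2
    set SN : Set X := (Subgroup.center X : Set X) ∪ {t} with hSN
    set N : Subgroup X := Subgroup.closure SN with hN
    have hZN : Subgroup.center X ≤ N := fun g hg => Subgroup.subset_closure (Or.inl hg)
    have hNab : ∀ a ∈ N, ∀ b ∈ N, a * b = b * a := by
      apply d1n_closure_comm
      rintro g (hg | hg) h (hh | hh)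
      · exact (Subgroup.mem_center_iff.mp hg h).symm
      · exact (Subgroup.mem_center_iff.mp hg h).symm
      · exact Subgroup.mem_center_iff.mp hh g
      · rw [Set.mem_singleton_iff.mp hg, Set.mem_singleton_iff.mp hh]
    have hNnormal : N.Normal := by
      refine ⟨fun n hn g => ?_⟩
      have h1 : g * n * g⁻¹ = ⁅g, n⁆ * n := by simp [commutatorElement_def]
      rw [h1]
      exact N.mul_mem (hZN (hc g n)) hn
    set SE : Set X := (V : Set X) ∪ {t} with hSE
    set E : Subgroup X := Subgroup.closure SE with hE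
    have hEN : E ≤ N := by
      rw [hE, Subgroup.closure_le]
      rintro g (hg | hg)
      · exact hZN hg.1
      · exact Subgroup.subset_closure (Or.inr hg)
    have hEexp : ∀ a ∈ E, a ^ 2 = 1 := by
      intro a ha
      induction ha using Subgroup.closure_induction with
      | mem g hg =>
        rcases hg with hg | hg
        · exact hg.2
        · rw [Set.mem_singleton_iff.mp hg]; exact ht2
      | one => exact one_pow 2
      | mul a b ha hb iha ihb =>
        have hcm : Commute a b := hNab a (hEN ha) b (hEN hb)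
        rw [hcm.mul_pow, iha, ihb, one_mul]
      | inv a _ iha => rw [inv_pow, iha, inv_one]
    have hEcard := hyp.rank N hNnormal hNab E hEN hEexp
    have hVE : V ≤ E := fun v hv => Subgroup.subset_closure (Or.inl hv)
    have htE : t ∈ E := Subgroup.subset_closure (Or.inr rfl)
    have hd : Nat.card V ∣ Nat.card E := Subgroup.card_dvd_of_le hVE
    have hne : Nat.card E ≠ 4 := by
      intro h
      have h1 : V = E := Subgroup.eq_of_le_of_card_ge hVE (by rw [h, hV4])
      apply htZ
      have h2 : t ∈ V := h1 ▸ htE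
      exact h2.1
    rw [hV4] at hd
    have hpos : 0 < Nat.card E := Nat.card_pos
    obtain ⟨k, hk⟩ := hd
    omega
  have hcomm2 : ∀ a b : X, ⁅a, b⁆ ^ 2 = 1 := by
    intro a b
    rw [pow_two, ← d1n_mulL hc, commutatorElement_eq_one_iff_commute, ← pow_two]
    exact (Subgroup.mem_center_iff.mp (hsq a) b).symm
  -- the squaring homomorphism `X → Z / Z²`
  have hcomZ : ∀ a b : ↥(Subgroup.center X), a * b = b * a := fun a b =>
    Subtype.ext (Subgroup.mem_center_iff.mp b.2 a)
  let f : ↥(Subgroup.center X) →* ↥(Subgroup.center X) :=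
    MonoidHom.mk' (fun z => z ^ 2) (fun a b => (show Commute a b from hcomZ a b).mul_pow 2)
  have hnorm : f.range.Normal :=
    ⟨fun n hn g => by rw [hcomZ g n, mul_inv_cancel_right]; exact hn⟩
  have hfr : ∀ w : ↥(Subgroup.center X),
      w ∈ f.range ↔ ∃ z ∈ Subgroup.center X, z ^ 2 = (w : X) := by
    intro w
    constructor
    · rintro ⟨z, rfl⟩
      exact ⟨z, z.2, by simp [f]⟩
    · rintro ⟨z, hz, hzw⟩
      exact ⟨⟨z, hz⟩, Subtype.ext (by simpa [f] using hzw)⟩
  have hmulθ : ∀ x y : X,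
      (QuotientGroup.mk (⟨(x * y) ^ 2, hsq (x * y)⟩ : ↥(Subgroup.center X)) :
        ↥(Subgroup.center X) ⧸ f.range) =
      QuotientGroup.mk ⟨x ^ 2, hsq x⟩ * QuotientGroup.mk ⟨y ^ 2, hsq y⟩ := by
    intro x y
    rw [← QuotientGroup.mk_mul, eq_comm, QuotientGroup.eq, hfr]
    have hk : ((x ^ 2 * y ^ 2)⁻¹ * (x * y) ^ 2) = ⁅y⁻¹, x⁻¹⁆ := by
      have h1 : (x ^ 2 * y ^ 2)⁻¹ * (x * y) ^ 2 = y⁻¹ * ⁅y⁻¹, x⁻¹⁆ * y := by
        simp only [commutatorElement_def, pow_two]; group
      rw [h1, Subgroup.mem_center_iff.mp (hc y⁻¹ x⁻¹) y⁻¹]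
      exact inv_mul_cancel_right _ _
    obtain ⟨z, hz, hz2⟩ := hVS _ (hc y⁻¹ x⁻¹) (hcomm2 _ _)
    refine ⟨z, hz, ?_⟩
    rw [hz2, ← hk]
    simp
  let θ : X →* ↥(Subgroup.center X) ⧸ f.range :=
    MonoidHom.mk' (fun x => QuotientGroup.mk ⟨x ^ 2, hsq x⟩) hmulθ
  have hker : θ.ker = Subgroup.center X := by
    ext x
    rw [MonoidHom.mem_ker]
    show (QuotientGroup.mk (⟨x ^ 2, hsq x⟩ : ↥(Subgroup.center X)) :
        ↥(Subgroup.center X) ⧸ f.range) = 1 ↔ _
    rw [QuotientGroup.eq_one_iff, hfr]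
    constructor
    · rintro ⟨z, hz, hz2⟩
      exact hstar x ⟨z, hz, hz2.symm⟩
    · intro hx
      exact ⟨x, hx, rfl⟩
  have hkerf : Nat.card f.ker = 4 := by
    rw [← hV4]
    apply Nat.card_congr
    exact
      { toFun := fun w => ⟨(w.1 : X), ⟨w.1.2, by
            have h1 := w.2
            rw [MonoidHom.mem_ker] at h1
            have h2 := congrArg Subtype.val h1
            simpa [f] using h2⟩⟩
        invFun := fun v => ⟨⟨v.1, v.2.1⟩, by
            rw [MonoidHom.mem_ker]
            exact Subtype.ext (by simpa [f] using v.2.2)⟩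
        left_inv := fun w => rfl
        right_inv := fun v => rfl }
  have hidx : f.range.index = 4 := by
    have h1 := Subgroup.card_mul_index f.ker
    have h2 := Subgroup.card_mul_index f.range
    rw [Subgroup.index_ker, hkerf] at h1
    have hpos : 0 < Nat.card f.range := Nat.card_pos
    have h3 : Nat.card f.range * f.range.index = Nat.card f.range * 4 := by
      rw [h2, ← h1, mul_comm]
    exact Nat.eq_of_mul_eq_mul_left hpos h3
  have hZidx : (Subgroup.center X).index ∣ 4 := by
    rw [← hker, Subgroup.index_ker, ← hidx, Subgroup.index_eq_card]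
    exact Subgroup.card_subgroup_dvd_card θ.range
  have hZidx4 : (Subgroup.center X).index ≤ 4 := Nat.le_of_dvd (by norm_num) hZidx
  -- `X` is generated by `Z` and two elements
  obtain ⟨x1, hx1⟩ : ∃ x : X, x ∉ Subgroup.center X := by
    by_contra h
    push Not at h
    exact hnab (fun a b => Subgroup.mem_center_iff.mp (h b) a)
  obtain ⟨x2, hgen⟩ : ∃ x2 : X,
      Subgroup.center X ⊔ Subgroup.zpowers x1 ⊔ Subgroup.zpowers x2 = ⊤ := by
    set M1 : Subgroup X := Subgroup.center X ⊔ Subgroup.zpowers x1 with hM1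
    by_cases hM1top : M1 = ⊤
    · exact ⟨1, by rw [hM1top, top_sup_eq]⟩
    · obtain ⟨x2, hx2⟩ : ∃ y : X, y ∉ M1 := by
        by_contra h
        push Not at h
        exact hM1top ((Subgroup.eq_top_iff' _).mpr h)
      refine ⟨x2, ?_⟩
      set M2 : Subgroup X := M1 ⊔ Subgroup.zpowers x2 with hM2
      have d1 : Nat.card (Subgroup.center X) ∣ Nat.card M1 := Subgroup.card_dvd_of_le le_sup_left
      have d2 : Nat.card M1 ∣ Nat.card M2 := Subgroup.card_dvd_of_le le_sup_left
      have e1 : Nat.card M1 ≠ Nat.card (Subgroup.center X) := by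
        intro h
        have h1 : Subgroup.center X = M1 := Subgroup.eq_of_le_of_card_ge le_sup_left (by rw [h])
        apply hx1
        rw [h1]
        exact Subgroup.mem_sup_right (Subgroup.mem_zpowers x1)
      have e2 : Nat.card M2 ≠ Nat.card M1 := by
        intro h
        have h1 : M1 = M2 := Subgroup.eq_of_le_of_card_ge le_sup_left (by rw [h])
        apply hx2
        rw [h1]
        exact Subgroup.mem_sup_right (Subgroup.mem_zpowers x2)
      have hX := Subgroup.card_mul_index (Subgroup.center X)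
      have hZpos : 0 < Nat.card (Subgroup.center X) := Nat.card_pos
      have hM1pos : 0 < Nat.card M1 := Nat.card_pos
      have hM2le : Nat.card M2 ≤ Nat.card X := Nat.le_of_dvd Nat.card_pos
        (Subgroup.card_subgroup_dvd_card M2)
      obtain ⟨k1, hk1⟩ := d1
      obtain ⟨k2, hk2⟩ := d2
      have hk1' : 2 ≤ k1 := by
        rcases k1 with _ | _ | k1
        · rw [hk1] at hM1pos; simp at hM1pos
        · rw [hk1] at e1; simp at e1
        · omega
      have hk2' : 2 ≤ k2 := by
        rcases k2 with _ | _ | k2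
        · have h0 : 0 < Nat.card M2 := Nat.card_pos
          rw [hk2] at h0; simp at h0
        · rw [hk2] at e2; simp at e2
        · omega
      have h1 : 2 * Nat.card (Subgroup.center X) ≤ Nat.card M1 := by
        rw [hk1, mul_comm]; exact Nat.mul_le_mul_left _ hk1'
      have h2 : 2 * Nat.card M1 ≤ Nat.card M2 := by
        rw [hk2, mul_comm]; exact Nat.mul_le_mul_left _ hk2'
      have h3 : Nat.card X ≤ Nat.card (Subgroup.center X) * 4 := by
        rw [← hX]; exact Nat.mul_le_mul_left _ hZidx4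
      exact (Subgroup.card_eq_iff_eq_top M2).mp (by omega)
  have hCle : commutator X ≤ Subgroup.zpowers ⁅x1, x2⁆ := d1n_two_gen hc x1 x2 hgen
  have hCV : commutator X ≤ V := by
    rw [commutator_def, Subgroup.commutator_le]
    intro a _ b _
    exact ⟨hc a b, hcomm2 a b⟩
  have hCinv : AInv A (commutator X) := by
    intro φ hφ h hh
    have h1 := (inferInstance : (commutator X).Characteristic).fixed φ
    have h2 : h ∈ (commutator X).comap φ.toMonoidHom := by rw [h1]; exact hh
    exact h2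
  rcases hVsub (commutator X) hCV hCinv with hbot | htop
  · apply hnab
    intro a b
    have h1 : ⁅a, b⁆ ∈ commutator X := by
      rw [commutator_def]
      exact Subgroup.commutator_mem_commutator (Subgroup.mem_top a) (Subgroup.mem_top b)
    rw [hbot, Subgroup.mem_bot] at h1
    exact commutatorElement_eq_one_iff_mul_comm.mp h1
  · have h4 : Nat.card V ≤ Nat.card (Subgroup.zpowers ⁅x1, x2⁆) := by
      rw [← htop]
      exact Nat.le_of_dvd Nat.card_pos (Subgroup.card_dvd_of_le hCle)
    rw [hV4, Nat.card_zpowers] at h4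
    have h2 : orderOf ⁅x1, x2⁆ ≤ 2 := orderOf_le_of_pow_eq_one (by norm_num) (hcomm2 x1 x2)
    omega

example (hQ : StD1Quot.{u}) (hFour : StFour.{u}) : StD1ExpN.{u} := d1ExpN hQ hFour

end Cfsg.Agent.H70.Tg
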