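import Mathlib
import Cfsg.Agent.H34.ThDefs

/-!
# TH-REALPD (helper70, for helper34's S1632): an integral symmetric matrix of determinant `1` which is
positive on the nonzero integer vectors is positive definite over `ℝ`
-/

set_option autoImplicit false

namespace Cfsg.Agent.H70.Th

open Matrix Cfsg.Agent.H34.Th

/-- clearing denominators of a rational vector -/
theorem exists_int_scale {n : ℕ} (y : Fin n → ℚ) :
    ∃ (d : ℕ) (w : Fin n → ℤ), 0 < d ∧ ∀ i, (w i : ℝ) = (y i : ℝ) * (d : ℝ) := by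
  classical
  refine ⟨∏ i, (y i).den, fun i => (y i).num * ((∏ j ∈ Finset.univ.erase i, (y j).den : ℕ) : ℤ),
    Finset.prod_pos (fun i _ => (y i).den_pos), fun i => ?_⟩
  have h1 : (∏ j, (y j).den : ℕ) = (y i).den * ∏ j ∈ Finset.univ.erase i, (y j).den :=
    (Finset.mul_prod_erase Finset.univ (fun j => (y j).den) (Finset.mem_univ i)).symm
  have h2 : ((y i : ℚ) : ℝ) = ((y i).num : ℝ) / ((y i).den : ℝ) := by
    exact_mod_cast (Rat.cast_def (y i) : ((y i : ℚ) : ℝ) = _)
  have h3 : ((y i).den : ℝ) ≠ 0 := by exact_mod_cast (y i).den_ne_zero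
  rw [h1, h2]
  push_cast
  field_simp

/-- TH-REALPD -/
theorem realPD : StRealPD := by
  intro n B hB hpos hdet x hx
  classical
  set Br : Matrix (Fin n) (Fin n) ℝ := B.map (Int.cast : ℤ → ℝ) with hBr
  have hcont : Continuous (fun y : Fin n → ℝ => y ⬝ᵥ (Br *ᵥ y)) := by
    unfold dotProduct mulVec dotProduct
    fun_prop
  -- integer vectors
  have hint : ∀ w : Fin n → ℤ,
      (0 : ℝ) ≤ (fun i => (w i : ℝ)) ⬝ᵥ (Br *ᵥ (fun i => (w i : ℝ))) := by
    intro w
    have h1 : (0 : ℤ) ≤ w ⬝ᵥ (B *ᵥ w) := by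
      by_cases hw : w = 0
      · subst hw; simp
      · exact (hpos w hw).le
    have h2 : ((w ⬝ᵥ (B *ᵥ w) : ℤ) : ℝ) =
        (fun i => (w i : ℝ)) ⬝ᵥ (Br *ᵥ (fun i => (w i : ℝ))) := by
      simp only [dotProduct, mulVec, hBr, Matrix.map_apply]
      push_cast
      rfl
    rw [← h2]
    exact_mod_cast h1
  -- rational vectors
  have hrat : ∀ y : Fin n → ℚ,
      (0 : ℝ) ≤ (fun i => (y i : ℝ)) ⬝ᵥ (Br *ᵥ (fun i => (y i : ℝ))) := by
    intro y
    obtain ⟨d, w, hd, hw⟩ := exists_int_scale y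
    have hd' : (0 : ℝ) < d := by exact_mod_cast hd
    have h1 := hint w
    have h2 : (fun i => (w i : ℝ)) = (d : ℝ) • (fun i => (y i : ℝ)) := by
      funext i
      rw [hw i, Pi.smul_apply, smul_eq_mul, mul_comm]
    rw [h2, mulVec_smul, dotProduct_smul, smul_dotProduct, smul_eq_mul, smul_eq_mul] at h1
    have h3 : 0 ≤ (d : ℝ) * ((fun i => (y i : ℝ)) ⬝ᵥ (Br *ᵥ (fun i => (y i : ℝ)))) :=
      nonneg_of_mul_nonneg_right h1 hd'
    exact nonneg_of_mul_nonneg_right h3 hd'
  -- all real vectors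
  have hdense : DenseRange (fun y : Fin n → ℚ => fun i => ((y i : ℚ) : ℝ)) :=
    DenseRange.piMap (fun _ => Rat.denseRange_cast)
  have hnn : ∀ y : Fin n → ℝ, 0 ≤ y ⬝ᵥ (Br *ᵥ y) := by
    intro y
    exact hdense.induction_on (p := fun y => 0 ≤ y ⬝ᵥ (Br *ᵥ y)) y
      (isClosed_le continuous_const hcont) hrat
  have hherm : Br.IsHermitian := by
    rw [Matrix.IsHermitian]
    ext i j
    simp only [hBr, Matrix.conjTranspose_apply, Matrix.map_apply, star_trivial]
    have := congrFun (congrFun hB j) i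
    rw [Matrix.transpose_apply] at this
    rw [this]
  have hpsd : Br.PosSemidef :=
    Matrix.PosSemidef.of_dotProduct_mulVec_nonneg hherm (fun y => by
      rw [star_trivial]
      exact hnn y)
  have hdet' : Br.det ≠ 0 := by
    have h1 : Br.det = ((B.det : ℤ) : ℝ) := by
      rw [hBr]
      exact (Int.cast_det (R := ℝ) B).symm
    rw [h1, hdet]
    norm_num
  have hpd : Br.PosDef := hpsd.posDef_iff_det_ne_zero.mpr hdet'
  have hfin := hpd.dotProduct_mulVec_pos hx
  rwa [star_trivial] at hfin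

example : Cfsg.Agent.H34.Th.StRealPD := realPD

end Cfsg.Agent.H70.Th
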