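import Cfsg.Agent.H64.TmDefs
import Cfsg.Agent.H4.Exceptional

/-!
# TM-GEN (S3701 team project, lead helper64): `P₁ = Ind_C^G 1 - Ind_C^G λ`, `C = C_G(c)`
(twin of `Cfsg.Agent.H70.Tn.gen`)
-/

set_option autoImplicit false

namespace Cfsg.Agent.H70.Tm

open Cfsg Cfsg.Agent.H4 Cfsg.Agent.H64.Tm Subgroup

universe u

theorem gen (hL : StLam.{u}) (hC : StCC.{u}) (hD : StD.{u}) (hS : StS1.{u}) (hTI : StTI.{u}) :
    StGen.{u} := by
  intro G _ _ H T a b c x y cfg
  classical
  haveI : Fintype G := Fintype.ofFinite G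
  obtain ⟨l, ω, hω1, hω3, hl, hlv⟩ := hL G H T a b c x y cfg
  obtain ⟨hCel, hC54, hCN, hNa⟩ := hC G H T a b c x y cfg
  obtain ⟨-, hCcomm, hNA, -⟩ := hD G H T a b c x y cfg
  obtain ⟨-, hSinv, -, -, -⟩ := hS G H T a b c x y cfg
  have hTI' := hTI G H T a b c x y cfg
  have hωsum : ω ^ 2 + ω + 1 = 0 := by
    have : (ω - 1) * (ω ^ 2 + ω + 1) = 0 := by linear_combination hω3
    rcases mul_eq_zero.mp this with h | h
    · exact absurd (sub_eq_zero.mp h) hω1
    · exact h
  refine ⟨indFun (centralizer ({c} : Set G)) (fun _ => 1), indFun (centralizer ({c} : Set G)) l,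
    isCharacter_indFun _ _ (isCharacter_of_isIrrCharacter isIrrCharacter_one),
    isCharacter_indFun _ l hl, ?_⟩
  -- the function `e = (1 - λ)` extended by zero
  have he_ne : ∀ z : G, extendByZero (centralizer ({c} : Set G)) ((fun _ => 1) - l) z ≠ 0 →
      z ∈ S1 a b c x := by
    intro z hz
    by_cases hzC : z ∈ centralizer ({c} : Set G)
    · obtain ⟨w, hw, h | h | h⟩ := hCel z hzC
      · exfalso; apply hz
        rw [extendByZero_of_mem _ _ hzC]
        simp only [Pi.sub_apply]
        rw [(hlv ⟨z, hzC⟩ w hw).1 h]; ring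
      · exact ⟨w, hw, Or.inl h⟩
      · exact ⟨w, hw, Or.inr h⟩
    · exfalso; exact hz (extendByZero_of_not_mem _ _ hzC)
  have hcC : c ∈ centralizer ({c} : Set G) := by
    rw [mem_centralizer_iff]; intro h hh; rw [Set.mem_singleton_iff.mp hh]
  have hwC : ∀ w ∈ closure ({a, b, x} : Set G), w ∈ centralizer ({c} : Set G) := by
    intro w hw
    rw [mem_centralizer_iff]; intro h hh; rw [Set.mem_singleton_iff.mp hh]
    exact (hCcomm w hw).symm
  have he_val : ∀ w ∈ closure ({a, b, x} : Set G),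
      extendByZero (centralizer ({c} : Set G)) ((fun _ => 1) - l) (c * w) = 1 - ω ∧
      extendByZero (centralizer ({c} : Set G)) ((fun _ => 1) - l) (c⁻¹ * w) = 1 - ω ^ 2 := by
    intro w hw
    have h1 : c * w ∈ centralizer ({c} : Set G) := mul_mem hcC (hwC w hw)
    have h2 : c⁻¹ * w ∈ centralizer ({c} : Set G) := mul_mem (inv_mem hcC) (hwC w hw)
    refine ⟨?_, ?_⟩
    · rw [extendByZero_of_mem _ _ h1]
      simp only [Pi.sub_apply]
      rw [(hlv ⟨c * w, h1⟩ w hw).2.1 rfl]
    · rw [extendByZero_of_mem _ _ h2]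
      simp only [Pi.sub_apply]
      rw [(hlv ⟨c⁻¹ * w, h2⟩ w hw).2.2 rfl]
  have hdiff : ∀ g : G, indFun (centralizer ({c} : Set G)) (fun _ => 1) g -
      indFun (centralizer ({c} : Set G)) l g =
      (Nat.card (centralizer ({c} : Set G)) : ℂ)⁻¹ *
        ∑ r : G, extendByZero (centralizer ({c} : Set G)) ((fun _ => 1) - l) (r⁻¹ * g * r) := by
    intro g
    have := congrFun (indFun_sub (centralizer ({c} : Set G)) (fun _ => 1) l) g
    rw [Pi.sub_apply] at this
    rw [← this, indFun_apply]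
  have hsumH : ∀ (K : Subgroup G) (d : ℂ),
      ∑ r : G, (if r ∈ K then d else 0) = (Nat.card K : ℂ) * d := by
    intro K d
    rw [← Finset.sum_filter, Finset.sum_const, nsmul_eq_mul]
    congr 2
    exact (Nat.subtype_card _ (by simp)).symm
  -- conjugation by `r⁻¹` on `c` and on `⟨a,b,x⟩`
  have hconjw : ∀ r ∈ H, ∀ w ∈ closure ({a, b, x} : Set G),
      r⁻¹ * w * r ∈ closure ({a, b, x} : Set G) := by
    intro r hr w hw
    have := hNA r⁻¹ (inv_mem hr) w hw
    rwa [inv_inv] at this
  have hconja1 : ∀ r ∈ centralizer ({c} : Set G), r⁻¹ * c * r = c := by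
    intro r hr
    have := mem_centralizer_iff.mp hr c rfl
    rw [mul_assoc, this, ← mul_assoc, inv_mul_cancel, one_mul]
  have hconja2 : ∀ r ∈ H, r ∉ centralizer ({c} : Set G) → r⁻¹ * c * r = c⁻¹ := by
    intro r hr hrC
    have := hNa r⁻¹ (inv_mem hr) (fun h => hrC (by simpa using inv_mem h))
    rwa [inv_inv] at this
  -- the key sum
  have hkey : ∀ s ∈ S1 a b c x,
      ∑ r : G, extendByZero (centralizer ({c} : Set G)) ((fun _ => 1) - l) (r⁻¹ * s * r) = 162 := by
    intro s hs
    have hout : ∀ r : G, r ∉ H →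
        extendByZero (centralizer ({c} : Set G)) ((fun _ => 1) - l) (r⁻¹ * s * r) = 0 := by
      intro r hr
      by_contra h
      have h1 := he_ne _ h
      have h2 := hTI' s hs r⁻¹ (by rwa [inv_inv])
      exact hr (by simpa using inv_mem h2)
    obtain ⟨w, hw, rfl | rfl⟩ := hs
    · have hform : ∀ r : G,
          extendByZero (centralizer ({c} : Set G)) ((fun _ => 1) - l) (r⁻¹ * (c * w) * r) =
          (if r ∈ H then (1 - ω ^ 2) else 0) +
          (if r ∈ centralizer ({c} : Set G) then ((1 - ω) - (1 - ω ^ 2)) else 0) := by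
        intro r
        by_cases hrN : r ∈ H
        · have e1 : r⁻¹ * (c * w) * r = (r⁻¹ * c * r) * (r⁻¹ * w * r) := by group
          by_cases hrC : r ∈ centralizer ({c} : Set G)
          · rw [if_pos hrN, if_pos hrC, e1, hconja1 r hrC, (he_val _ (hconjw r hrN w hw)).1]
            ring
          · rw [if_pos hrN, if_neg hrC, e1, hconja2 r hrN hrC, (he_val _ (hconjw r hrN w hw)).2]
            ring
        · rw [if_neg hrN, if_neg (fun h => hrN (hCN h)), hout r hrN]; ring
      rw [Finset.sum_congr rfl (fun r _ => hform r), Finset.sum_add_distrib, hsumH, hsumH,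
        cfg.cardH, hC54]
      push_cast
      linear_combination (-54 : ℂ) * hωsum
    · have hform : ∀ r : G,
          extendByZero (centralizer ({c} : Set G)) ((fun _ => 1) - l) (r⁻¹ * (c⁻¹ * w) * r) =
          (if r ∈ H then (1 - ω) else 0) +
          (if r ∈ centralizer ({c} : Set G) then ((1 - ω ^ 2) - (1 - ω)) else 0) := by
        intro r
        by_cases hrN : r ∈ H
        · have e1 : r⁻¹ * (c⁻¹ * w) * r = (r⁻¹ * c * r)⁻¹ * (r⁻¹ * w * r) := by group
          by_cases hrC : r ∈ centralizer ({c} : Set G)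
          · rw [if_pos hrN, if_pos hrC, e1, hconja1 r hrC, (he_val _ (hconjw r hrN w hw)).2]
            ring
          · rw [if_pos hrN, if_neg hrC, e1, hconja2 r hrN hrC, inv_inv,
              (he_val _ (hconjw r hrN w hw)).1]
            ring
        · rw [if_neg hrN, if_neg (fun h => hrN (hCN h)), hout r hrN]; ring
      rw [Finset.sum_congr rfl (fun r _ => hform r), Finset.sum_add_distrib, hsumH, hsumH,
        cfg.cardH, hC54]
      push_cast
      linear_combination (-54 : ℂ) * hωsum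
  intro g
  by_cases hg : g ∈ S1G a b c x
  · obtain ⟨z, hz⟩ := hg
    have hP : P1 a b c x g = 3 := by
      rw [P1, Set.indicator_of_mem (show g ∈ S1G a b c x from ⟨z, hz⟩)]
    rw [hP, ← indFun_isClassFunction (centralizer ({c} : Set G)) (fun _ => 1) g z,
      ← indFun_isClassFunction (centralizer ({c} : Set G)) l g z, hdiff, hkey _ hz, hC54]
    norm_num
  · rw [hdiff, P1, Set.indicator_of_notMem hg, Finset.sum_eq_zero, mul_zero]
    intro r _
    by_contra h
    exact hg ⟨r⁻¹, by simpa using he_ne _ h⟩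

example (hL : Cfsg.Agent.H64.Tm.StLam.{u}) (hC : Cfsg.Agent.H64.Tm.StCC.{u})
    (hD : Cfsg.Agent.H64.Tm.StD.{u}) (hS : Cfsg.Agent.H64.Tm.StS1.{u})
    (hTI : Cfsg.Agent.H64.Tm.StTI.{u}) : Cfsg.Agent.H64.Tm.StGen.{u} := gen hL hC hD hS hTI

end Cfsg.Agent.H70.Tm
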