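import Mathlib
import Cfsg.Agent.H77.TmDefs2
import Cfsg.Agent.H49.Witt

/-!
# S5987-QWITT (helper70, for helper77): a nondegenerate subspace of dimension `≥ 2 j + 1` of a quadratic
space over a finite field contains a totally singular subspace of dimension `j` (all characteristics)
-/

set_option autoImplicit false

namespace Cfsg.Agent.H70.Tm

open Cfsg.Agent.H45 Cfsg.Agent.H77.Tm Module

universe u v

/-- the span of a family of pairwise polar-orthogonal singular vectors is totally singular -/
theorem ts_span {F : Type u} [Field F] {V : Type v} [AddCommGroup V] [Module F V]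
    (Q : QuadraticForm F V) {ι : Type*} (e : ι → V) (h1 : ∀ i, Q (e i) = 0)
    (h2 : ∀ i j, QuadraticMap.polar ⇑Q (e i) (e j) = 0) :
    TS Q (Submodule.span F (Set.range e)) := by
  have hA : ∀ x ∈ Submodule.span F (Set.range e), ∀ i, QuadraticMap.polar ⇑Q x (e i) = 0 := by
    intro x hx i
    induction hx using Submodule.span_induction with
    | mem x hx =>
      obtain ⟨k, rfl⟩ := hx
      exact h2 k i
    | zero => exact QuadraticMap.polar_zero_left _ _
    | add x y _ _ hx hy => rw [QuadraticMap.polar_add_left, hx, hy, add_zero]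
    | smul a x _ hx => rw [QuadraticMap.polar_smul_left, hx, smul_zero]
  have hB : ∀ x ∈ Submodule.span F (Set.range e), ∀ y ∈ Submodule.span F (Set.range e),
      QuadraticMap.polar ⇑Q x y = 0 := by
    intro x hx y hy
    induction hy using Submodule.span_induction with
    | mem y hy =>
      obtain ⟨k, rfl⟩ := hy
      exact hA x hx k
    | zero => exact QuadraticMap.polar_zero_right _ _
    | add y z _ _ hy hz => rw [QuadraticMap.polar_add_right, hy, hz, add_zero]
    | smul a y _ hy => rw [QuadraticMap.polar_smul_right, hy, smul_zero]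
  intro x hx
  induction hx using Submodule.span_induction with
  | mem x hx =>
    obtain ⟨k, rfl⟩ := hx
    exact h1 k
  | zero => exact map_zero Q
  | add x y hx hy ihx ihy =>
    rw [QuadraticMap.map_add Q x y, ihx, ihy, hB x hx y hy, add_zero, add_zero]
  | smul a x _ ihx => rw [QuadraticMap.map_smul Q a x, ihx, smul_zero]

/-- S5987-QWITT -/
theorem qWitt : StQWitt.{u, v} := by
  intro F _ _ V _ _ _ Q K j hK hdim
  classical
  let Q' : QuadraticForm F ↥K := Q.comp K.subtype
  have hpol : ∀ a b : ↥K, QuadraticMap.polar (⇑Q') a b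
      = QuadraticMap.polar (⇑Q) (a : V) (b : V) := fun a b => rfl
  have hnd : ∀ a : ↥K, (∀ b : ↥K, QuadraticMap.polar (⇑Q') a b = 0) → a = 0 := by
    intro a ha
    have hmem : (a : V) ∈ K ⊓ perp (pol Q) K := by
      refine Submodule.mem_inf.2 ⟨a.2, ?_⟩
      intro u hu
      have := ha ⟨u, hu⟩
      rw [hpol] at this
      show QuadraticMap.polar ⇑Q u (a : V) = 0
      rw [QuadraticMap.polar_comm]
      exact this
    rw [hK, Submodule.mem_bot] at hmem
    exact Subtype.ext hmem
  obtain ⟨k, e, f, W₀, h1, h2, h3, h4, h5, h6, h7⟩ :=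
    Cfsg.Agent.H49.witt_decomp (F := F) (Module.finrank F ↥K) Q' rfl hnd
  have hW₀ : Module.finrank F ↥W₀ ≤ 2 := Cfsg.Agent.H49.anisotropic_finrank_le_two Q' W₀ h5
  have hjk : j ≤ k := by omega
  let e' : Fin j → V := fun i => ((e (Fin.castLE hjk i) : ↥K) : V)
  let f' : Fin j → V := fun i => ((f (Fin.castLE hjk i) : ↥K) : V)
  have hdual : ∀ i l, QuadraticMap.polar (⇑Q) (e' i) (f' l) = if i = l then 1 else 0 := by
    intro i l
    have := h2 (Fin.castLE hjk i) (Fin.castLE hjk l)
    rw [hpol] at this
    rw [this]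
    simp only [Fin.castLE_inj]
  have hli : LinearIndependent F e' := Cfsg.Agent.H49.linearIndependent_of_dual Q e' f' hdual
  refine ⟨Submodule.span F (Set.range e'), ?_, ?_, ?_⟩
  · rw [Submodule.span_le]
    rintro x ⟨i, rfl⟩
    exact (e (Fin.castLE hjk i)).2
  · apply ts_span Q e'
    · intro i
      exact (h1 (Fin.castLE hjk i)).1
    · intro i l
      have := (h3 (Fin.castLE hjk i) (Fin.castLE hjk l)).1
      rw [hpol] at this
      exact this
  · rw [finrank_span_eq_card hli, Fintype.card_fin]

example : Cfsg.Agent.H77.Tm.StQWitt.{u, v} := qWitt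

end Cfsg.Agent.H70.Tm
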