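import Mathlib
import Cfsg.Agent.H77.TmDefs2
import Cfsg.Agent.H49.Witt
import Cfsg.Agent.H70.TmQWitt

/-!
# S5987-MINUSSUM (helper70, for helper77): the orthogonal sum of two minus-type spaces is of plus type
-/

set_option autoImplicit false

namespace Cfsg.Agent.H70.Tm

open Cfsg.Agent.H45 Cfsg.Agent.H77.Tm Cfsg.Agent.H77.Tq Module

universe u v

section

variable {F : Type u} [Field F] {V : Type v} [AddCommGroup V] [Module F V]

/-- the sum of two polar-orthogonal totally singular subspaces is totally singular -/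
theorem ts_sup (Q : QuadraticForm F V) (A B : Submodule F V) (hA : TS Q A) (hB : TS Q B)
    (hAB : ∀ a ∈ A, ∀ b ∈ B, QuadraticMap.polar ⇑Q a b = 0) : TS Q (A ⊔ B) := by
  intro x hx
  obtain ⟨a, ha, b, hb, rfl⟩ := Submodule.mem_sup.1 hx
  rw [QuadraticMap.map_add Q a b, hA a ha, hB b hb, hAB a ha b hb, add_zero, add_zero]

/-- adding the `e`-halves of hyperbolic pairs orthogonal to a totally singular subspace -/
theorem add_pairs [FiniteDimensional F V] (Q : QuadraticForm F V) (N : Submodule F V) (k : ℕ)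
    (e f : Fin k → V) (hN : TS Q N) (he : ∀ i, Q (e i) = 0)
    (hee : ∀ i j, QuadraticMap.polar ⇑Q (e i) (e j) = 0)
    (hef : ∀ i j, QuadraticMap.polar ⇑Q (e i) (f j) = if i = j then 1 else 0)
    (hNe : ∀ n ∈ N, ∀ i, QuadraticMap.polar ⇑Q (e i) n = 0)
    (hNf : ∀ n ∈ N, ∀ i, QuadraticMap.polar ⇑Q (f i) n = 0) :
    TS Q (N ⊔ Submodule.span F (Set.range e)) ∧
      Module.finrank F ↥(N ⊔ Submodule.span F (Set.range e)) = Module.finrank F ↥N + k := by
  classical
  have hE : TS Q (Submodule.span F (Set.range e)) := ts_span Q e he hee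
  constructor
  · apply ts_sup Q _ _ hN hE
    intro n hn y hy
    induction hy using Submodule.span_induction with
    | mem y hy =>
      obtain ⟨i, rfl⟩ := hy
      rw [QuadraticMap.polar_comm]
      exact hNe n hn i
    | zero => exact QuadraticMap.polar_zero_right _ _
    | add y z _ _ hy hz => rw [QuadraticMap.polar_add_right, hy, hz, add_zero]
    | smul a y _ hy => rw [QuadraticMap.polar_smul_right, hy, smul_zero]
  · have hli : LinearIndependent F e := Cfsg.Agent.H49.linearIndependent_of_dual Q e f hef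
    have hfinE : Module.finrank F ↥(Submodule.span F (Set.range e)) = k := by
      rw [finrank_span_eq_card hli, Fintype.card_fin]
    have hdisj : N ⊓ Submodule.span F (Set.range e) = ⊥ := by
      rw [eq_bot_iff]
      intro x hx
      obtain ⟨hxN, hxE⟩ := Submodule.mem_inf.1 hx
      obtain ⟨c, rfl⟩ := (Submodule.mem_span_range_iff_exists_fun F).1 hxE
      have hc : ∀ j, c j = 0 := by
        intro j
        have h1 : QuadraticMap.polarBilin Q (∑ i, c i • e i) (f j) = c j := by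
          rw [map_sum, LinearMap.sum_apply]
          have h2 : ∀ i ∈ Finset.univ, (QuadraticMap.polarBilin Q (c i • e i)) (f j)
              = if i = j then c i else 0 := by
            intro i _
            rw [map_smul, LinearMap.smul_apply]
            show c i • QuadraticMap.polar (⇑Q) (e i) (f j) = _
            rw [hef i j]
            split_ifs <;> simp
          rw [Finset.sum_congr rfl h2, Finset.sum_ite_eq' Finset.univ j, if_pos (Finset.mem_univ j)]
        have h2 : QuadraticMap.polar ⇑Q (∑ i, c i • e i) (f j) = 0 := by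
          rw [QuadraticMap.polar_comm]
          exact hNf _ hxN j
        rw [← h1]
        exact h2
      rw [Submodule.mem_bot]
      apply Finset.sum_eq_zero
      intro i _
      rw [hc i, zero_smul]
    have h3 := Submodule.finrank_sup_add_finrank_inf_eq N (Submodule.span F (Set.range e))
    rw [hdisj, finrank_bot, hfinE] at h3
    omega

end

/-- Witt decomposition of a minus-type subspace: `e₀ - 1` hyperbolic pairs and an anisotropic plane -/
theorem witt_minus {F : Type u} [Field F] [Fintype F] {V : Type v} [AddCommGroup V] [Module F V]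
    [FiniteDimensional F V] (Q : QuadraticForm F V) (K : Submodule F V) (e₀ : ℕ)
    (hK : K ⊓ perp (pol Q) K = ⊥) (hd : Module.finrank F ↥K = 2 * e₀)
    (hno : ∀ U : Submodule F V, U ≤ K → TS Q U → Module.finrank F ↥U < e₀) :
    ∃ (k : ℕ) (e f : Fin k → V) (P : Submodule F V), k + 1 = e₀ ∧ P ≤ K ∧
      (∀ i, e i ∈ K) ∧ (∀ i, f i ∈ K) ∧ (∀ i, Q (e i) = 0) ∧
      (∀ i j, QuadraticMap.polar ⇑Q (e i) (f j) = if i = j then 1 else 0) ∧
      (∀ i j, QuadraticMap.polar ⇑Q (e i) (e j) = 0) ∧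
      (∀ a ∈ P, ∀ i, QuadraticMap.polar ⇑Q (e i) a = 0 ∧ QuadraticMap.polar ⇑Q (f i) a = 0) ∧
      (∀ a ∈ P, Q a = 0 → a = 0) ∧ Module.finrank F ↥P = 2 := by
  classical
  let Q' : QuadraticForm F ↥K := Q.comp K.subtype
  have hpol : ∀ a b : ↥K, QuadraticMap.polar (⇑Q') a b
      = QuadraticMap.polar (⇑Q) (a : V) (b : V) := fun a b => rfl
  have hnd : ∀ a : ↥K, (∀ b : ↥K, QuadraticMap.polar (⇑Q') a b = 0) → a = 0 := by
    intro a ha
    have hmem : (a : V) ∈ K ⊓ perp (pol Q) K := by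
      refine Submodule.mem_inf.2 ⟨a.2, ?_⟩
      intro u hu
      have := ha ⟨u, hu⟩
      rw [hpol] at this
      show QuadraticMap.polar ⇑Q u (a : V) = 0
      rw [QuadraticMap.polar_comm]
      exact this
    rw [hK, Submodule.mem_bot] at hmem
    exact Subtype.ext hmem
  obtain ⟨k, e, f, W₀, h1, h2, h3, h4, h5, h6, h7⟩ :=
    Cfsg.Agent.H49.witt_decomp (F := F) (Module.finrank F ↥K) Q' rfl hnd
  have hW₀ : Module.finrank F ↥W₀ ≤ 2 := Cfsg.Agent.H49.anisotropic_finrank_le_two Q' W₀ h5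
  let e' : Fin k → V := fun i => ((e i : ↥K) : V)
  let f' : Fin k → V := fun i => ((f i : ↥K) : V)
  have hdual : ∀ i l, QuadraticMap.polar (⇑Q) (e' i) (f' l) = if i = l then 1 else 0 :=
    fun i l => h2 i l
  have hli : LinearIndependent F e' := Cfsg.Agent.H49.linearIndependent_of_dual Q e' f' hdual
  have hTS : TS Q (Submodule.span F (Set.range e')) :=
    ts_span Q e' (fun i => (h1 i).1) (fun i l => (h3 i l).1)
  have hle : Submodule.span F (Set.range e') ≤ K := by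
    rw [Submodule.span_le]
    rintro x ⟨i, rfl⟩
    exact (e i).2
  have hk := hno _ hle hTS
  rw [finrank_span_eq_card hli, Fintype.card_fin] at hk
  refine ⟨k, e', f', W₀.map K.subtype, by omega, ?_, fun i => (e i).2, fun i => (f i).2,
    fun i => (h1 i).1, hdual, fun i l => (h3 i l).1, ?_, ?_, ?_⟩
  · intro x hx
    obtain ⟨a, _, rfl⟩ := Submodule.mem_map.1 hx
    exact a.2
  · intro a ha i
    obtain ⟨a', ha', rfl⟩ := Submodule.mem_map.1 ha
    exact h4 a' ha' i
  · intro a ha hQa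
    obtain ⟨a', ha', rfl⟩ := Submodule.mem_map.1 ha
    have := h5 a' ha' hQa
    rw [this, map_zero]
  · rw [Submodule.finrank_map_subtype_eq]
    omega

/-- S5987-MINUSSUM -/
theorem minusSum (hStd : StAnisoStd.{u, v}) (hIso : StAnisoIso.{u}) : StMinusSum.{u, v} := by
  intro F _ _ V _ _ _ Q K₁ K₂ e₁ e₂ hK₁ hK₂ horth hd₁ hd₂ hno₁ hno₂
  classical
  obtain ⟨k₁, ea, fa, P₁, hk₁, hP₁K, heaK, hfaK, hea, heaf, heae, hP₁o, hP₁a, hP₁d⟩ :=
    witt_minus Q K₁ e₁ hK₁ hd₁ hno₁
  obtain ⟨k₂, eb, fb, P₂, hk₂, hP₂K, hebK, hfbK, heb, hebf, hebe, hP₂o, hP₂a, hP₂d⟩ :=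
    witt_minus Q K₂ e₂ hK₂ hd₂ hno₂
  -- the anisotropic planes in standard form
  obtain ⟨u₁, w₁, a, b, hab, -, hform₁⟩ := hStd F ↥P₁ (Q.comp P₁.subtype) hP₁d
    (fun v hv => Subtype.ext (hP₁a v v.2 hv))
  obtain ⟨u₂, w₂, a', b', hab', -, hform₂⟩ := hStd F ↥P₂ (-(Q.comp P₂.subtype)) hP₂d
    (fun v hv => Subtype.ext (hP₂a v v.2 (by
      have h0 : -(Q (v : V)) = 0 := hv
      exact neg_eq_zero.mp h0)))
  obtain ⟨c, d, -, hcd⟩ := hIso F a b a' b' hab hab'
  have hQ₁ : ∀ s t : F, Q (s • (u₁ : V) + t • (w₁ : V)) = s ^ 2 + a * s * t + b * t ^ 2 :=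
    fun s t => hform₁ s t
  have hQ₂ : ∀ s t : F, Q (s • (u₂ : V) + t • (w₂ : V)) = -(s ^ 2 + a' * s * t + b' * t ^ 2) := by
    intro s t
    have h' : -(Q (s • (u₂ : V) + t • (w₂ : V))) = s ^ 2 + a' * s * t + b' * t ^ 2 := hform₂ s t
    rw [← h', neg_neg]
  have hx₁ : ∀ s t : F, s • (u₁ : V) + t • (w₁ : V) ∈ P₁ :=
    fun s t => P₁.add_mem (P₁.smul_mem _ u₁.2) (P₁.smul_mem _ w₁.2)
  have hx₂ : ∀ s t : F, s • (u₂ : V) + t • (w₂ : V) ∈ P₂ :=
    fun s t => P₂.add_mem (P₂.smul_mem _ u₂.2) (P₂.smul_mem _ w₂.2)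
  have hK12 : K₁ ⊓ K₂ = ⊥ := by
    rw [eq_bot_iff]
    intro x hx
    obtain ⟨hx1, hx2⟩ := Submodule.mem_inf.1 hx
    rw [← hK₁]
    exact Submodule.mem_inf.2 ⟨hx1, fun k hk => horth k hk x hx2⟩
  obtain ⟨g₁, hg₁⟩ : ∃ g : V, g = (u₁ : V) + (u₂ : V) := ⟨_, rfl⟩
  obtain ⟨g₂, hg₂⟩ : ∃ g : V, g = (w₁ : V) + (c • (u₂ : V) + d • (w₂ : V)) := ⟨_, rfl⟩
  obtain ⟨G, hG⟩ : ∃ G : Submodule F V, G = Submodule.span F {g₁, g₂} := ⟨_, rfl⟩
  have hcomb : ∀ s t : F, s • g₁ + t • g₂ = (s • (u₁ : V) + t • (w₁ : V)) +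
      ((s + c * t) • (u₂ : V) + (d * t) • (w₂ : V)) := by
    intro s t
    rw [hg₁, hg₂]
    module
  have hGmem : ∀ n ∈ G, ∃ s t : F, n = (s • (u₁ : V) + t • (w₁ : V)) +
      ((s + c * t) • (u₂ : V) + (d * t) • (w₂ : V)) := by
    intro n hn
    rw [hG] at hn
    obtain ⟨s, t, rfl⟩ := Submodule.mem_span_pair.1 hn
    exact ⟨s, t, hcomb s t⟩
  have hGTS : TS Q G := by
    intro n hn
    obtain ⟨s, t, rfl⟩ := hGmem n hn
    rw [QuadraticMap.map_add Q, hQ₁, hQ₂, horth _ (hP₁K (hx₁ s t)) _ (hP₂K (hx₂ _ _)), hcd s t]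
    ring
  have hGdim : Module.finrank F ↥G = 2 := by
    have hli : LinearIndependent F ![g₁, g₂] := by
      rw [LinearIndependent.pair_iff]
      intro s t hst
      have hx : s • (u₁ : V) + t • (w₁ : V) ∈ K₁ ⊓ K₂ := by
        refine Submodule.mem_inf.2 ⟨hP₁K (hx₁ s t), ?_⟩
        have h0 : s • (u₁ : V) + t • (w₁ : V)
            = -((s + c * t) • (u₂ : V) + (d * t) • (w₂ : V)) := by
          rw [eq_neg_iff_add_eq_zero, ← hcomb, hst]
        rw [h0]
        exact K₂.neg_mem (hP₂K (hx₂ _ _))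
      rw [hK12, Submodule.mem_bot] at hx
      have h1 := hQ₁ s t
      rw [hx, map_zero] at h1
      exact hab s t h1.symm
    have h3 := finrank_span_eq_card hli
    have h4 : Set.range ![g₁, g₂] = {g₁, g₂} := by
      ext x
      simp only [Matrix.range_cons, Matrix.range_empty, Set.union_empty, Set.mem_union,
        Set.mem_singleton_iff, Set.mem_insert_iff]
    rw [h4] at h3
    rw [hG]
    simpa using h3
  have hGle : G ≤ K₁ ⊔ K₂ := by
    intro n hn
    obtain ⟨s, t, rfl⟩ := hGmem n hn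
    exact Submodule.add_mem_sup (hP₁K (hx₁ s t)) (hP₂K (hx₂ _ _))
  have hE₁K : Submodule.span F (Set.range ea) ≤ K₁ := by
    rw [Submodule.span_le]
    rintro x ⟨i, rfl⟩
    exact heaK i
  have hE₂K : Submodule.span F (Set.range eb) ≤ K₂ := by
    rw [Submodule.span_le]
    rintro x ⟨i, rfl⟩
    exact hebK i
  -- first the pairs of `K₁`
  obtain ⟨hTS₁, hdim₁⟩ := add_pairs Q G k₁ ea fa hGTS hea heae heaf
    (by
      intro n hn i
      obtain ⟨s, t, rfl⟩ := hGmem n hn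
      rw [QuadraticMap.polar_add_right, (hP₁o _ (hx₁ s t) i).1,
        horth _ (heaK i) _ (hP₂K (hx₂ _ _)), add_zero])
    (by
      intro n hn i
      obtain ⟨s, t, rfl⟩ := hGmem n hn
      rw [QuadraticMap.polar_add_right, (hP₁o _ (hx₁ s t) i).2,
        horth _ (hfaK i) _ (hP₂K (hx₂ _ _)), add_zero])
  -- then the pairs of `K₂`
  obtain ⟨hTS₂, hdim₂⟩ := add_pairs Q (G ⊔ Submodule.span F (Set.range ea)) k₂ eb fb hTS₁ heb
    hebe hebf
    (by
      intro n hn i
      obtain ⟨g, hg, x, hx, rfl⟩ := Submodule.mem_sup.1 hn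
      obtain ⟨s, t, rfl⟩ := hGmem g hg
      rw [QuadraticMap.polar_add_right, QuadraticMap.polar_add_right, (hP₂o _ (hx₂ _ _) i).1,
        QuadraticMap.polar_comm ⇑Q (eb i) (s • (u₁ : V) + t • (w₁ : V)),
        horth _ (hP₁K (hx₁ s t)) _ (hebK i),
        QuadraticMap.polar_comm ⇑Q (eb i) x, horth _ (hE₁K hx) _ (hebK i), add_zero, add_zero])
    (by
      intro n hn i
      obtain ⟨g, hg, x, hx, rfl⟩ := Submodule.mem_sup.1 hn
      obtain ⟨s, t, rfl⟩ := hGmem g hg
      rw [QuadraticMap.polar_add_right, QuadraticMap.polar_add_right, (hP₂o _ (hx₂ _ _) i).2,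
        QuadraticMap.polar_comm ⇑Q (fb i) (s • (u₁ : V) + t • (w₁ : V)),
        horth _ (hP₁K (hx₁ s t)) _ (hfbK i),
        QuadraticMap.polar_comm ⇑Q (fb i) x, horth _ (hE₁K hx) _ (hfbK i), add_zero, add_zero])
  refine ⟨G ⊔ Submodule.span F (Set.range ea) ⊔ Submodule.span F (Set.range eb), ?_, hTS₂, ?_⟩
  · exact sup_le (sup_le hGle (hE₁K.trans le_sup_left)) (hE₂K.trans le_sup_right)
  · rw [hdim₂, hdim₁, hGdim]
    omega

example (hStd : Cfsg.Agent.H77.Tm.StAnisoStd.{u, v}) (hIso : Cfsg.Agent.H77.Tm.StAnisoIso.{u}) :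
    Cfsg.Agent.H77.Tm.StMinusSum.{u, v} := minusSum hStd hIso

end Cfsg.Agent.H70.Tm
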