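import Mathlib
import Cfsg.Agent.H77.TmDefs2
import Cfsg.Agent.H49.InvOmega
import Cfsg.Agent.H49.MinusForm
import Cfsg.Agent.H49.Basic
import Cfsg.Agent.H70.TmMinusSum

/-!
# S5987-INVONE (helper70, for helper77): an isometry with `x * x = 1` of the minus-type space fixes
totally singular subspaces of every dimension `m ≤ k` (odd characteristic)
-/

set_option autoImplicit false
open scoped MatrixGroups
open scoped Matrix

namespace Cfsg.Agent.H70.Tm

open Cfsg.Agent.H45 Cfsg.Agent.H77.Tm Cfsg.Agent.H77.Tq Module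

universe u

/-- S5987-INVONE -/
theorem invOne (hW : StQWitt.{u, u}) (hMS : StMinusSum.{u, u}) : StInvOne.{u} := by
  intro F _ _ k a b m h2 hab hmk x hx hxx
  classical
  obtain ⟨Q, hQ⟩ : ∃ Q : QuadraticForm F (MI k → F), Q = Cfsg.Agent.H49.QMin k F a b := ⟨_, rfl⟩
  have hQc : ∀ v, Q v = Cfsg.quadFormMinus k F a b v := fun v => by rw [hQ]; rfl
  have hdisc : a ^ 2 - 4 * b ≠ 0 := by
    intro h0
    have h1 := hab (-a) 2 (by linear_combination -h0)
    exact h2 h1.2
  have hnd := Cfsg.Agent.H49.QMin_nondeg k a b hdisc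
  have hndV : ∀ v, (∀ y, QuadraticMap.polar ⇑Q v y = 0) → v = 0 := by
    intro v hv
    apply hnd.1 v
    intro y
    have := hv y
    rw [hQ] at this
    exact this
  obtain ⟨T, hT⟩ : ∃ T : Module.End F (MI k → F),
      T = Matrix.toLin' (x : Matrix (MI k) (MI k) F) := ⟨_, rfl⟩
  have hTT : ∀ v, T (T v) = v := by
    intro v
    have h1 : (x : Matrix (MI k) (MI k) F) * (x : Matrix (MI k) (MI k) F) = 1 := by
      have := congrArg (fun g : GL (MI k) F => (g : Matrix (MI k) (MI k) F)) hxx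
      simpa using this
    rw [hT, ← LinearMap.comp_apply, ← Matrix.toLin'_mul, h1, Matrix.toLin'_one]
    rfl
  have hiso : ∀ v, Q (T v) = Q v := by
    intro v
    have := (Cfsg.Agent.H49.mem_isometryGroup_iff.1 hx) v
    rw [hT, Matrix.toLin'_apply, hQc, hQc]
    exact this
  have hpolT : ∀ u w, QuadraticMap.polar ⇑Q (T u) (T w) = QuadraticMap.polar ⇑Q u w := by
    intro u w
    simp only [QuadraticMap.polar, ← map_add, hiso]
  obtain ⟨Ep, hEp⟩ : ∃ E : Submodule F (MI k → F), E = LinearMap.ker (T - 1) := ⟨_, rfl⟩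
  obtain ⟨Em, hEm⟩ : ∃ E : Submodule F (MI k → F), E = LinearMap.ker (T + 1) := ⟨_, rfl⟩
  have hp_mem : ∀ v, v ∈ Ep ↔ T v = v := by
    intro v
    rw [hEp, LinearMap.mem_ker, LinearMap.sub_apply, sub_eq_zero]
    rfl
  have hm_mem : ∀ v, v ∈ Em ↔ T v = -v := by
    intro v
    rw [hEm, LinearMap.mem_ker, LinearMap.add_apply, add_eq_zero_iff_eq_neg]
    rfl
  have horth : ∀ u ∈ Ep, ∀ w ∈ Em, QuadraticMap.polar ⇑Q u w = 0 := by
    intro u hu w hw
    have h1 := hpolT u w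
    rw [(hp_mem u).1 hu, (hm_mem w).1 hw, QuadraticMap.polar_neg_right] at h1
    have h3 : (2 : F) * QuadraticMap.polar ⇑Q u w = 0 := by linear_combination -h1
    exact (mul_eq_zero.mp h3).resolve_left h2
  have hdecomp : ∀ v, ∃ u ∈ Ep, ∃ w ∈ Em, v = u + w := by
    intro v
    refine ⟨(2 : F)⁻¹ • (v + T v), ?_, (2 : F)⁻¹ • (v - T v), ?_, ?_⟩
    · rw [hp_mem, map_smul, map_add, hTT, add_comm]
    · rw [hm_mem, map_smul, map_sub, hTT, ← smul_neg, neg_sub]
    · rw [← smul_add]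
      have h1 : v + T v + (v - T v) = (2 : F) • v := by
        rw [two_smul]
        abel
      rw [h1, smul_smul, inv_mul_cancel₀ h2, one_smul]
  have hsup : Ep ⊔ Em = ⊤ := by
    rw [eq_top_iff]
    intro v _
    obtain ⟨u, hu, w, hw, rfl⟩ := hdecomp v
    exact Submodule.add_mem_sup hu hw
  have hinf : Ep ⊓ Em = ⊥ := by
    rw [eq_bot_iff]
    intro v hv
    obtain ⟨h1, h1'⟩ := Submodule.mem_inf.1 hv
    have e1 := (hp_mem v).1 h1
    have e2 := (hm_mem v).1 h1'
    have h3 : (2 : F) • v = 0 := by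
      rw [two_smul]
      have : v = -v := by rw [← e2, e1]
      nth_rewrite 2 [this]
      rw [add_neg_cancel]
    rw [Submodule.mem_bot]
    exact (smul_eq_zero.mp h3).resolve_left h2
  have hEpnd : Ep ⊓ perp (pol Q) Ep = ⊥ := by
    rw [eq_bot_iff]
    intro v hv
    obtain ⟨h1, h1'⟩ := Submodule.mem_inf.1 hv
    rw [Submodule.mem_bot]
    apply hndV
    intro y
    obtain ⟨u, hu, w, hw, rfl⟩ := hdecomp y
    rw [QuadraticMap.polar_add_right, horth v h1 w hw, add_zero, QuadraticMap.polar_comm]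
    exact h1' u hu
  have hEmnd : Em ⊓ perp (pol Q) Em = ⊥ := by
    rw [eq_bot_iff]
    intro v hv
    obtain ⟨h1, h1'⟩ := Submodule.mem_inf.1 hv
    rw [Submodule.mem_bot]
    apply hndV
    intro y
    obtain ⟨u, hu, w, hw, rfl⟩ := hdecomp y
    rw [QuadraticMap.polar_add_right, QuadraticMap.polar_comm ⇑Q v u, horth u hu v h1, zero_add,
      QuadraticMap.polar_comm]
    exact h1' w hw
  have hdim : Module.finrank F ↥Ep + Module.finrank F ↥Em = 2 * k + 2 := by
    have h1 := Submodule.finrank_sup_add_finrank_inf_eq Ep Em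
    rw [hsup, hinf, finrank_top, finrank_bot] at h1
    have hV : Module.finrank F (MI k → F) = 2 * k + 2 := by
      rw [Module.finrank_fintype_fun_eq_card]
      simp only [Fintype.card_sum, Fintype.card_fin]
      ring
    omega
  have hfin : ∀ (Jp Jm : Submodule F (MI k → F)), Jp ≤ Ep → Jm ≤ Em → TS Q Jp → TS Q Jm →
      Module.finrank F ↥(Jp ⊔ Jm) = Module.finrank F ↥Jp + Module.finrank F ↥Jm ∧
      TS Q (Jp ⊔ Jm) ∧ (Jp ⊔ Jm).map T ≤ Jp ⊔ Jm := by
    intro Jp Jm hp hm' tp tm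
    refine ⟨?_, ?_, ?_⟩
    · have h1 := Submodule.finrank_sup_add_finrank_inf_eq Jp Jm
      have hd : Jp ⊓ Jm = ⊥ := by
        rw [eq_bot_iff, ← hinf]
        exact inf_le_inf hp hm'
      rw [hd, finrank_bot] at h1
      omega
    · exact ts_sup Q Jp Jm tp tm (fun u hu w hw => horth u (hp hu) w (hm' hw))
    · rintro y ⟨z, hz, rfl⟩
      obtain ⟨u, hu, w, hw, rfl⟩ := Submodule.mem_sup.1 hz
      rw [map_add, (hp_mem u).1 (hp hu), (hm_mem w).1 (hm' hw)]
      exact Submodule.add_mem_sup hu (Jm.neg_mem hw)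
  have htsle : ∀ W : Submodule F (MI k → F), TS Q W → Module.finrank F ↥W ≤ k := by
    intro W hW'
    apply Cfsg.Agent.H49.QMin_ts_le k a b hab hdisc W
    intro u hu
    have := hW' u hu
    rw [hQ] at this
    exact this
  have hconc : ∀ (Jp Jm : Submodule F (MI k → F)), Jp ≤ Ep → Jm ≤ Em → TS Q Jp → TS Q Jm →
      Module.finrank F ↥Jp + Module.finrank F ↥Jm = m → FixM k a b m x := by
    intro Jp Jm hp hm' tp tm hsum
    obtain ⟨h1, h1', h3⟩ := hfin Jp Jm hp hm' tp tm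
    refine ⟨Jp ⊔ Jm, ⟨by rw [h1, hsum], ?_⟩, ?_⟩
    · intro w hw
      rw [← hQc]
      exact h1' w hw
    · rw [← hT]
      exact h3
  -- supply of totally singular subspaces
  have hbot : TS Q (⊥ : Submodule F (MI k → F)) := by
    intro u hu
    rw [Submodule.mem_bot] at hu
    rw [hu, map_zero]
  have hsp : ∀ j, j ≤ (Module.finrank F ↥Ep - 1) / 2 →
      ∃ J : Submodule F (MI k → F), J ≤ Ep ∧ TS Q J ∧ Module.finrank F ↥J = j := by
    intro j hj
    rcases Nat.eq_zero_or_pos j with rfl | hj0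
    · exact ⟨⊥, bot_le, hbot, finrank_bot F _⟩
    · exact hW F (MI k → F) Q Ep j hEpnd (by omega)
  have hsm : ∀ j, j ≤ (Module.finrank F ↥Em - 1) / 2 →
      ∃ J : Submodule F (MI k → F), J ≤ Em ∧ TS Q J ∧ Module.finrank F ↥J = j := by
    intro j hj
    rcases Nat.eq_zero_or_pos j with rfl | hj0
    · exact ⟨⊥, bot_le, hbot, finrank_bot F _⟩
    · exact hW F (MI k → F) Q Em j hEmnd (by omega)
  by_cases hm1 : m ≤ (Module.finrank F ↥Ep - 1) / 2 + (Module.finrank F ↥Em - 1) / 2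
  · obtain ⟨Jp, hJp, tJp, dJp⟩ := hsp (min m ((Module.finrank F ↥Ep - 1) / 2)) (min_le_right _ _)
    obtain ⟨Jm, hJm, tJm, dJm⟩ := hsm (m - min m ((Module.finrank F ↥Ep - 1) / 2)) (by omega)
    exact hconc Jp Jm hJp hJm tJp tJm (by rw [dJp, dJm]; omega)
  · -- both dimensions are even and positive, `m = k`
    push Not at hm1
    obtain ⟨e₁, he₁⟩ : ∃ e₁, Module.finrank F ↥Ep = 2 * e₁ := ⟨Module.finrank F ↥Ep / 2, by omega⟩
    obtain ⟨e₂, he₂⟩ : ∃ e₂, Module.finrank F ↥Em = 2 * e₂ := ⟨Module.finrank F ↥Em / 2, by omega⟩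
    have he1 : 1 ≤ e₁ := by omega
    have he2 : 1 ≤ e₂ := by omega
    have hmk' : m = k := by omega
    by_cases hno₁ : ∀ U : Submodule F (MI k → F), U ≤ Ep → TS Q U → Module.finrank F ↥U < e₁
    · by_cases hno₂ : ∀ U : Submodule F (MI k → F), U ≤ Em → TS Q U → Module.finrank F ↥U < e₂
      · exfalso
        obtain ⟨M, -, hMTS, hMd⟩ := hMS F (MI k → F) Q Ep Em e₁ e₂ hEpnd hEmnd horth he₁ he₂
          hno₁ hno₂
        have := htsle M hMTS
        omega
      · push Not at hno₂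
        obtain ⟨U, hU, tU, dU⟩ := hno₂
        obtain ⟨Jp, hJp, tJp, dJp⟩ := hsp (e₁ - 1) (by omega)
        obtain ⟨h1, h1', -⟩ := hfin Jp U hJp hU tJp tU
        have := htsle _ h1'
        exact hconc Jp U hJp hU tJp tU (by omega)
    · push Not at hno₁
      obtain ⟨U, hU, tU, dU⟩ := hno₁
      obtain ⟨Jm, hJm, tJm, dJm⟩ := hsm (e₂ - 1) (by omega)
      obtain ⟨h1, h1', -⟩ := hfin U Jm hU hJm tU tJm
      have := htsle _ h1'
      exact hconc U Jm hU hJm tU tJm (by omega)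

example (hW : Cfsg.Agent.H77.Tm.StQWitt.{u, u}) (hMS : Cfsg.Agent.H77.Tm.StMinusSum.{u, u}) :
    Cfsg.Agent.H77.Tm.StInvOne.{u} := invOne hW hMS

end Cfsg.Agent.H70.Tm
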