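import Cfsg.Agent.H4.TnDefs

/-!
# TN-DECOMP (S3805 team project, lead helper4): `P₁ = 1 + χ₁ - χ₂`
-/

set_option autoImplicit false

namespace Cfsg.Agent.H70.Tn

open Cfsg Cfsg.Agent.H4.Tn Subgroup

universe u

theorem decomp (hV : StVals.{u}) (hC : StCount.{u}) (hG : StGen.{u}) (hN : StNorm3.{u}) :
    StDecomp.{u} := by
  intro G _ _ T a b u v cfg
  classical
  haveI : Fintype G := Fintype.ofFinite G
  obtain ⟨Φ, Ψ, hΦ, hΨ, hP⟩ := hG G T a b u v cfg
  have hcount := hC G T a b u v cfg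
  obtain ⟨-, -, -, -, hinv⟩ := hV G T a b u v cfg
  have hfun : Φ - Ψ = P1 a b u := by
    funext g; rw [Pi.sub_apply]; exact hP g
  have hG0 : (Nat.card G : ℂ) ≠ 0 := by
    have : 0 < Nat.card G := Nat.card_pos
    exact_mod_cast this.ne'
  have hcountC : (3 : ℂ) * (Nat.card (S1G a b u) : ℂ) = (Nat.card G : ℂ) := by
    exact_mod_cast hcount
  have hsum : ∀ c : ℂ, ∑ g : G, (if g ∈ S1G a b u then c else 0) =
      (Nat.card (S1G a b u) : ℂ) * c := by
    intro c
    rw [← Finset.sum_filter, Finset.sum_const, nsmul_eq_mul]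
    congr 2
    exact (Nat.subtype_card _ (by simp)).symm
  have h1 : classInner (Φ - Ψ) (Φ - Ψ) = 3 := by
    rw [hfun, classInner]
    have : ∀ g : G, P1 a b u g * (starRingEnd ℂ) (P1 a b u g) =
        if g ∈ S1G a b u then (9 : ℂ) else 0 := by
      intro g
      by_cases hg : g ∈ S1G a b u
      · rw [if_pos hg, P1, Set.indicator_of_mem hg]
        simp only [map_ofNat]
        norm_num
      · rw [if_neg hg, P1, Set.indicator_of_notMem hg]; simp
    rw [Finset.sum_congr rfl (fun g _ => this g), hsum, ← hcountC]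
    have h0 : (Nat.card (S1G a b u) : ℂ) ≠ 0 := by
      intro h; rw [h, mul_zero] at hcountC; exact hG0 hcountC.symm
    field_simp
    norm_num
  have h2 : classInner (Φ - Ψ) (fun _ => 1) = 1 := by
    rw [hfun, classInner]
    have : ∀ g : G, P1 a b u g * (starRingEnd ℂ) ((fun _ => 1 : G → ℂ) g) =
        if g ∈ S1G a b u then (3 : ℂ) else 0 := by
      intro g
      by_cases hg : g ∈ S1G a b u
      · rw [if_pos hg, P1, Set.indicator_of_mem hg]; simp
      · rw [if_neg hg, P1, Set.indicator_of_notMem hg]; simp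
    rw [Finset.sum_congr rfl (fun g _ => this g), hsum, ← hcountC]
    have h0 : (Nat.card (S1G a b u) : ℂ) ≠ 0 := by
      intro h; rw [h, mul_zero] at hcountC; exact hG0 hcountC.symm
    field_simp
  have h3 : Φ 1 = Ψ 1 := by
    have h := hP 1
    rw [P1, Set.indicator_of_notMem (hinv 1 (mul_one 1))] at h
    exact sub_eq_zero.mp h
  obtain ⟨χ₁, χ₂, h⟩ := hN G Φ Ψ hΦ hΨ h1 h2 h3
  exact ⟨χ₁, χ₂, fun g => by rw [← h g, hP g]⟩

example (hV : Cfsg.Agent.H4.Tn.StVals.{u}) (hC : Cfsg.Agent.H4.Tn.StCount.{u})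
    (hG : Cfsg.Agent.H4.Tn.StGen.{u}) (hN : Cfsg.Agent.H4.Tn.StNorm3.{u}) :
    Cfsg.Agent.H4.Tn.StDecomp.{u} := decomp hV hC hG hN

end Cfsg.Agent.H70.Tn
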