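import Cfsg.Agent.H4.TnDefs
import Cfsg.Agent.H4.Exceptional

/-!
# TN-GEN (S3805 team project, lead helper4): `P₁ = Ind_C^G 1 - Ind_C^G λ`, `C = C_G(a)`
-/

set_option autoImplicit false

namespace Cfsg.Agent.H70.Tn

open Cfsg Cfsg.Agent.H4 Cfsg.Agent.H4.Tn Subgroup

universe u

theorem gen (hL : StLam.{u}) (hC : StCa.{u}) (hS : StS1.{u}) (hTI : StTI.{u}) : StGen.{u} := by
  intro G _ _ T a b u v cfg
  classical
  haveI : Fintype G := Fintype.ofFinite G
  obtain ⟨l, ω, hω1, hω3, hl, hlv⟩ := hL G T a b u v cfg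
  obtain ⟨hCel, hCcomm, -, hC18, hCN, hNa, hNA⟩ := hC G T a b u v cfg
  obtain ⟨-, hSinv, -, -, -⟩ := hS G T a b u v cfg
  have hTI' := hTI G T a b u v cfg
  have hωsum : ω ^ 2 + ω + 1 = 0 := by
    have : (ω - 1) * (ω ^ 2 + ω + 1) = 0 := by linear_combination hω3
    rcases mul_eq_zero.mp this with h | h
    · exact absurd (sub_eq_zero.mp h) hω1
    · exact h
  refine ⟨indFun (centralizer ({a} : Set G)) (fun _ => 1), indFun (centralizer ({a} : Set G)) l,
    isCharacter_indFun _ _ (isCharacter_of_isIrrCharacter isIrrCharacter_one),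
    isCharacter_indFun _ l hl, ?_⟩
  -- the function `e = (1 - λ)` extended by zero
  have he_ne : ∀ y : G, extendByZero (centralizer ({a} : Set G)) ((fun _ => 1) - l) y ≠ 0 →
      y ∈ S1 a b u := by
    intro y hy
    by_cases hyC : y ∈ centralizer ({a} : Set G)
    · obtain ⟨w, hw, h | h | h⟩ := hCel y hyC
      · exfalso; apply hy
        rw [extendByZero_of_mem _ _ hyC]
        simp only [Pi.sub_apply]
        rw [(hlv ⟨y, hyC⟩ w hw).1 h]; ring
      · exact ⟨w, hw, Or.inl h⟩
      · exact ⟨w, hw, Or.inr h⟩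
    · exfalso; exact hy (extendByZero_of_not_mem _ _ hyC)
  have haC : a ∈ centralizer ({a} : Set G) := by
    rw [mem_centralizer_iff]; intro h hh; rw [Set.mem_singleton_iff.mp hh]
  have hwC : ∀ w ∈ closure ({b, u} : Set G), w ∈ centralizer ({a} : Set G) := by
    intro w hw
    rw [mem_centralizer_iff]; intro h hh; rw [Set.mem_singleton_iff.mp hh]
    exact (hCcomm w hw).symm
  have he_val : ∀ w ∈ closure ({b, u} : Set G),
      extendByZero (centralizer ({a} : Set G)) ((fun _ => 1) - l) (a * w) = 1 - ω ∧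
      extendByZero (centralizer ({a} : Set G)) ((fun _ => 1) - l) (a⁻¹ * w) = 1 - ω ^ 2 := by
    intro w hw
    have h1 : a * w ∈ centralizer ({a} : Set G) := mul_mem haC (hwC w hw)
    have h2 : a⁻¹ * w ∈ centralizer ({a} : Set G) := mul_mem (inv_mem haC) (hwC w hw)
    refine ⟨?_, ?_⟩
    · rw [extendByZero_of_mem _ _ h1]
      simp only [Pi.sub_apply]
      rw [(hlv ⟨a * w, h1⟩ w hw).2.1 rfl]
    · rw [extendByZero_of_mem _ _ h2]
      simp only [Pi.sub_apply]
      rw [(hlv ⟨a⁻¹ * w, h2⟩ w hw).2.2 rfl]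
  have hdiff : ∀ g : G, indFun (centralizer ({a} : Set G)) (fun _ => 1) g -
      indFun (centralizer ({a} : Set G)) l g =
      (Nat.card (centralizer ({a} : Set G)) : ℂ)⁻¹ *
        ∑ x : G, extendByZero (centralizer ({a} : Set G)) ((fun _ => 1) - l) (x⁻¹ * g * x) := by
    intro g
    have := congrFun (indFun_sub (centralizer ({a} : Set G)) (fun _ => 1) l) g
    rw [Pi.sub_apply] at this
    rw [← this, indFun_apply]
  have hsumH : ∀ (H : Subgroup G) (c : ℂ),
      ∑ x : G, (if x ∈ H then c else 0) = (Nat.card H : ℂ) * c := by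
    intro H c
    rw [← Finset.sum_filter, Finset.sum_const, nsmul_eq_mul]
    congr 2
    exact (Nat.subtype_card _ (by simp)).symm
  -- conjugation by `x⁻¹` on `a` and on `⟨b,u⟩`
  have hconjw : ∀ x ∈ normalizer (T : Set G), ∀ w ∈ closure ({b, u} : Set G),
      x⁻¹ * w * x ∈ closure ({b, u} : Set G) := by
    intro x hx w hw
    have := hNA x⁻¹ (inv_mem hx) w hw
    rwa [inv_inv] at this
  have hconja1 : ∀ x ∈ centralizer ({a} : Set G), x⁻¹ * a * x = a := by
    intro x hx
    have := mem_centralizer_iff.mp hx a rfl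
    rw [mul_assoc, this, ← mul_assoc, inv_mul_cancel, one_mul]
  have hconja2 : ∀ x ∈ normalizer (T : Set G), x ∉ centralizer ({a} : Set G) →
      x⁻¹ * a * x = a⁻¹ := by
    intro x hx hxC
    have := hNa x⁻¹ (inv_mem hx) (fun h => hxC (by simpa using inv_mem h))
    rwa [inv_inv] at this
  -- the key sum
  have hkey : ∀ s ∈ S1 a b u,
      ∑ x : G, extendByZero (centralizer ({a} : Set G)) ((fun _ => 1) - l) (x⁻¹ * s * x) = 54 := by
    intro s hs
    have hout : ∀ x : G, x ∉ normalizer (T : Set G) →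
        extendByZero (centralizer ({a} : Set G)) ((fun _ => 1) - l) (x⁻¹ * s * x) = 0 := by
      intro x hx
      by_contra h
      have h1 := he_ne _ h
      have h2 := hTI' s hs x⁻¹ (by rwa [inv_inv])
      exact hx (by simpa using inv_mem h2)
    obtain ⟨w, hw, rfl | rfl⟩ := hs
    · have hform : ∀ x : G,
          extendByZero (centralizer ({a} : Set G)) ((fun _ => 1) - l) (x⁻¹ * (a * w) * x) =
          (if x ∈ normalizer (T : Set G) then (1 - ω ^ 2) else 0) +
          (if x ∈ centralizer ({a} : Set G) then ((1 - ω) - (1 - ω ^ 2)) else 0) := by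
        intro x
        by_cases hxN : x ∈ normalizer (T : Set G)
        · have e1 : x⁻¹ * (a * w) * x = (x⁻¹ * a * x) * (x⁻¹ * w * x) := by group
          by_cases hxC : x ∈ centralizer ({a} : Set G)
          · rw [if_pos hxN, if_pos hxC, e1, hconja1 x hxC, (he_val _ (hconjw x hxN w hw)).1]
            ring
          · rw [if_pos hxN, if_neg hxC, e1, hconja2 x hxN hxC, (he_val _ (hconjw x hxN w hw)).2]
            ring
        · rw [if_neg hxN, if_neg (fun h => hxN (hCN h)), hout x hxN]; ring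
      rw [Finset.sum_congr rfl (fun x _ => hform x), Finset.sum_add_distrib, hsumH, hsumH,
        cfg.cardN, hC18]
      push_cast
      linear_combination (-18 : ℂ) * hωsum
    · have hform : ∀ x : G,
          extendByZero (centralizer ({a} : Set G)) ((fun _ => 1) - l) (x⁻¹ * (a⁻¹ * w) * x) =
          (if x ∈ normalizer (T : Set G) then (1 - ω) else 0) +
          (if x ∈ centralizer ({a} : Set G) then ((1 - ω ^ 2) - (1 - ω)) else 0) := by
        intro x
        by_cases hxN : x ∈ normalizer (T : Set G)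
        · have e1 : x⁻¹ * (a⁻¹ * w) * x = (x⁻¹ * a * x)⁻¹ * (x⁻¹ * w * x) := by group
          by_cases hxC : x ∈ centralizer ({a} : Set G)
          · rw [if_pos hxN, if_pos hxC, e1, hconja1 x hxC, (he_val _ (hconjw x hxN w hw)).2]
            ring
          · rw [if_pos hxN, if_neg hxC, e1, hconja2 x hxN hxC, inv_inv,
              (he_val _ (hconjw x hxN w hw)).1]
            ring
        · rw [if_neg hxN, if_neg (fun h => hxN (hCN h)), hout x hxN]; ring
      rw [Finset.sum_congr rfl (fun x _ => hform x), Finset.sum_add_distrib, hsumH, hsumH,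
        cfg.cardN, hC18]
      push_cast
      linear_combination (-18 : ℂ) * hωsum
  intro g
  by_cases hg : g ∈ S1G a b u
  · obtain ⟨z, hz⟩ := hg
    have hP : P1 a b u g = 3 := by
      rw [P1, Set.indicator_of_mem (show g ∈ S1G a b u from ⟨z, hz⟩)]
    rw [hP, ← indFun_isClassFunction (centralizer ({a} : Set G)) (fun _ => 1) g z,
      ← indFun_isClassFunction (centralizer ({a} : Set G)) l g z, hdiff, hkey _ hz, hC18]
    norm_num
  · rw [hdiff, P1, Set.indicator_of_notMem hg, Finset.sum_eq_zero, mul_zero]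
    intro x _
    by_contra h
    exact hg ⟨x⁻¹, by simpa using he_ne _ h⟩

example (hL : Cfsg.Agent.H4.Tn.StLam.{u}) (hC : Cfsg.Agent.H4.Tn.StCa.{u})
    (hS : Cfsg.Agent.H4.Tn.StS1.{u}) (hTI : Cfsg.Agent.H4.Tn.StTI.{u}) :
    Cfsg.Agent.H4.Tn.StGen.{u} := gen hL hC hS hTI

end Cfsg.Agent.H70.Tn
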