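import Cfsg.Agent.H4.TnDefs
import Cfsg.Agent.H4.CharBasic

/-!
# TN-RT3 (S3805 team project, lead helper4): character values at a real element of order 3
-/

set_option autoImplicit false

namespace Cfsg.Agent.H70.Tn

open Cfsg Cfsg.Agent.H4 Cfsg.Agent.H4.Tn

universe u

/-- A root of `X² + X + 1` in `ℂ`. -/
theorem exists_omega : ∃ ω : ℂ, ω ^ 2 + ω + 1 = 0 := by
  refine ⟨⟨-1 / 2, Real.sqrt 3 / 2⟩, ?_⟩
  have h3 : Real.sqrt 3 * Real.sqrt 3 = 3 := Real.mul_self_sqrt (by norm_num)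
  apply Complex.ext
  · simp [pow_two]
    nlinarith [h3]
  · simp [pow_two]
    ring

theorem rt3 : StRT3.{u} := by
  intro G _ _ χ hχ d g hd hg
  obtain ⟨n, ρ, rfl⟩ := hχ
  obtain ⟨ω, hω⟩ := exists_omega
  set ω' : ℂ := -1 - ω with hω'
  have hω'2 : ω' ^ 2 = ω := by rw [hω']; linear_combination hω
  have hω2 : ω ^ 2 = ω' := by rw [hω']; linear_combination hω
  have h1ω : (1 : ℂ) ≠ ω := by
    intro h; rw [← h] at hω; norm_num at hω
  have h1ω' : (1 : ℂ) ≠ ω' := by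
    intro h
    have : ω = -2 := by rw [hω'] at h; linear_combination h
    rw [this] at hω; norm_num at hω
  have hωω' : ω ≠ ω' := by
    intro h
    have : ω = -1 / 2 := by rw [hω'] at h; linear_combination h / 2
    rw [this] at hω; norm_num at hω
  have hsub : eigFinset ρ d ⊆ ({1, ω, ω'} : Finset ℂ) := by
    intro μ hμ
    have h1 := eigFinset_pow_orderOf ρ hμ
    have h2 : orderOf d ∣ 3 := orderOf_dvd_of_pow_eq_one hd
    obtain ⟨k, hk⟩ := h2
    have h3 : μ ^ 3 = 1 := by rw [hk, pow_mul, h1, one_pow]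
    have h4 : (μ - 1) * ((μ - ω) * (μ - ω')) = 0 := by
      rw [hω']; linear_combination h3 - (μ - 1) * hω
    rcases mul_eq_zero.mp h4 with h | h
    · simp [sub_eq_zero.mp h]
    · rcases mul_eq_zero.mp h with h | h
      · simp [sub_eq_zero.mp h]
      · simp [sub_eq_zero.mp h]
  have hz : ∀ μ ∈ ({1, ω, ω'} : Finset ℂ), μ ∉ eigFinset ρ d → eigMult ρ d μ = 0 := by
    intro μ _ hμ
    rw [mem_eigFinset, not_not] at hμ
    rw [eigMult, hμ, finrank_bot]
  have hsum : ∀ f : ℂ → ℂ, ∑ μ ∈ eigFinset ρ d, (eigMult ρ d μ : ℂ) * f μ =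
      (eigMult ρ d 1 : ℂ) * f 1 + ((eigMult ρ d ω : ℂ) * f ω + (eigMult ρ d ω' : ℂ) * f ω') := by
    intro f
    rw [Finset.sum_subset hsub (fun μ hμ hμ' => by rw [hz μ hμ hμ']; simp),
      Finset.sum_insert (by simp [h1ω, h1ω']), Finset.sum_pair hωω']
  have e0 := character_pow ρ d 0
  rw [pow_zero, hsum] at e0
  have e1 := character_eq_sum ρ d
  rw [hsum] at e1
  have e2 := character_pow ρ d 2
  rw [hsum] at e2
  have hd2 : d ^ 2 = g * d * g⁻¹ := by
    rw [hg]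
    exact eq_inv_of_mul_eq_one_left (by rw [← pow_succ, hd])
  rw [hd2, Representation.char_conj, e1, hω2, hω'2] at e2
  have hmm : (eigMult ρ d ω : ℂ) = (eigMult ρ d ω' : ℂ) := by
    have h5 : ((eigMult ρ d ω : ℂ) - (eigMult ρ d ω' : ℂ)) * (ω - ω') = 0 := by
      linear_combination e2
    rcases mul_eq_zero.mp h5 with h | h
    · exact sub_eq_zero.mp h
    · exact absurd (sub_eq_zero.mp h) hωω'
  refine ⟨eigMult ρ d 1, eigMult ρ d ω, ?_, ?_⟩
  · rw [e0, ← hmm]; ring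
  · rw [e1, ← hmm, hω']; ring

example : Cfsg.Agent.H4.Tn.StRT3.{u} := rt3

end Cfsg.Agent.H70.Tn
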