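import Cfsg.Agent.H58.UqDefs
import Cfsg.Agent.H52.SnDefs
import Cfsg.Agent.H70.SqCnt
import Cfsg.Agent.H14.Thompson

/-!
# UQ-SABS (helper58's project S2950), reduction to the GL piece of S2942

`V ⊴ X` elementary abelian, `X` 2-solvable, `O₂(X / C_X(V)) = 1`, `K ≤ J(X)` of order 3 modulo
`C_X(V)` with `|[V, K]| = 4`.  Then `J(X)` normalizes `[V, K]`: every elementary abelian subgroup
`A` of largest order normalizes `[V, K]` by the counting piece `Cfsg.Agent.H70.Sq.cnt` of S2945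
(its counting hypothesis is automatic for such `A`), since `K` and `K^a` commute modulo `C_X(V)`
(odd-order elements of `J(X)` commute modulo `C_X(V)`: piece GL of S2942).
-/

set_option autoImplicit false
open Cfsg
open scoped commutatorElement

namespace Cfsg.Agent.H70.Uq

open Cfsg.Agent.H58.Uq Cfsg.Agent.H52.Sn Cfsg.Agent.H70.Sq

universe u

/-- A subgroup acting as a group of order 3 on `V` is generated modulo `C(V)` by an element of
odd order. -/
theorem exists_odd_gen {G : Type u} [Group G] [Finite G] (V K O : Subgroup G)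
    (hKV : K ≤ Subgroup.normalizer (V : Set G)) (hOK : O ≤ K)
    (hOC : O ≤ Subgroup.centralizer (V : Set G)) (hidx : O.relIndex K = 3)
    (hKC : ¬ K ≤ Subgroup.centralizer (V : Set G)) :
    ∃ y ∈ K, Odd (orderOf y) ∧
      ∀ k' ∈ K, ∃ i : ℕ, (y ^ i)⁻¹ * k' ∈ Subgroup.centralizer (V : Set G) := by
  let ψ : ↥K →* MulAut ↥V := (conjV V).comp (Subgroup.inclusion hKV)
  have hker : ψ.ker = (Subgroup.centralizer (V : Set G)).subgroupOf K := by
    ext k'
    rw [MonoidHom.mem_ker, Subgroup.mem_subgroupOf]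
    exact conjV_eq_one_iff V (Subgroup.inclusion hKV k')
  have hrange : Nat.card ψ.range = 3 := by
    rw [← Subgroup.index_ker, hker]
    change (Subgroup.centralizer (V : Set G)).relIndex K = 3
    rw [← Subgroup.inf_relIndex_right]
    have h1 := Subgroup.relIndex_mul_relIndex (H := O)
      (K := Subgroup.centralizer (V : Set G) ⊓ K) (L := K) (le_inf hOC hOK) inf_le_right
    rw [hidx] at h1
    have h2 : (Subgroup.centralizer (V : Set G) ⊓ K).relIndex K ∣ 3 := Dvd.intro_left _ h1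
    rcases (Nat.dvd_prime Nat.prime_three).mp h2 with h3 | h3
    · exfalso
      apply hKC
      exact (Subgroup.relIndex_eq_one.mp h3).trans inf_le_left
    · exact h3
  obtain ⟨k, hkK, hkC⟩ := SetLike.not_le_iff_exists.mp hKC
  have hx0 : ψ ⟨k, hkK⟩ ≠ 1 := fun h =>
    hkC ((conjV_eq_one_iff V (Subgroup.inclusion hKV ⟨k, hkK⟩)).mp h)
  have hpow3 : ∀ z : ↥K, (ψ z) ^ 3 = 1 := by
    intro z
    have h1 : (⟨ψ z, ⟨z, rfl⟩⟩ : ↥ψ.range) ^ Nat.card ↥ψ.range = 1 := pow_card_eq_one'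
    rw [hrange] at h1
    exact congrArg Subtype.val h1
  have hord3 : ∀ z : ↥K, ψ z ≠ 1 → orderOf (ψ z) = 3 := by
    intro z hz
    have h1 : orderOf (ψ z) ∣ 3 := orderOf_dvd_of_pow_eq_one (hpow3 z)
    rcases (Nat.dvd_prime Nat.prime_three).mp h1 with h2 | h2
    · exact absurd (orderOf_eq_one_iff.mp h2) hz
    · exact h2
  have hk0 : orderOf k ≠ 0 := (orderOf_pos k).ne'
  obtain ⟨s, r, hr, hsr⟩ := Nat.exists_eq_two_pow_mul_odd hk0
  have hyK : k ^ (2 ^ s) ∈ K := K.pow_mem hkK _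
  have hyodd : Odd (orderOf (k ^ (2 ^ s))) := by
    have h1 : (k ^ (2 ^ s)) ^ r = 1 := by rw [← pow_mul, ← hsr, pow_orderOf_eq_one]
    exact Odd.of_dvd_nat hr (orderOf_dvd_of_pow_eq_one h1)
  have hψy : ψ ⟨k ^ (2 ^ s), hyK⟩ = (ψ ⟨k, hkK⟩) ^ (2 ^ s) := by
    rw [← map_pow]; rfl
  have hy1 : ψ ⟨k ^ (2 ^ s), hyK⟩ ≠ 1 := by
    intro h
    rw [hψy] at h
    have h1 : orderOf (ψ ⟨k, hkK⟩) ∣ 2 ^ s := orderOf_dvd_of_pow_eq_one h
    rw [hord3 _ hx0] at h1
    have h2 := Nat.Prime.dvd_of_dvd_pow Nat.prime_three h1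
    norm_num at h2
  have hzp : Subgroup.zpowers (ψ ⟨k ^ (2 ^ s), hyK⟩) = ψ.range := by
    apply Subgroup.eq_of_le_of_card_ge
    · rw [Subgroup.zpowers_le]; exact ⟨⟨k ^ (2 ^ s), hyK⟩, rfl⟩
    · rw [hrange, Nat.card_zpowers, hord3 _ hy1]
  refine ⟨k ^ (2 ^ s), hyK, hyodd, ?_⟩
  intro k' hk'
  have h1 : ψ ⟨k', hk'⟩ ∈ Subgroup.zpowers (ψ ⟨k ^ (2 ^ s), hyK⟩) := by
    rw [hzp]; exact ⟨⟨k', hk'⟩, rfl⟩
  have hfin : IsOfFinOrder (ψ ⟨k ^ (2 ^ s), hyK⟩) :=
    isOfFinOrder_iff_pow_eq_one.mpr ⟨3, by norm_num, hpow3 _⟩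
  rw [← hfin.mem_powers_iff_mem_zpowers] at h1
  obtain ⟨i, hi⟩ := (Submonoid.mem_powers_iff _ _).mp h1
  refine ⟨i, ?_⟩
  have h2 : ψ (((⟨k ^ (2 ^ s), hyK⟩ : ↥K) ^ i)⁻¹ * ⟨k', hk'⟩) = 1 := by
    rw [map_mul, map_inv, map_pow, hi, inv_mul_cancel]
  exact (conjV_eq_one_iff V (Subgroup.inclusion hKV _)).mp h2

theorem sAbs_of (hGL : StGL.{u}) : StSAbs.{u} := by
  intro X _ _ V _ hV hsol hO K O hKJ hOK hOC hidx hW4
  have hNV : Subgroup.normalizer (V : Set X) = ⊤ := Subgroup.normalizer_eq_top V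
  have hKV : K ≤ Subgroup.normalizer (V : Set X) := by rw [hNV]; exact le_top
  have hKC : ¬ K ≤ Subgroup.centralizer (V : Set X) := by
    intro hle
    have h1 : ⁅V, K⁆ = ⊥ := by
      rw [eq_bot_iff, Subgroup.commutator_le]
      intro v hv k' hk'
      rw [Subgroup.mem_bot, commutatorElement_eq_one_iff_commute]
      exact (Subgroup.mem_centralizer_iff.mp (hle hk') v hv)
    rw [h1, Subgroup.card_bot] at hW4
    norm_num at hW4
  obtain ⟨y, hyK, hyodd, hgen⟩ := exists_odd_gen V K O hKV hOK hOC hidx hKC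
  unfold thompsonSubgroup
  apply sSup_le
  intro A hA
  refine Cfsg.Agent.H70.Sq.cnt V K O A hV hA.1 (by rw [hNV]; exact le_top) hKV hOK hOC hidx hW4
    ?_ ?_
  · intro a ha
    have hyJ : y ∈ thompsonSubgroup 2 X := hKJ hyK
    have hy'J : a * y * a⁻¹ ∈ thompsonSubgroup 2 X := by
      have h1 := Cfsg.Agent.H14.thompson_map_equiv 2 (MulAut.conj a : X ≃* X)
      rw [← h1]
      exact ⟨y, hyJ, rfl⟩
    have hodd' : Odd (orderOf (a * y * a⁻¹)) := by
      have h1 := orderOf_injective (MulAut.conj a).toMonoidHom (MulAut.conj a).injective y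
      have h2 : (MulAut.conj a).toMonoidHom y = a * y * a⁻¹ := rfl
      rw [h2] at h1
      rw [h1]; exact hyodd
    have hcom := hGL V hV hsol hO y hyJ (a * y * a⁻¹) hy'J hyodd hodd'
    have hc0 : Commute ((y : X) : X ⧸ Subgroup.centralizer (V : Set X))
        ((a * y * a⁻¹ : X) : X ⧸ Subgroup.centralizer (V : Set X)) := by
      rw [← commutatorElement_eq_one_iff_commute]
      have h1 : (⁅((y : X) : X ⧸ Subgroup.centralizer (V : Set X)),
          ((a * y * a⁻¹ : X) : X ⧸ Subgroup.centralizer (V : Set X))⁆) =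
          ((⁅y, a * y * a⁻¹⁆ : X) : X ⧸ Subgroup.centralizer (V : Set X)) := rfl
      rw [h1, QuotientGroup.eq_one_iff]
      exact hcom
    rw [Subgroup.commutator_le]
    rintro g₁ hg₁ _ ⟨k₂, hk₂, rfl⟩
    obtain ⟨i, hi⟩ := hgen g₁ hg₁
    obtain ⟨j, hj⟩ := hgen k₂ hk₂
    have e1 : ((g₁ : X) : X ⧸ Subgroup.centralizer (V : Set X)) =
        ((y : X) : X ⧸ Subgroup.centralizer (V : Set X)) ^ i := by
      rw [← QuotientGroup.mk_pow]
      exact (QuotientGroup.eq.mpr hi).symm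
    have e3 : ((k₂ : X) : X ⧸ Subgroup.centralizer (V : Set X)) =
        ((y : X) : X ⧸ Subgroup.centralizer (V : Set X)) ^ j := by
      rw [← QuotientGroup.mk_pow]
      exact (QuotientGroup.eq.mpr hj).symm
    have e2 : (((MulAut.conj a).toMonoidHom k₂ : X) : X ⧸ Subgroup.centralizer (V : Set X)) =
        ((a * y * a⁻¹ : X) : X ⧸ Subgroup.centralizer (V : Set X)) ^ j := by
      show ((a * k₂ * a⁻¹ : X) : X ⧸ Subgroup.centralizer (V : Set X)) = _
      simp only [QuotientGroup.mk_mul, QuotientGroup.mk_inv, e3, conj_pow]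
    rw [← QuotientGroup.eq_one_iff]
    have h1 : ((⁅g₁, (MulAut.conj a).toMonoidHom k₂⁆ : X) : X ⧸ Subgroup.centralizer (V : Set X)) =
        ⁅((g₁ : X) : X ⧸ Subgroup.centralizer (V : Set X)),
          (((MulAut.conj a).toMonoidHom k₂ : X) : X ⧸ Subgroup.centralizer (V : Set X))⁆ := rfl
    rw [h1, commutatorElement_eq_one_iff_commute, e1, e2]
    exact hc0.pow_pow i j
  · intro V' B' hV' hB' hc
    exact hA.2 _ (Cfsg.Agent.H14.elemAb_sup (Cfsg.Agent.H14.elemAb_mono hV hV')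
      (Cfsg.Agent.H14.elemAb_mono hA.1 hB') hc)

example (hGL : StGL.{u}) : StSAbs.{u} := sAbs_of hGL

end Cfsg.Agent.H70.Uq
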