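import Cfsg.Agent.H9.XPAbs

/-!
# XP-DC (helper9's project S5746): the double coset count

Two double cosets `H a H`, `H b H` with two-point stabilisers of index 100 and 315 exhaust a group
of order `416 * |H|`; hence `H` is maximal and every `H ∩ H^x` (`x ∉ H`) is maximal in `H`.
-/

set_option autoImplicit false

universe u

namespace Cfsg.Agent.H70.XP

open Cfsg.Agent.H9.XP

variable {G : Type u} [Group G]

theorem mem_cj (H : Subgroup G) (x y : G) :
    y ∈ H.map (MulAut.conj x).toMonoidHom ↔ x⁻¹ * y * x ∈ H := by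
  constructor
  · rintro ⟨z, hz, rfl⟩
    simpa [MulAut.conj_apply, mul_assoc] using hz
  · intro h
    exact ⟨x⁻¹ * y * x, h, by simp [MulAut.conj_apply, mul_assoc]⟩

theorem stab_eq (H : Subgroup G) (x : G) :
    MulAction.stabilizer ↥H ((x : G) : G ⧸ H) =
      (H ⊓ H.map (MulAut.conj x).toMonoidHom).subgroupOf H := by
  ext ⟨h, hh⟩
  rw [MulAction.mem_stabilizer_iff, Subgroup.mem_subgroupOf, Subgroup.mem_inf, mem_cj]
  simp only [hh, true_and]
  change ((h * x : G) : G ⧸ H) = (x : G ⧸ H) ↔ _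
  rw [QuotientGroup.eq]
  constructor
  · intro hm
    have := H.inv_mem hm
    simpa [mul_assoc] using this
  · intro hm
    have := H.inv_mem hm
    simpa [mul_assoc] using this

theorem orb_ncard [Finite G] (H : Subgroup G) (x : G) :
    (MulAction.orbit ↥H ((x : G) : G ⧸ H)).ncard =
      ((H ⊓ H.map (MulAut.conj x).toMonoidHom).subgroupOf H).index := by
  rw [← stab_eq, MulAction.index_stabilizer]

/-- conjugating by an element of `H` on the left and multiplying by one on the right -/
theorem conj_coatom (H : Subgroup G) (c h h' : G) (hh : h ∈ H) (hh' : h' ∈ H)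
    (hco : IsCoatom ((H ⊓ H.map (MulAut.conj c).toMonoidHom).subgroupOf H)) :
    IsCoatom ((H ⊓ H.map (MulAut.conj (h * c * h')).toMonoidHom).subgroupOf H) := by
  have e : (H ⊓ H.map (MulAut.conj (h * c * h')).toMonoidHom).subgroupOf H =
      (MulEquiv.mapSubgroup (MulAut.conj (⟨h, hh⟩ : ↥H)))
        ((H ⊓ H.map (MulAut.conj c).toMonoidHom).subgroupOf H) := by
    ext ⟨y, hy⟩
    rw [MulEquiv.coe_mapSubgroup, Subgroup.mem_map]
    constructor
    · intro hm
      rw [Subgroup.mem_subgroupOf, Subgroup.mem_inf, mem_cj] at hm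
      refine ⟨⟨h⁻¹ * y * h, H.mul_mem (H.mul_mem (H.inv_mem hh) hy) hh⟩, ?_, ?_⟩
      · rw [Subgroup.mem_subgroupOf, Subgroup.mem_inf, mem_cj]
        refine ⟨H.mul_mem (H.mul_mem (H.inv_mem hh) hy) hh, ?_⟩
        have h2 := H.mul_mem (H.mul_mem hh' hm.2) (H.inv_mem hh')
        have e2 : h' * ((h * c * h')⁻¹ * y * (h * c * h')) * h'⁻¹ =
            c⁻¹ * (h⁻¹ * y * h) * c := by group
        rw [e2] at h2
        exact h2
      · apply Subtype.ext
        simp [MulAut.conj_apply, mul_assoc]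
    · rintro ⟨⟨z, hz⟩, hzm, hzy⟩
      rw [Subgroup.mem_subgroupOf, Subgroup.mem_inf, mem_cj] at hzm ⊢
      have hy' : y = h * z * h⁻¹ := by
        have := congrArg Subtype.val hzy
        simpa [MulAut.conj_apply] using this.symm
      refine ⟨hy, ?_⟩
      have h2 := H.mul_mem (H.mul_mem (H.inv_mem hh') hzm.2) hh'
      have e2 : (h * c * h')⁻¹ * y * (h * c * h') = h'⁻¹ * (c⁻¹ * z * c) * h' := by
        rw [hy']; group
      rw [e2]
      exact h2
  rw [e, OrderIso.isCoatom_iff]
  exact hco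

theorem dc : StDC.{u} := by
  intro G _ _ H U C a b hUH hUa hUc hUi hCH hCb hCc hCi hHa hHb hcard
  -- Step 1: the two-point stabilisers
  have key : ∀ (V : Subgroup G) (c : G), V ≤ H → V ≤ H.map (MulAut.conj c).toMonoidHom →
      IsCoatom (V.subgroupOf H) → ¬ H ≤ H.map (MulAut.conj c).toMonoidHom →
      (H ⊓ H.map (MulAut.conj c).toMonoidHom).subgroupOf H = V.subgroupOf H := by
    intro V c hVH hVc hco hn
    have hle : V.subgroupOf H ≤ (H ⊓ H.map (MulAut.conj c).toMonoidHom).subgroupOf H := by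
      intro y hy
      rw [Subgroup.mem_subgroupOf] at hy ⊢
      exact ⟨hVH hy, hVc hy⟩
    by_contra hne
    have hlt : V.subgroupOf H < (H ⊓ H.map (MulAut.conj c).toMonoidHom).subgroupOf H :=
      lt_of_le_of_ne hle (Ne.symm hne)
    have htop := hco.2 _ hlt
    apply hn
    intro y hy
    have : (⟨y, hy⟩ : H) ∈ (H ⊓ H.map (MulAut.conj c).toMonoidHom).subgroupOf H := by
      rw [htop]; trivial
    rw [Subgroup.mem_subgroupOf] at this
    exact this.2
  have hDa := key U a hUH hUa hUc hHa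
  have hDb := key C b hCH hCb hCc hHb
  have hcoa : IsCoatom ((H ⊓ H.map (MulAut.conj a).toMonoidHom).subgroupOf H) := by
    rw [hDa]; exact hUc
  have hcob : IsCoatom ((H ⊓ H.map (MulAut.conj b).toMonoidHom).subgroupOf H) := by
    rw [hDb]; exact hCc
  -- Step 2: orbits
  have ha100 : (MulAction.orbit ↥H ((a : G) : G ⧸ H)).ncard = 100 := by
    rw [orb_ncard, hDa, hUi]
  have hb315 : (MulAction.orbit ↥H ((b : G) : G ⧸ H)).ncard = 315 := by
    rw [orb_ncard, hDb, hCi]
  have h1 : MulAction.orbit ↥H (((1 : G) : G ⧸ H)) = {((1 : G) : G ⧸ H)} := by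
    ext q
    rw [MulAction.mem_orbit_iff, Set.mem_singleton_iff]
    constructor
    · rintro ⟨⟨h, hh⟩, rfl⟩
      change ((h * 1 : G) : G ⧸ H) = ((1 : G) : G ⧸ H)
      rw [QuotientGroup.eq]
      simpa using hh
    · rintro rfl
      exact ⟨1, one_smul _ _⟩
  have h1c : (MulAction.orbit ↥H (((1 : G) : G ⧸ H))).ncard = 1 := by
    rw [h1, Set.ncard_singleton]
  have hHpos : 0 < Nat.card H := Nat.card_pos
  have hidx : H.index = 416 := by
    have := Subgroup.card_mul_index H
    rw [hcard, mul_comm 416] at this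
    exact Nat.eq_of_mul_eq_mul_left hHpos this
  have hcardQ : Nat.card (G ⧸ H) = 416 := hidx
  -- disjointness
  have hdisj : ∀ (x y : G), (MulAction.orbit ↥H ((x : G) : G ⧸ H)).ncard ≠
      (MulAction.orbit ↥H ((y : G) : G ⧸ H)).ncard →
      Disjoint (MulAction.orbit ↥H ((x : G) : G ⧸ H)) (MulAction.orbit ↥H ((y : G) : G ⧸ H)) := by
    intro x y hne
    rw [Set.disjoint_left]
    intro q hqx hqy
    apply hne
    rw [← MulAction.orbit_eq_iff.mpr hqx, ← MulAction.orbit_eq_iff.mpr hqy]
  have d1a := hdisj 1 a (by rw [h1c, ha100]; norm_num)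
  have d1b := hdisj 1 b (by rw [h1c, hb315]; norm_num)
  have dab := hdisj a b (by rw [ha100, hb315]; norm_num)
  have hT : MulAction.orbit ↥H (((1 : G) : G ⧸ H)) ∪ MulAction.orbit ↥H ((a : G) : G ⧸ H) ∪
      MulAction.orbit ↥H ((b : G) : G ⧸ H) = Set.univ := by
    apply Set.eq_of_subset_of_ncard_le (Set.subset_univ _)
    rw [Set.ncard_univ, hcardQ, Set.ncard_union_eq (Set.disjoint_union_left.mpr ⟨d1b, dab⟩),
      Set.ncard_union_eq d1a, h1c, ha100, hb315]
  -- the cover
  have hcover : ∀ x : G, x ∈ H ∨ (∃ h ∈ H, ∃ h' ∈ H, x = h * a * h') ∨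
      (∃ h ∈ H, ∃ h' ∈ H, x = h * b * h') := by
    intro x
    have hx : ((x : G) : G ⧸ H) ∈ MulAction.orbit ↥H (((1 : G) : G ⧸ H)) ∪
        MulAction.orbit ↥H ((a : G) : G ⧸ H) ∪ MulAction.orbit ↥H ((b : G) : G ⧸ H) := by
      rw [hT]; trivial
    rcases hx with (hx1 | hxa) | hxb
    · left
      obtain ⟨⟨h, hh⟩, hq⟩ := hx1
      change ((h * 1 : G) : G ⧸ H) = (x : G ⧸ H) at hq
      rw [QuotientGroup.eq] at hq
      have := H.mul_mem hh hq
      simpa using this
    · right; left
      obtain ⟨⟨h, hh⟩, hq⟩ := hxa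
      change ((h * a : G) : G ⧸ H) = (x : G ⧸ H) at hq
      rw [QuotientGroup.eq] at hq
      exact ⟨h, hh, (h * a)⁻¹ * x, hq, by group⟩
    · right; right
      obtain ⟨⟨h, hh⟩, hq⟩ := hxb
      change ((h * b : G) : G ⧸ H) = (x : G ⧸ H) at hq
      rw [QuotientGroup.eq] at hq
      exact ⟨h, hh, (h * b)⁻¹ * x, hq, by group⟩
  refine ⟨⟨?_, ?_⟩, ?_⟩
  · intro htop
    rw [htop, Subgroup.index_top] at hidx
    omega
  · intro K hHK
    have hle : H ≤ K := hHK.le
    -- counting lemma
    have aux : ∀ (c d : G) (n : ℕ), ¬ (1 + n ∣ 416) →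
        (MulAction.orbit ↥H ((c : G) : G ⧸ H)).ncard = n →
        Disjoint (MulAction.orbit ↥H (((1 : G) : G ⧸ H))) (MulAction.orbit ↥H ((c : G) : G ⧸ H)) →
        (∀ x : G, x ∈ H ∨ (∃ h ∈ H, ∃ h' ∈ H, x = h * c * h') ∨
          (∃ h ∈ H, ∃ h' ∈ H, x = h * d * h')) →
        c ∈ K → d ∉ K → False := by
      intro c d n hn hcn hdis hcov hcK hdK
      set S : Set (G ⧸ H) := (QuotientGroup.mk : G → G ⧸ H) '' (K : Set G) with hS
      have hpre : (QuotientGroup.mk : G → G ⧸ H) ⁻¹' S = (K : Set G) := by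
        ext x
        constructor
        · rintro ⟨k, hk, hkx⟩
          rw [QuotientGroup.eq] at hkx
          have := K.mul_mem hk (hle hkx)
          simpa using this
        · intro hx
          exact ⟨x, hx, rfl⟩
      have hcardK : Nat.card K = Nat.card H * Nat.card S := by
        rw [← QuotientGroup.card_preimage_mk, hpre]
        rfl
      have hSeq : S = MulAction.orbit ↥H (((1 : G) : G ⧸ H)) ∪
          MulAction.orbit ↥H ((c : G) : G ⧸ H) := by
        ext q
        constructor
        · rintro ⟨k, hk, rfl⟩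
          rcases hcov k with hkH | ⟨h, hh, h', hh', hkeq⟩ | ⟨h, hh, h', hh', hkeq⟩
          · left
            refine ⟨⟨k, hkH⟩, ?_⟩
            change ((k * 1 : G) : G ⧸ H) = (k : G ⧸ H)
            rw [mul_one]
          · right
            refine ⟨⟨h, hh⟩, ?_⟩
            change ((h * c : G) : G ⧸ H) = (k : G ⧸ H)
            rw [QuotientGroup.eq, hkeq]
            have e2 : (h * c)⁻¹ * (h * c * h') = h' := by group
            rw [e2]; exact hh'
          · exfalso
            apply hdK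
            have e2 : d = h⁻¹ * k * h'⁻¹ := by rw [hkeq]; group
            rw [e2]
            exact K.mul_mem (K.mul_mem (K.inv_mem (hle hh)) hk) (K.inv_mem (hle hh'))
        · rintro (⟨⟨h, hh⟩, rfl⟩ | ⟨⟨h, hh⟩, rfl⟩)
          · exact ⟨h * 1, by simpa using hle hh, rfl⟩
          · exact ⟨h * c, K.mul_mem (hle hh) hcK, rfl⟩
      have hSn : Nat.card S = 1 + n := by
        rw [Nat.card_coe_set_eq, hSeq, Set.ncard_union_eq hdis, h1c, hcn]
      rw [hSn] at hcardK
      have hdvd : Nat.card K ∣ Nat.card G := Subgroup.card_subgroup_dvd_card K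
      rw [hcardK, hcard, mul_comm 416] at hdvd
      exact hn (Nat.dvd_of_mul_dvd_mul_left hHpos hdvd)
    by_cases haK : a ∈ K
    · by_cases hbK : b ∈ K
      · rw [eq_top_iff]
        intro x _
        rcases hcover x with hxH | ⟨h, hh, h', hh', rfl⟩ | ⟨h, hh, h', hh', rfl⟩
        · exact hle hxH
        · exact K.mul_mem (K.mul_mem (hle hh) haK) (hle hh')
        · exact K.mul_mem (K.mul_mem (hle hh) hbK) (hle hh')
      · exact (aux a b 100 (by norm_num) ha100 d1a hcover haK hbK).elim
    · by_cases hbK : b ∈ K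
      · refine (aux b a 315 (by norm_num) hb315 d1b ?_ hbK haK).elim
        intro x
        rcases hcover x with hxH | hxa | hxb
        · exact Or.inl hxH
        · exact Or.inr (Or.inr hxa)
        · exact Or.inr (Or.inl hxb)
      · exfalso
        apply hHK.not_ge
        intro x hx
        rcases hcover x with hxH | ⟨h, hh, h', hh', rfl⟩ | ⟨h, hh, h', hh', rfl⟩
        · exact hxH
        · exfalso
          apply haK
          have e2 : a = h⁻¹ * (h * a * h') * h'⁻¹ := by group
          rw [e2]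
          exact K.mul_mem (K.mul_mem (K.inv_mem (hle hh)) hx) (K.inv_mem (hle hh'))
        · exfalso
          apply hbK
          have e2 : b = h⁻¹ * (h * b * h') * h'⁻¹ := by group
          rw [e2]
          exact K.mul_mem (K.mul_mem (K.inv_mem (hle hh)) hx) (K.inv_mem (hle hh'))
  · intro x hx
    rcases hcover x with hxH | ⟨h, hh, h', hh', rfl⟩ | ⟨h, hh, h', hh', rfl⟩
    · exact (hx hxH).elim
    · exact conj_coatom H a h h' hh hh' hcoa
    · exact conj_coatom H b h h' hh hh' hcob

end Cfsg.Agent.H70.XP
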